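import Cfsg.Agent.Lib.QuadAct.FFOmega

/-!
# Failure of Thompson factorization in `p`-separable groups
-/

set_option autoImplicit false
set_option linter.unusedSectionVars false
set_option linter.unusedSimpArgs false
set_option linter.style.haveILetI false

open scoped commutatorElement
open Module

namespace Cfsg.Agent.Lib.QuadAct.FFFail

open Cfsg.Agent.Lib.QuadAct.FFQuot Cfsg.Agent.Lib.QuadAct.FFOmega
open Cfsg.Agent.Lib.QuadAct.Replacement Cfsg.Agent.Lib.QuadAct.Basic
open Cfsg.Agent.Lib.QuadAct.Stable Cfsg.Agent.Lib.QuadAct.OmegaZ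
open Cfsg.Agent.Lib.Core.Basic Cfsg.Agent.Lib.Core.PSolvable
open Cfsg.Agent.Lib.QuadAct.ZJ

universe u

variable {G : Type u} [Group G] [Finite G] {p : ℕ} [Fact p.Prime]

/-- The subgroup `V = ⟨Ω₁(Z(S)) | S ∈ Syl_p(G)⟩`. -/
def omegaV (p : ℕ) (G : Type u) [Group G] : Subgroup G :=
  ⨆ S : Sylow p G, Cfsg.omegaOne p ((S : Subgroup G) ⊓ Subgroup.centralizer ((S : Subgroup G) : Set G))

theorem omegaOne_conj_le (g : G) (S : Sylow p G) :
    (Cfsg.omegaOne p ((S : Subgroup G) ⊓ Subgroup.centralizer ((S : Subgroup G) : Set G))).map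
      (MulAut.conj g).toMonoidHom ≤ omegaV p G := by
  unfold Cfsg.omegaOne
  rw [MonoidHom.map_closure, Subgroup.closure_le]
  rintro _ ⟨x, ⟨⟨hx1, hx2⟩, hx3⟩, rfl⟩
  have hS : (((g • S : Sylow p G) : Subgroup G)) = (S : Subgroup G).map (MulAut.conj g).toMonoidHom := by
    rw [Sylow.coe_subgroup_smul, Subgroup.pointwise_smul_def]
    rfl
  refine Subgroup.mem_iSup_of_mem (g • S) (Subgroup.subset_closure ⟨⟨?_, ?_⟩, ?_⟩)
  · rw [hS]
    exact Subgroup.mem_map_of_mem _ hx1
  · rw [hS]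
    refine Subgroup.mem_centralizer_iff.mpr ?_
    rintro _ ⟨s, hs, rfl⟩
    have := Subgroup.mem_centralizer_iff.mp hx2 s hs
    show g * s * g⁻¹ * (g * x * g⁻¹) = g * x * g⁻¹ * (g * s * g⁻¹)
    calc g * s * g⁻¹ * (g * x * g⁻¹) = g * (s * x) * g⁻¹ := by group
      _ = g * (x * s) * g⁻¹ := by rw [this]
      _ = _ := by group
  · show (g * x * g⁻¹) ^ p = 1
    rw [conj_pow, hx3]
    simp

theorem omegaV_normal : (omegaV p G).Normal := by
  constructor
  intro n hn g
  have h : (omegaV p G).map (MulAut.conj g).toMonoidHom ≤ omegaV p G := by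
    unfold omegaV
    rw [Subgroup.map_iSup]
    exact iSup_le fun S => omegaOne_conj_le g S
  exact h ⟨n, hn, rfl⟩

theorem omegaV_ea (hsep : Cfsg.IsPSolvable p G) (hO : Cfsg.pPrimeCore p G = ⊥) :
    Cfsg.IsElementaryAbelian p (omegaV p G) := by
  set P := Cfsg.pCore p G with hP
  have hc : Subgroup.centralizer (P : Set G) ≤ P := centralizer_pCore_le_of_isPSolvable hsep hO
  have h1 : omegaV p G ≤ Cfsg.omegaOne p (P ⊓ Subgroup.centralizer (P : Set G)) := by
    refine iSup_le fun S => Subgroup.closure_mono ?_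
    rintro x ⟨⟨hx1, hx2⟩, hx3⟩
    have hPS : P ≤ S := pCore_le_sylow S
    have hxP : x ∈ Subgroup.centralizer (P : Set G) := Subgroup.centralizer_le hPS hx2
    exact ⟨⟨hc hxP, hxP⟩, hx3⟩
  refine IsElementaryAbelian_of_le ?_ h1
  refine isElementaryAbelian_closure ?_ ?_
  · rintro x ⟨⟨hx1, -⟩, -⟩ y ⟨⟨-, hy2⟩, -⟩
    exact Subgroup.mem_centralizer_iff.mp hy2 x hx1
  · rintro x ⟨-, hx⟩
    exact hx

/-- `O_p(G/C) = 1`. -/
theorem omegaV_pCore : 
    haveI : (omegaV p G).Normal := omegaV_normal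
    Cfsg.pCore p (G ⧸ Subgroup.centralizer ((omegaV p G : Subgroup G) : Set G)) = ⊥ := by
  haveI : (omegaV p G).Normal := omegaV_normal
  set V := omegaV p G with hV
  rw [eq_bot_iff]
  intro q hq
  obtain ⟨t, rfl⟩ := QuotientGroup.mk_surjective q
  rw [Subgroup.mem_bot, QuotientGroup.eq_one_iff]
  have hall : ∀ S : Sylow p G, Cfsg.omegaOne p ((S : Subgroup G) ⊓ Subgroup.centralizer ((S : Subgroup G) : Set G)) ≤
      Subgroup.centralizer ({t} : Set G) := by
    intro S
    let S' : Sylow p (G ⧸ Subgroup.centralizer (V : Set G)) := S.mapSurjective (piV_surj (V := V))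
    have hS' : (S' : Subgroup (G ⧸ Subgroup.centralizer (V : Set G))) = (S : Subgroup G).map (piV V) :=
      Sylow.coe_mapSurjective _ S
    have h1 : (QuotientGroup.mk t : G ⧸ Subgroup.centralizer (V : Set G)) ∈
        (S' : Subgroup (G ⧸ Subgroup.centralizer (V : Set G))) := pCore_le_sylow S' hq
    rw [hS'] at h1
    obtain ⟨s, hs, hst⟩ := h1
    have hc : s⁻¹ * t ∈ Subgroup.centralizer (V : Set G) := by
      rw [← QuotientGroup.eq]
      exact hst
    have hle : Cfsg.omegaOne p ((S : Subgroup G) ⊓ Subgroup.centralizer ((S : Subgroup G) : Set G)) ≤ V :=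
      le_iSup (fun S : Sylow p G => Cfsg.omegaOne p ((S : Subgroup G) ⊓ Subgroup.centralizer ((S : Subgroup G) : Set G))) S
    intro w hw
    rw [Subgroup.mem_centralizer_singleton_iff]
    have h2 : w * (s⁻¹ * t) = (s⁻¹ * t) * w := Subgroup.mem_centralizer_iff.mp hc w (hle hw)
    have hwZ : w ∈ Subgroup.centralizer ((S : Subgroup G) : Set G) := by
      revert hw
      refine fun hw => (Subgroup.closure_le (Subgroup.centralizer ((S : Subgroup G) : Set G))).mpr ?_ hw
      rintro x ⟨⟨-, hx⟩, -⟩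
      exact hx
    have h3 : s * w = w * s := Subgroup.mem_centralizer_iff.mp hwZ s hs
    calc w * t = w * (s * (s⁻¹ * t)) := by group
      _ = s * (w * (s⁻¹ * t)) := by rw [← mul_assoc, ← h3, mul_assoc]
      _ = s * ((s⁻¹ * t) * w) := by rw [h2]
      _ = t * w := by group
  have hV' : V ≤ Subgroup.centralizer ({t} : Set G) := iSup_le hall
  refine Subgroup.mem_centralizer_iff.mpr fun v hv => ?_
  exact Subgroup.mem_centralizer_singleton_iff.mp (hV' hv)

/-- If `J(G)` centralizes `V`, then factorization holds. -/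
theorem factorizable_of_le (V : Subgroup G) [V.Normal]
    (hle : ∀ S : Sylow p G, Cfsg.omegaOne p ((S : Subgroup G) ⊓ Subgroup.centralizer ((S : Subgroup G) : Set G)) ≤ V)
    (hJ : Cfsg.thompsonSubgroup p G ≤ Subgroup.centralizer (V : Set G)) :
    Cfsg.IsThompsonFactorizable p G := by
  intro S g
  set C := Subgroup.centralizer (V : Set G) with hC
  have hJS : Cfsg.thompsonSubgroupOf p (S : Subgroup G) ≤ C :=
    thompsonSubgroupOf_le S fun A hA _ => (le_sSup hA).trans hJ
  obtain ⟨n, hn, c, hc, hgn⟩ := exists_mul_of_sylow S C g⁻¹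
  have hn' := normalizer_inf_le S C hJS hn
  refine ⟨1, Subgroup.one_mem _, c⁻¹, ?_, n⁻¹, Subgroup.inv_mem _ hn', ?_⟩
  · have h1 : Subgroup.centralizer ((V : Subgroup G) : Set G) ≤
        Subgroup.centralizer ((Cfsg.omegaOne p ((S : Subgroup G) ⊓ Subgroup.centralizer ((S : Subgroup G) : Set G)) : Subgroup G) : Set G) :=
      Subgroup.centralizer_le (hle S)
    exact h1 (C.inv_mem hc)
  · have : g = (n * c)⁻¹ := by rw [← hgn, inv_inv]
    rw [this]
    group

/-- Passing to the preimage of a subgroup of a quotient. -/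
theorem comap_quot {Q : Type*} [Group Q] (π : G →* Q) (hπ : Function.Surjective π) (E₀ : Subgroup Q)
    {C : Subgroup G} [C.Normal] (hC : π.ker = C) :
    ∃ _ : (C.subgroupOf (E₀.comap π)).Normal,
      Nonempty ((↥(E₀.comap π) ⧸ C.subgroupOf (E₀.comap π)) ≃* E₀) := by
  refine ⟨inferInstance, ?_⟩
  let φ : E₀.comap π →* E₀ := π.subgroupComap E₀
  have hφ : Function.Surjective φ := π.subgroupComap_surjective_of_surjective E₀ hπ
  have hk : φ.ker = C.subgroupOf (E₀.comap π) := by
    ext x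
    rw [MonoidHom.mem_ker, Subgroup.mem_subgroupOf, ← hC, MonoidHom.mem_ker]
    constructor
    · intro h
      exact congrArg Subtype.val h
    · intro h
      exact Subtype.ext h
  exact ⟨(QuotientGroup.quotientMulEquivOfEq hk.symm).trans
    (QuotientGroup.quotientKerEquivOfSurjective φ hφ)⟩

/-- S0618. -/
theorem s0618 (hsep : Cfsg.IsPSolvable p G) (hO : Cfsg.pPrimeCore p G = ⊥)
    (hnf : ¬ Cfsg.IsThompsonFactorizable p G) :
    (p = 2 ∨ p = 3) ∧ ∃ E : Subgroup G, Subgroup.centralizer ((omegaV p G : Subgroup G) : Set G) ≤ E ∧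
      E ≤ Cfsg.thompsonSubgroup p G ⊔ Subgroup.centralizer ((omegaV p G : Subgroup G) : Set G) ∧
      Cfsg.thompsonSubgroup p G ⊔ Subgroup.centralizer ((omegaV p G : Subgroup G) : Set G) ≤ Subgroup.normalizer (E : Set G) ∧
      ∃ hn : ((Subgroup.centralizer ((omegaV p G : Subgroup G) : Set G)).subgroupOf E).Normal,
        Nonempty ((↥E ⧸ (Subgroup.centralizer ((omegaV p G : Subgroup G) : Set G)).subgroupOf E) ≃* Matrix.SpecialLinearGroup (Fin 2) (ZMod p)) := by
  haveI hVn : (omegaV p G).Normal := omegaV_normal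
  set V := omegaV p G with hV
  have hVe : Cfsg.IsElementaryAbelian p V := omegaV_ea hsep hO
  have hpc : Cfsg.pCore p (G ⧸ Subgroup.centralizer (V : Set G)) = ⊥ := omegaV_pCore
  have hJ : ¬ Cfsg.thompsonSubgroup p G ≤ Subgroup.centralizer (V : Set G) := fun h =>
    hnf (factorizable_of_le V (fun S => le_iSup (fun S : Sylow p G => Cfsg.omegaOne p ((S : Subgroup G) ⊓ Subgroup.centralizer ((S : Subgroup G) : Set G))) S) h)
  obtain ⟨hp, E₀, hE₀J, hE₀N, ⟨e⟩⟩ := exists_factor_J hsep hVe hpc hJ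
  set C := Subgroup.centralizer (V : Set G) with hC
  have hkerC : (piV V).ker = C := piV_ker
  set J := Cfsg.thompsonSubgroup p G with hJdef
  refine ⟨hp, E₀.comap (piV V), ?_, ?_, ?_, ?_⟩
  · rw [← hkerC]
    intro x hx
    rw [Subgroup.mem_comap, MonoidHom.mem_ker.mp hx]
    exact E₀.one_mem
  · have h1 := Subgroup.comap_mono (f := piV V) hE₀J
    rwa [Subgroup.comap_map_eq, hkerC] at h1
  · intro g hg
    have h1 : piV V g ∈ J.map (piV V) := by
      rw [← hkerC, ← Subgroup.comap_map_eq] at hg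
      exact hg
    have h2 := hE₀N h1
    rw [Subgroup.mem_normalizer_iff] at h2 ⊢
    intro x
    have h3 := h2 (piV V x)
    simp only [Subgroup.mem_comap, map_mul, map_inv]
    exact h3
  · obtain ⟨hn, ⟨e'⟩⟩ := comap_quot (piV V) piV_surj E₀ hkerC
    exact ⟨hn, ⟨e'.trans e⟩⟩

theorem centralizer_union_eq :
    Subgroup.centralizer ((⨆ S : Sylow p G, Cfsg.omegaOne p ((S : Subgroup G) ⊓ Subgroup.centralizer ((S : Subgroup G) : Set G))) : Set G) =
      Subgroup.centralizer ((omegaV p G : Subgroup G) : Set G) := by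
  ext t
  rw [Subgroup.mem_centralizer_iff, Subgroup.mem_centralizer_iff]
  constructor
  · intro h v hv
    have h1 : omegaV p G ≤ Subgroup.centralizer ({t} : Set G) := by
      refine iSup_le fun S w hw => ?_
      rw [Subgroup.mem_centralizer_singleton_iff]
      have h2 := h w (Set.mem_iUnion.mpr ⟨S, hw⟩)
      exact h2
    exact Subgroup.mem_centralizer_singleton_iff.mp (h1 hv)
  · intro h v hv
    obtain ⟨S, hS⟩ := Set.mem_iUnion.mp hv
    exact h v (le_iSup (fun S : Sylow p G => Cfsg.omegaOne p ((S : Subgroup G) ⊓ Subgroup.centralizer ((S : Subgroup G) : Set G))) S hS)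

end Cfsg.Agent.Lib.QuadAct.FFFail
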