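import Cfsg.Agent.Lib.Coprime.Generation2
import Cfsg.Agent.Lib.Core.Basic
import Cfsg.Agent.Lib.QuadAct.Replacement

/-!
# Best offenders on a faithful module: the hyperplane lemma

We work with a finite group `Γ` acting faithfully on a finite `𝔽_p`-module `M`.
-/

set_option autoImplicit false
set_option linter.unusedSectionVars false
set_option linter.unusedSimpArgs false
set_option linter.style.haveILetI false

open scoped commutatorElement

namespace Cfsg.Agent.Lib.QuadAct.FFBasic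

open Cfsg.Agent.Lib.Core.Basic Cfsg.Agent.Lib.Coprime.Generation2
open Cfsg.Agent.Lib.Coprime.Action

universe u v

variable {p : ℕ} {Γ : Type u} [Group Γ] {M : Type v} [AddCommGroup M] [Module (ZMod p) M]

/-- The fixed points of a subgroup. -/
def fix (ρ : Γ →* Module.End (ZMod p) M) (A : Subgroup Γ) : Submodule (ZMod p) M where
  carrier := {m | ∀ g ∈ A, ρ g m = m}
  add_mem' := by
    intro x y hx hy g hg
    rw [map_add, hx g hg, hy g hg]
  zero_mem' := by
    intro g _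
    exact map_zero _
  smul_mem' := by
    intro c x hx g hg
    rw [map_smul, hx g hg]

theorem mem_fix {ρ : Γ →* Module.End (ZMod p) M} {A : Subgroup Γ} {m : M} :
    m ∈ fix ρ A ↔ ∀ g ∈ A, ρ g m = m := Iff.rfl

theorem fix_anti {ρ : Γ →* Module.End (ZMod p) M} {A B : Subgroup Γ} (h : A ≤ B) :
    fix ρ B ≤ fix ρ A := fun _ hm g hg => hm g (h hg)

@[simp] theorem fix_bot (ρ : Γ →* Module.End (ZMod p) M) : fix ρ ⊥ = ⊤ := by
  rw [eq_top_iff]
  intro m _ g hg
  rw [Subgroup.mem_bot] at hg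
  rw [hg, map_one]
  rfl

/-- The quantity `|A| |C_M(A)|`. -/
noncomputable def jj (ρ : Γ →* Module.End (ZMod p) M) (A : Subgroup Γ) : ℕ :=
  Nat.card A * Nat.card (fix ρ A)

/-- Best offenders. -/
structure Best (ρ : Γ →* Module.End (ZMod p) M) (A : Subgroup Γ) : Prop where
  le : ∀ B ≤ A, jj ρ B ≤ jj ρ A
  ea : Cfsg.IsElementaryAbelian p A

theorem Best.of_le_of_eq {ρ : Γ →* Module.End (ZMod p) M} {A B : Subgroup Γ} (hA : Best ρ A)
    (hB : B ≤ A) (h : jj ρ B = jj ρ A) : Best ρ B := by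
  refine ⟨fun C hC => ?_, ?_⟩
  · rw [h]
    exact hA.le C (hC.trans hB)
  · have := hA.ea.1
    refine ⟨⟨⟨?_⟩⟩, fun a ha => hA.ea.2 a (hB ha)⟩
    rintro ⟨x, hx⟩ ⟨y, hy⟩
    apply Subtype.ext
    have := mul_comm' (⟨x, hB hx⟩ : A) (⟨y, hB hy⟩ : A)
    show x * y = y * x
    exact congrArg Subtype.val this

section finite

variable [Fact p.Prime] [Finite M]

theorem pow_smul_eq (x : M) : p • x = 0 := by
  have : (p : ZMod p) • x = 0 := by simp
  rwa [Nat.cast_smul_eq_nsmul] at this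

/-- A proper submodule has index at least `p`. -/
theorem card_mul_le_of_lt {S U : Submodule (ZMod p) M} (h : S < U) :
    Nat.card S * p ≤ Nat.card U := by
  have hp : p.Prime := Fact.out
  haveI : Module.Finite (ZMod p) M := Module.Finite.of_finite
  have h1 := Submodule.finrank_lt_finrank_of_lt h
  have e1 : Nat.card S = p ^ Module.finrank (ZMod p) S := by
    rw [Module.natCard_eq_pow_finrank (K := ZMod p), Nat.card_zmod]
  have e2 : Nat.card U = p ^ Module.finrank (ZMod p) U := by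
    rw [Module.natCard_eq_pow_finrank (K := ZMod p), Nat.card_zmod]
  rw [e1, e2, ← pow_succ]
  exact Nat.pow_le_pow_right hp.pos h1

/-- A `p`-group acting on a nonzero invariant submodule fixes a nonzero vector. -/
theorem exists_fixed_ne_zero [Finite Γ] (ρ : Γ →* Module.End (ZMod p) M) {R : Subgroup Γ}
    (hR : IsPGroup p R) (W : Submodule (ZMod p) M) (hW : ∀ r ∈ R, ∀ w ∈ W, ρ r w ∈ W)
    (hne : W ≠ ⊥) : ∃ m ∈ W, m ≠ 0 ∧ ∀ r ∈ R, ρ r m = m := by
  have hp : p.Prime := Fact.out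
  letI : MulAction R W :=
    { smul := fun r w => ⟨ρ r w, hW r r.2 w w.2⟩
      one_smul := fun w => by
        apply Subtype.ext
        show ρ (1 : Γ) w = w
        rw [map_one]
        rfl
      mul_smul := fun r s w => by
        apply Subtype.ext
        show ρ ((r : Γ) * s) w = ρ r (ρ s w)
        rw [map_mul]
        rfl }
  have hdvd : p ∣ Nat.card W := by
    obtain ⟨w, hw, hw0⟩ := (Submodule.ne_bot_iff W).mp hne
    have h1 : addOrderOf (⟨w, hw⟩ : W) = p := by
      apply addOrderOf_eq_prime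
      · apply Subtype.ext
        exact pow_smul_eq w
      · intro h
        exact hw0 (congrArg Subtype.val h)
    have h2 := addOrderOf_dvd_natCard (⟨w, hw⟩ : W)
    rwa [h1] at h2
  have h0 : (0 : W) ∈ MulAction.fixedPoints R W := by
    intro r
    apply Subtype.ext
    show ρ r (0 : M) = 0
    exact map_zero _
  obtain ⟨m, hm, hne'⟩ := hR.exists_fixed_point_of_prime_dvd_card_of_fixed_point W hdvd h0
  refine ⟨m, m.2, fun h => hne' (Subtype.ext h.symm), fun r hr => ?_⟩
  exact congrArg Subtype.val (hm ⟨r, hr⟩)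

/-- Thompson's `A × B` lemma, in module form. -/
theorem ab_lemma [Finite Γ] (ρ : Γ →* Module.End (ZMod p) M) {R : Subgroup Γ} (hR : IsPGroup p R)
    {y : Γ} (hy : (orderOf y).Coprime p) (hc : ∀ r ∈ R, r * y = y * r)
    (hfix : ∀ m ∈ fix ρ R, ρ y m = m) : ρ y = 1 := by
  have hp : p.Prime := Fact.out
  set τ : Module.End (ZMod p) M := ρ y - 1 with hτ
  set W : Submodule (ZMod p) M := LinearMap.range τ with hWdef
  have hinv : ∀ r ∈ R, ∀ w ∈ W, ρ r w ∈ W := by
    rintro r hr _ ⟨u, rfl⟩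
    refine ⟨ρ r u, ?_⟩
    have h1 : ρ y * ρ r = ρ r * ρ y := by rw [← map_mul, ← map_mul, hc r hr]
    show (ρ y - 1) (ρ r u) = ρ r ((ρ y - 1) u)
    have h2 : ρ y (ρ r u) = ρ r (ρ y u) := congrArg (fun T : Module.End (ZMod p) M => T u) h1
    simp only [LinearMap.sub_apply, Module.End.one_apply, map_sub, h2]
  by_contra hne
  have hW : W ≠ ⊥ := by
    intro h
    apply hne
    have h1 : τ = 0 := LinearMap.range_eq_bot.mp h
    rw [hτ, sub_eq_zero] at h1
    exact h1
  obtain ⟨m, ⟨u, hu⟩, hm0, hmf⟩ := exists_fixed_ne_zero ρ hR W hinv hW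
  have hym : ρ y m = m := hfix m hmf
  -- the norm
  set n := orderOf y with hn
  have hgeom : (∑ i ∈ Finset.range n, (ρ y) ^ i) * (ρ y - 1) = (ρ y) ^ n - 1 := geom_sum_mul _ _
  have hpow : (ρ y) ^ n = 1 := by rw [← map_pow, hn, pow_orderOf_eq_one, map_one]
  have h1 : (∑ i ∈ Finset.range n, (ρ y) ^ i) m = 0 := by
    rw [← hu]
    have := congrArg (fun T : Module.End (ZMod p) M => T u) hgeom
    rw [hpow, sub_self] at this
    exact this
  have h2 : (∑ i ∈ Finset.range n, (ρ y) ^ i) m = n • m := by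
    rw [LinearMap.sum_apply]
    have hk : ∀ i : ℕ, ((ρ y) ^ i) m = m := by
      intro i
      induction i with
      | zero => simp
      | succ k ih =>
        rw [pow_succ', Module.End.mul_apply, ih, hym]
    rw [Finset.sum_congr rfl (fun i _ => hk i)]
    simp
  rw [h2] at h1
  -- `n` invertible modulo `p`
  have h3 : p • m = 0 := pow_smul_eq m
  obtain ⟨s, t, hst⟩ : ∃ s t : ℤ, (n : ℤ) * s + (p : ℤ) * t = 1 := by
    exact ⟨Nat.gcdA n p, Nat.gcdB n p, by
      have := Nat.gcd_eq_gcd_ab n p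
      rw [hy] at this
      push_cast at this ⊢
      linarith⟩
  apply hm0
  calc m = ((n : ℤ) * s + (p : ℤ) * t) • m := by rw [hst, one_smul]
    _ = s • ((n : ℤ) • m) + t • ((p : ℤ) • m) := by
      rw [add_smul, mul_smul, mul_smul, smul_comm (n : ℤ) s m, smul_comm (p : ℤ) t m]
    _ = 0 := by
      rw [natCast_zsmul, natCast_zsmul, h1, h3]
      simp

/-- The hyperplane lemma. -/
theorem exists_hyperplane [Finite Γ] {ρ : Γ →* Module.End (ZMod p) M} (hρ : Function.Injective ρ)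
    (hS1 : Subgroup.centralizer (Cfsg.pPrimeCore p Γ : Set Γ) ≤ Cfsg.pPrimeCore p Γ)
    {A : Subgroup Γ} (hA : Best ρ A) {B : Subgroup Γ} (hBA : B ≤ A) (hB : B ≠ ⊥) :
    ∃ A₀ : Subgroup Γ, A₀ ≤ A ∧ A₀.relIndex A = p ∧ Best ρ A₀ ∧ jj ρ A₀ = jj ρ A ∧ ¬ B ≤ A₀ := by
  have hp : p.Prime := Fact.out
  set O := Cfsg.pPrimeCore p Γ with hO
  have hOn : O.Normal := inferInstance
  have hOc : (Nat.card O).Coprime p := pPrimeCore_coprime
  have hOndvd : ¬ p ∣ Nat.card O := fun h =>
    hp.one_lt.ne' (Nat.Coprime.eq_one_of_dvd hOc.symm h)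
  have hAN : A ≤ Subgroup.normalizer (O : Set Γ) := by
    rw [Subgroup.normalizer_eq_top_iff.mpr hOn]
    exact le_top
  have hAp : IsPGroup p A := isPGroup_of_isElementaryAbelian hA.ea
  have hgen := eq_iSup_relIndex_le hA.ea hOndvd hAN
  -- `B` does not centralize `O`
  have hnc : ¬ ∀ A₀ : {A₀ : Subgroup Γ // A₀ ≤ A ∧ A₀.relIndex A ≤ p},
      ∀ x ∈ O ⊓ Subgroup.centralizer ((A₀ : Subgroup Γ) : Set Γ), ∀ b ∈ B, x * b = b * x := by
    intro h
    have h1 : O ≤ Subgroup.centralizer (B : Set Γ) := by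
      rw [hgen]
      refine iSup_le fun A₀ x hx => ?_
      rw [Subgroup.mem_centralizer_iff]
      intro b hb
      exact (h A₀ x hx b hb).symm
    have h2 : B ≤ Subgroup.centralizer (O : Set Γ) := by
      rwa [Subgroup.le_centralizer_iff]
    have h3 : B ≤ O := h2.trans hS1
    apply hB
    rw [eq_bot_iff]
    intro b hb
    have h4 := inf_eq_bot_of_isPGroup_of_coprime (hAp.to_le hBA) hOc
    have h5 : b ∈ B ⊓ O := ⟨hb, h3 hb⟩
    rwa [h4] at h5
  simp only [not_forall, Classical.not_imp] at hnc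
  obtain ⟨⟨A₀, hA₀A, hA₀r⟩, x, hx, b, hb, hxb⟩ := hnc
  obtain ⟨hxO, hxC'⟩ := hx
  have hxC : x ∈ Subgroup.centralizer (A₀ : Set Γ) := hxC'
  have hxO : x ∈ O := hxO
  rw [Subgroup.mem_centralizer_iff] at hxC
  have hbA₀ : b ∉ A₀ := fun h => hxb (hxC b h).symm
  have hbA : b ∈ A := hBA hb
  -- `A` commutative
  have hAc : ∀ u ∈ A, ∀ w ∈ A, u * w = w * u := by
    intro u hu w hw
    have := hA.ea.1
    exact congrArg Subtype.val (mul_comm' (⟨u, hu⟩ : A) (⟨w, hw⟩ : A))
  -- index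
  have hidx : A₀.relIndex A = p := by
    have h1 : A₀.relIndex A ∣ Nat.card A := Subgroup.relIndex_dvd_card _ _
    obtain ⟨n, hn⟩ := IsPGroup.iff_card.mp hAp
    rw [hn] at h1
    obtain ⟨k, hk, hk'⟩ := (Nat.dvd_prime_pow hp).mp h1
    have h2 : A₀.relIndex A ≠ 1 := by
      intro h3
      rw [Subgroup.relIndex_eq_one] at h3
      exact hbA₀ (h3 hbA)
    have h3 : k ≠ 0 := by
      rintro rfl
      exact h2 (by simpa using hk')
    have h4 : k = 1 := by
      by_contra h5
      have h6 : 2 ≤ k := by omega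
      have h7 : p ^ 2 ≤ p ^ k := Nat.pow_le_pow_right hp.pos h6
      have h8 : p < p ^ 2 := by nlinarith [hp.two_le]
      rw [hk'] at hA₀r
      omega
    rw [hk', h4, pow_one]
  have hcard : Nat.card A = Nat.card A₀ * p := by
    rw [← hidx]
    exact card_eq_card_mul_relIndex hA₀A
  -- the fixed points
  set U := fix ρ A₀ with hU
  have hxU : ∀ z : Γ, (∀ c ∈ A₀, c * z = z * c) → ∀ u ∈ U, ρ z u ∈ U := by
    intro z hz u hu c hc
    have h1 : ρ c (ρ z u) = ρ z (ρ c u) := by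
      rw [← Module.End.mul_apply, ← map_mul, hz c hc, map_mul, Module.End.mul_apply]
    rw [h1, hu c hc]
  have hbU : ∃ u ∈ U, ρ b u ≠ u := by
    by_contra hcon
    push Not at hcon
    -- the commutator `y` acts trivially
    set y := x * b * x⁻¹ * b⁻¹ with hy
    have hyO : y ∈ O := by
      have : y = x * (b * x⁻¹ * b⁻¹) := by rw [hy]; group
      rw [this]
      exact O.mul_mem hxO (hOn.conj_mem _ (O.inv_mem hxO) b)
    have hy1 : y ≠ 1 := by
      intro h
      apply hxb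
      calc x * b = y * (b * x) := by rw [hy]; group
        _ = b * x := by rw [h, one_mul]
    have hcb : ∀ c ∈ A₀, c * b = b * c := fun c hc => hAc c (hA₀A hc) b hbA
    have hcx : ∀ c ∈ A₀, c * x = x * c := fun c hc => hxC c hc
    have hcy : ∀ c ∈ A₀, c * y = y * c := by
      intro c hc
      have h1 : c * x⁻¹ = x⁻¹ * c := by
        rw [eq_inv_mul_iff_mul_eq, ← mul_assoc, ← hcx c hc, mul_assoc, mul_inv_cancel, mul_one]
      have h2 : c * b⁻¹ = b⁻¹ * c := by
        rw [eq_inv_mul_iff_mul_eq, ← mul_assoc, ← hcb c hc, mul_assoc, mul_inv_cancel, mul_one]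
      rw [hy]
      calc c * (x * b * x⁻¹ * b⁻¹) = (c * x) * b * x⁻¹ * b⁻¹ := by group
        _ = x * (c * b) * x⁻¹ * b⁻¹ := by rw [hcx c hc]; group
        _ = x * b * (c * x⁻¹) * b⁻¹ := by rw [hcb c hc]; group
        _ = x * b * x⁻¹ * (c * b⁻¹) := by rw [h1]; group
        _ = x * b * x⁻¹ * b⁻¹ * c := by rw [h2]; group
    have hyfix : ∀ m ∈ fix ρ A₀, ρ y m = m := by
      intro m hm
      have hxinv : ρ x⁻¹ m ∈ U := by
        apply hxU x⁻¹ _ m hm
        intro c hc
        rw [eq_inv_mul_iff_mul_eq, ← mul_assoc, ← hcx c hc, mul_assoc, mul_inv_cancel, mul_one]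
      have h1 : ρ b⁻¹ m = m := by
        have := hcon m hm
        calc ρ b⁻¹ m = ρ b⁻¹ (ρ b m) := by rw [this]
          _ = m := by rw [← Module.End.mul_apply, ← map_mul]; simp
      rw [hy, map_mul, map_mul, map_mul, Module.End.mul_apply, Module.End.mul_apply,
        Module.End.mul_apply, h1, hcon _ hxinv, ← Module.End.mul_apply, ← map_mul]
      simp
    have hord : (orderOf y).Coprime p := orderOf_coprime_of_mem_pPrimeCore hyO
    have := ab_lemma ρ (hAp.to_le hA₀A) hord hcy hyfix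
    exact hy1 (hρ (by rw [this, map_one]))
  obtain ⟨u, huU, hbu⟩ := hbU
  have hlt : fix ρ A < U := by
    refine lt_of_le_of_ne (fix_anti hA₀A) ?_
    intro h
    rw [← h] at huU
    exact hbu (huU b hbA)
  have hle := card_mul_le_of_lt hlt
  have hge : jj ρ A ≤ jj ρ A₀ := by
    unfold jj
    rw [hcard]
    calc Nat.card A₀ * p * Nat.card (fix ρ A) = Nat.card A₀ * (Nat.card (fix ρ A) * p) := by ring
      _ ≤ _ := Nat.mul_le_mul_left _ hle
  have heq : jj ρ A₀ = jj ρ A := le_antisymm (hA.le _ hA₀A) hge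
  exact ⟨A₀, hA₀A, hidx, hA.of_le_of_eq hA₀A heq, heq, fun h => hbA₀ (h hb)⟩

theorem jj_bot (ρ : Γ →* Module.End (ZMod p) M) : jj ρ ⊥ = Nat.card M := by
  unfold jj
  rw [fix_bot, Subgroup.card_bot, one_mul]
  exact Nat.card_congr (Equiv.Set.univ M)

/-- The statement S0610, in representation form. -/
theorem jj_eq_card [Finite Γ] {ρ : Γ →* Module.End (ZMod p) M} (hρ : Function.Injective ρ)
    (hS1 : Subgroup.centralizer (Cfsg.pPrimeCore p Γ : Set Γ) ≤ Cfsg.pPrimeCore p Γ) :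
    ∀ {A : Subgroup Γ}, Best ρ A → jj ρ A = Nat.card M := by
  intro A
  induction' hn : Nat.card A using Nat.strong_induction_on with n ih generalizing A
  intro hA
  by_cases hA1 : A = ⊥
  · rw [hA1, jj_bot]
  · obtain ⟨A₀, h1, h2, h3, h4, h5⟩ := exists_hyperplane hρ hS1 hA le_rfl hA1
    have hlt : Nat.card A₀ < Nat.card A := by
      rw [card_eq_card_mul_relIndex h1, h2]
      have : 0 < Nat.card A₀ := Nat.card_pos
      nlinarith [(Fact.out : p.Prime).two_le]
    rw [← h4]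
    exact ih _ (hn ▸ hlt) rfl h3

/-- A minimal nontrivial best offender. -/
structure MinBest (ρ : Γ →* Module.End (ZMod p) M) (A : Subgroup Γ) : Prop where
  best : Best ρ A
  ne : A ≠ ⊥
  min : ∀ B ≤ A, Best ρ B → B ≠ ⊥ → B = A

/-- A minimal best offender has order `p`. -/
theorem MinBest.card_eq [Finite Γ] {ρ : Γ →* Module.End (ZMod p) M} (hρ : Function.Injective ρ)
    (hS1 : Subgroup.centralizer (Cfsg.pPrimeCore p Γ : Set Γ) ≤ Cfsg.pPrimeCore p Γ)
    {A : Subgroup Γ} (hA : MinBest ρ A) : Nat.card A = p := by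
  obtain ⟨A₀, h1, h2, h3, h4, h5⟩ := exists_hyperplane hρ hS1 hA.best le_rfl hA.ne
  have hA₀ : A₀ = ⊥ := by
    by_contra hne
    have := hA.min A₀ h1 h3 hne
    rw [this] at h5
    exact h5 le_rfl
  rw [card_eq_card_mul_relIndex h1, h2, hA₀, Subgroup.card_bot, one_mul]

/-- Fixed points have index `p`. -/
theorem MinBest.card_fix [Finite Γ] {ρ : Γ →* Module.End (ZMod p) M} (hρ : Function.Injective ρ)
    (hS1 : Subgroup.centralizer (Cfsg.pPrimeCore p Γ : Set Γ) ≤ Cfsg.pPrimeCore p Γ)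
    {A : Subgroup Γ} (hA : MinBest ρ A) : p * Nat.card (fix ρ A) = Nat.card M := by
  have := jj_eq_card hρ hS1 hA.best
  unfold jj at this
  rwa [MinBest.card_eq hρ hS1 hA] at this

/-- Every nontrivial best offender contains a minimal one. -/
theorem exists_minBest_le [Finite Γ] {ρ : Γ →* Module.End (ZMod p) M} {A : Subgroup Γ}
    (hA : Best ρ A) (hne : A ≠ ⊥) : ∃ B ≤ A, MinBest ρ B := by
  classical
  have hfin : (({B : Subgroup Γ | B ≤ A ∧ Best ρ B ∧ B ≠ ⊥}) : Set (Subgroup Γ)).Finite :=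
    Set.toFinite _
  have hnon : ({B : Subgroup Γ | B ≤ A ∧ Best ρ B ∧ B ≠ ⊥} : Set (Subgroup Γ)).Nonempty :=
    ⟨A, le_rfl, hA, hne⟩
  obtain ⟨B, hB, hBmin⟩ := hfin.exists_minimal hnon
  refine ⟨B, hB.1, hB.2.1, hB.2.2, fun C hC hCb hC1 => ?_⟩
  exact le_antisymm hC (hBmin ⟨hC.trans hB.1, hCb, hC1⟩ hC)

/-- Two complementary pieces: `iSupIndep` for `Fin.cons` in a commutative setting. -/
theorem iSupIndep_cons {A : Subgroup Γ} (hAc : IsMulCommutative A) {k : ℕ}
    {B : Fin k → Subgroup Γ} (hB : iSupIndep B) (hBA : ∀ i, B i ≤ A) {B₀ : Subgroup Γ} (hB₀A : B₀ ≤ A)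
    (hdisj : B₀ ⊓ (⨆ i, B i) = ⊥) : iSupIndep (Fin.cons B₀ B : Fin (k + 1) → Subgroup Γ) := by
  intro i
  refine Fin.cases ?_ (fun i' => ?_) i
  · -- the new summand
    rw [disjoint_iff, eq_bot_iff, ← hdisj]
    refine inf_le_inf le_rfl ?_
    refine iSup₂_le fun j hj => ?_
    obtain ⟨j', rfl⟩ := Fin.exists_succ_eq.mpr hj
    exact le_iSup B j'
  · rw [disjoint_iff, eq_bot_iff]
    rintro x ⟨hx1, hx2⟩
    have hx1' : x ∈ B i' := hx1
    set W := ⨆ j : {j // j ≠ i'}, B j with hW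
    have hWA : W ≤ A := iSup_le fun j => hBA j
    have hle : (⨆ j, ⨆ (_ : j ≠ i'.succ), (Fin.cons B₀ B : Fin (k + 1) → Subgroup Γ) j) ≤ B₀ ⊔ W := by
      refine iSup₂_le fun j hj => ?_
      refine Fin.cases ?_ (fun j' hj' => ?_) j hj
      · intro _
        exact le_sup_left
      · refine le_trans ?_ le_sup_right
        exact le_iSup (fun j : {j // j ≠ i'} => B j) ⟨j', fun h => hj' (by rw [h])⟩
    have hx3 := hle hx2
    have hnorm : B₀ ≤ Subgroup.normalizer (W : Set Γ) :=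
      Cfsg.Agent.Lib.QuadAct.Replacement.abelian_le_normalizer hAc hB₀A hWA
    obtain ⟨w, hw, b, hb, rfl⟩ := exists_mul_of_mem_sup hnorm (by rwa [sup_comm] at hx3)
    have hbA : w * b ∈ (⨆ i, B i) := le_iSup B i' hx1'
    have hwA : w ∈ (⨆ i, B i) := by
      refine (iSup_le fun j : {j // j ≠ i'} => le_iSup B (j : Fin k)) hw
    have hb' : b ∈ (⨆ i, B i) := by
      have := Subgroup.mul_mem _ (Subgroup.inv_mem _ hwA) hbA
      simpa using this
    have hb1 : b ∈ B₀ ⊓ (⨆ i, B i) := ⟨hb, hb'⟩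
    rw [hdisj, Subgroup.mem_bot] at hb1
    subst hb1
    rw [mul_one] at hx1' ⊢
    have h2 := (hB i').le_bot ⟨hx1', by
      have : W = ⨆ j, ⨆ (_ : j ≠ i'), B j := by
        rw [hW, iSup_subtype]
      rwa [← this]⟩
    exact h2

/-- The statement S0612, in representation form. -/
theorem exists_decomp [Finite Γ] {ρ : Γ →* Module.End (ZMod p) M} (hρ : Function.Injective ρ)
    (hS1 : Subgroup.centralizer (Cfsg.pPrimeCore p Γ : Set Γ) ≤ Cfsg.pPrimeCore p Γ) :
    ∀ {A : Subgroup Γ}, Best ρ A → ∃ (k : ℕ) (B : Fin k → Subgroup Γ),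
      (∀ i, B i ≤ A ∧ MinBest ρ (B i)) ∧ iSupIndep B ∧ ⨆ i, B i = A := by
  intro A
  induction' hn : Nat.card A using Nat.strong_induction_on with n ih generalizing A
  intro hA
  by_cases hA1 : A = ⊥
  · subst hA1
    refine ⟨0, Fin.elim0, fun i => i.elim0, ?_, ?_⟩
    · intro i
      exact i.elim0
    · simp
  · obtain ⟨B₀, hB₀A, hB₀⟩ := exists_minBest_le hA hA1
    obtain ⟨A₀, h1, h2, h3, h4, h5⟩ := exists_hyperplane hρ hS1 hA hB₀A hB₀.ne
    have hlt : Nat.card A₀ < Nat.card A := by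
      rw [card_eq_card_mul_relIndex h1, h2]
      have : 0 < Nat.card A₀ := Nat.card_pos
      nlinarith [(Fact.out : p.Prime).two_le]
    obtain ⟨k, B, hB1, hB2, hB3⟩ := ih _ (hn ▸ hlt) rfl h3
    have hcard₀ : Nat.card B₀ = p := MinBest.card_eq hρ hS1 hB₀
    have hdisj : B₀ ⊓ A₀ = ⊥ := by
      have h6 : Nat.card (B₀ ⊓ A₀ : Subgroup Γ) ∣ p := by
        rw [← hcard₀]
        exact Subgroup.card_dvd_of_le inf_le_left
      rcases (Nat.dvd_prime (Fact.out : p.Prime)).mp h6 with h7 | h7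
      · exact Subgroup.card_eq_one.mp h7
      · exfalso
        apply h5
        have h8 : B₀ ⊓ A₀ = B₀ := by
          apply Subgroup.eq_of_le_of_card_ge inf_le_left
          rw [h7, hcard₀]
        rw [← h8]
        exact inf_le_right
    have hsup : B₀ ⊔ A₀ = A := by
      apply le_antisymm (sup_le hB₀A h1)
      have hle : A₀ ≤ B₀ ⊔ A₀ := le_sup_right
      have hle2 : B₀ ⊔ A₀ ≤ A := sup_le hB₀A h1
      have h6 := Subgroup.relIndex_mul_relIndex A₀ (B₀ ⊔ A₀) A hle hle2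
      rw [h2] at h6
      have h7 : A₀.relIndex (B₀ ⊔ A₀) ≠ 1 := by
        intro h8
        rw [Subgroup.relIndex_eq_one] at h8
        exact h5 (le_sup_left.trans h8)
      have h8 : (B₀ ⊔ A₀).relIndex A = 1 := by
        have h9 : A₀.relIndex (B₀ ⊔ A₀) ∣ p := Dvd.intro _ h6
        rcases (Nat.dvd_prime (Fact.out : p.Prime)).mp h9 with h10 | h10
        · exact absurd h10 h7
        · rw [h10] at h6
          exact Nat.eq_of_mul_eq_mul_left (Fact.out : p.Prime).pos (by rw [h6, mul_one])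
      rwa [Subgroup.relIndex_eq_one] at h8
    refine ⟨k + 1, Fin.cons B₀ B, ?_, ?_, ?_⟩
    · intro i
      refine Fin.cases ?_ (fun j => ?_) i
      · exact ⟨hB₀A, hB₀⟩
      · exact ⟨(hB1 j).1.trans h1, (hB1 j).2⟩
    · apply iSupIndep_cons hA.ea.1 hB2 (fun i => (hB1 i).1.trans h1) hB₀A
      rw [hB3]
      exact hdisj
    · rw [← hsup, ← hB3]
      apply le_antisymm
      · refine iSup_le fun i => ?_
        refine Fin.cases ?_ (fun j => ?_) i
        · exact le_sup_left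
        · exact le_trans (le_iSup B j) le_sup_right
      · refine sup_le ?_ (iSup_le fun j => ?_)
        · exact le_iSup (Fin.cons B₀ B : Fin (k + 1) → Subgroup Γ) 0
        · exact le_iSup (Fin.cons B₀ B : Fin (k + 1) → Subgroup Γ) j.succ

end finite

end Cfsg.Agent.Lib.QuadAct.FFBasic
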