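import Cfsg.Agent.Lib.QuadAct.FFStruct
import Cfsg.Agent.Lib.Classical.SL2Sylow

/-!
# The commutator `[O, A]` for a minimal best offender `A`
-/

set_option autoImplicit false
set_option linter.unusedSectionVars false
set_option linter.unusedSimpArgs false
set_option linter.style.haveILetI false

open scoped commutatorElement
open Module

namespace Cfsg.Agent.Lib.QuadAct.FFCore

open Cfsg.Agent.Lib.QuadAct.FFBasic Cfsg.Agent.Lib.QuadAct.ThmA
open Cfsg.Agent.Lib.QuadAct.FFTrans Cfsg.Agent.Lib.QuadAct.FFTriple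
open Cfsg.Agent.Lib.QuadAct.FFGen Cfsg.Agent.Lib.QuadAct.FFPlane
open Cfsg.Agent.Lib.QuadAct.FFSL2 Cfsg.Agent.Lib.QuadAct.FFDicho
open Cfsg.Agent.Lib.QuadAct.FFDict Cfsg.Agent.Lib.QuadAct.FFMin
open Cfsg.Agent.Lib.QuadAct.FFMain Cfsg.Agent.Lib.QuadAct.FFStruct
open Cfsg.Agent.Lib.Core.Basic
open Cfsg.Agent.Lib.Coprime.Action

universe u

theorem card_sl2_two : Nat.card (Matrix.SpecialLinearGroup (Fin 2) (ZMod 2)) = 6 := by
  haveI : Fact (Nat.Prime 2) := ⟨Nat.prime_two⟩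
  rw [Cfsg.Agent.Lib.Classical.SL2Sylow.card_SL2]
  simp

theorem card_sl2_three : Nat.card (Matrix.SpecialLinearGroup (Fin 2) (ZMod 3)) = 24 := by
  haveI : Fact (Nat.Prime 3) := ⟨Nat.prime_three⟩
  rw [Cfsg.Agent.Lib.Classical.SL2Sylow.card_SL2]
  simp

/-- Two noncommuting elements of order four in `SL₂(3)`. -/
theorem sl23_noncomm : ∃ t₁ t₂ : Matrix.SpecialLinearGroup (Fin 2) (ZMod 3),
    t₁ ^ 4 = 1 ∧ t₂ ^ 4 = 1 ∧ t₁ * t₂ ≠ t₂ * t₁ := by
  refine ⟨⟨!![0, 1; -1, 0], by decide⟩, ⟨!![1, 1; 1, -1], by decide⟩, by decide, by decide, by decide⟩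

theorem pow_mem_mul {Γ : Type*} [Group Γ] {K : Subgroup Γ} {b k : Γ}
    (hb : b ∈ Subgroup.normalizer (K : Set Γ)) (hk : k ∈ K) (n : ℕ) :
    ∃ k' ∈ K, (k * b) ^ n = k' * b ^ n := by
  induction n with
  | zero => exact ⟨1, K.one_mem, by simp⟩
  | succ n ih =>
    obtain ⟨k', hk', h⟩ := ih
    have hbn : b ^ n ∈ Subgroup.normalizer (K : Set Γ) := Subgroup.pow_mem _ hb n
    have h1 : b ^ n * k * (b ^ n)⁻¹ ∈ K := (Subgroup.mem_normalizer_iff.mp hbn k).mp hk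
    refine ⟨k' * (b ^ n * k * (b ^ n)⁻¹), K.mul_mem hk' h1, ?_⟩
    rw [pow_succ, h, pow_succ]
    group

variable {G : Type u} [Group G] [Finite G] {p : ℕ} [Fact p.Prime] {V H : Subgroup G}

/-- S0614. -/
theorem s0614 (hV : Cfsg.IsElementaryAbelian p V) (hHV : H ≤ Subgroup.normalizer (V : Set G))
    (hf : H ⊓ Subgroup.centralizer (V : Set G) = ⊥)
    (hS1 : Subgroup.centralizer (Cfsg.pPrimeCore p ↥H : Set ↥H) ≤ Cfsg.pPrimeCore p ↥H)
    {A : Subgroup G} (hAH : A ≤ H) (hA : Cfsg.IsBestOffenderOn p V A) (hAV : ⁅V, A⁆ ≠ ⊥)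
    (hmin : ∀ B : Subgroup G, B ≤ A → Cfsg.IsBestOffenderOn p V B → ⁅V, B⁆ ≠ ⊥ → B = A) :
    (p = 2 ∧ IsPGroup 3 ↥(⁅((Cfsg.pPrimeCore p ↥H).map H.subtype), A⁆)) ∨ (p = 3 ∧ IsPGroup 2 ↥(⁅((Cfsg.pPrimeCore p ↥H).map H.subtype), A⁆) ∧ ¬ IsMulCommutative ↥(⁅((Cfsg.pPrimeCore p ↥H).map H.subtype), A⁆)) := by
  obtain ⟨M, _, _, _, ρ, ι, D⟩ := exists_coord hV hHV hf
  obtain ⟨a, e, f, x, rfl, C⟩ := exists_data D hf hS1 hAH hA hAV hmin
  set O := Cfsg.pPrimeCore p ↥H with hO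
  set K : Subgroup H := ⁅O, Subgroup.zpowers a⁆ with hK
  have hKm : ⁅O.map H.subtype, (Subgroup.zpowers a).map H.subtype⁆ = K.map H.subtype :=
    (Subgroup.map_commutator _ _ _).symm
  rw [hKm]
  have hKcard : Nat.card (K.map H.subtype) = Nat.card K :=
    Nat.card_congr (Subgroup.equivMapOfInjective _ _ H.subtype_injective).symm.toEquiv
  have hKO : K ≤ O := Subgroup.commutator_le_left _ _
  have hKcls : K ≤ cls O a := by
    rw [cls_eq C]
    exact le_sup_left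
  have hcop : (Nat.card K).Coprime p :=
    Nat.Coprime.coprime_dvd_left (Subgroup.card_dvd_of_le hKO) C.hOc
  have hdvd : Nat.card K ∣ Nat.card (Matrix.SpecialLinearGroup (Fin 2) (ZMod p)) := by
    rw [← Nat.card_congr (Ctx.phiEquiv C).toEquiv]
    exact Subgroup.card_dvd_of_le hKcls
  rcases C.hp with hp | hp
  · left
    subst hp
    refine ⟨rfl, ?_⟩
    rw [card_sl2_two, show 6 = 3 * 2 from rfl] at hdvd
    have h1 : Nat.card K ∣ 3 ^ 1 := by
      rw [pow_one]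
      exact hcop.dvd_of_dvd_mul_right hdvd
    obtain ⟨n, -, hn⟩ := (Nat.dvd_prime_pow Nat.prime_three).mp h1
    exact IsPGroup.of_card (n := n) (by rw [hKcard, hn])
  · right
    subst hp
    refine ⟨rfl, ?_, ?_⟩
    · rw [card_sl2_three, show 24 = 8 * 3 from rfl] at hdvd
      have h1 : Nat.card K ∣ 2 ^ 3 := hcop.dvd_of_dvd_mul_right hdvd
      obtain ⟨n, -, hn⟩ := (Nat.dvd_prime_pow Nat.prime_two).mp h1
      exact IsPGroup.of_card (n := n) (by rw [hKcard, hn])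
    · have hmem : ∀ t : H, t ∈ cls O a → t ^ 4 = 1 → t ∈ K := by
        intro t ht h4
        rw [cls_eq C] at ht
        have hnorm : Subgroup.zpowers a ≤ Subgroup.normalizer (K : Set H) :=
          le_normalizer_commutator_right _ _
        obtain ⟨k, hk, b, hb, rfl⟩ := exists_mul_of_mem_sup hnorm ht
        have ha3 : a ^ 3 = 1 := Cfsg.Agent.Lib.QuadAct.Sections.pow_char_eq_one C.hρ C.tv.quad
        have hb3 : b ^ 3 = 1 := by
          obtain ⟨n, rfl⟩ := hb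
          show (a ^ n) ^ 3 = 1
          rw [← zpow_natCast, ← zpow_mul, mul_comm, zpow_mul, zpow_natCast, ha3, one_zpow]
        obtain ⟨k', hk', h5⟩ := pow_mem_mul (hnorm hb) hk 3
        rw [hb3, mul_one] at h5
        have h6 : (k * b) * (k * b) ^ 3 = 1 := by
          rw [← h4]
          group
        have h7 : k * b = k'⁻¹ := by
          rw [h5] at h6
          exact eq_inv_of_mul_eq_one_left h6
        rw [h7]
        exact K.inv_mem hk'
      rintro ⟨⟨hcomm⟩⟩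
      obtain ⟨t₁, t₂, h1, h2, h3⟩ := sl23_noncomm
      set φ := Ctx.phiEquiv C with hφ
      have hm1 : ((φ.symm t₁ : cls O a) : H) ∈ K := by
        apply hmem _ (φ.symm t₁).2
        rw [← Subgroup.coe_pow, ← map_pow, h1, map_one, Subgroup.coe_one]
      have hm2 : ((φ.symm t₂ : cls O a) : H) ∈ K := by
        apply hmem _ (φ.symm t₂).2
        rw [← Subgroup.coe_pow, ← map_pow, h2, map_one, Subgroup.coe_one]
      have h4 := hcomm ⟨_, ⟨_, hm1, rfl⟩⟩ ⟨_, ⟨_, hm2, rfl⟩⟩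
      apply h3
      apply φ.symm.injective
      rw [map_mul, map_mul]
      apply Subtype.ext
      apply Subtype.ext
      have h5 := congrArg Subtype.val h4
      simpa using h5

end Cfsg.Agent.Lib.QuadAct.FFCore
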