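import Cfsg.Agent.Lib.QuadAct.FFSL2

/-!
# Two classes of transvections: they coincide or commute
-/

set_option autoImplicit false
set_option linter.unusedSectionVars false
set_option linter.unusedSimpArgs false
set_option linter.style.haveILetI false

open scoped commutatorElement
open Module

namespace Cfsg.Agent.Lib.QuadAct.FFDicho

open Cfsg.Agent.Lib.QuadAct.FFBasic Cfsg.Agent.Lib.QuadAct.ThmA
open Cfsg.Agent.Lib.QuadAct.FFTrans Cfsg.Agent.Lib.QuadAct.FFTriple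
open Cfsg.Agent.Lib.QuadAct.FFGen Cfsg.Agent.Lib.QuadAct.FFPlane
open Cfsg.Agent.Lib.QuadAct.FFSL2
open Cfsg.Agent.Lib.Core.Basic

universe u v

variable {p : ℕ} [Fact p.Prime] {Γ : Type u} [Group Γ] [Finite Γ] {M : Type v} [AddCommGroup M]
  [Module (ZMod p) M] [Finite M] {ρ : Γ →* Module.End (ZMod p) M}

variable {O : Subgroup Γ} {a x : Γ} {e : M} {f : M →ₗ[ZMod p] ZMod p}

/-- The commutator module. -/
def comm (ρ : Γ →* Module.End (ZMod p) M) (A : Subgroup Γ) : Submodule (ZMod p) M :=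
  Submodule.span (ZMod p) {m | ∃ g ∈ A, ∃ w, m = ρ g w - w}

theorem comm_eq_pl (C : Ctx ρ O a e f x) : comm ρ (cls O a) = pl (p := p) e (ρ x e) := by
  apply le_antisymm
  · refine Submodule.span_le.mpr ?_
    rintro _ ⟨g, hg, w, rfl⟩
    exact C.comm_mem hg w
  · refine Submodule.span_le.mpr ?_
    rintro y (rfl | rfl)
    · obtain ⟨u, hu⟩ := C.tv.f1
      refine Submodule.subset_span ⟨a, self_mem_cls O a, u, ?_⟩
      rw [C.tv.apply, hu, one_smul, add_sub_cancel_left]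
    · obtain ⟨u, hu⟩ := (C.tv').f1
      refine Submodule.subset_span ⟨x * a * x⁻¹, conj_mem_cls a C.hx, u, ?_⟩
      rw [(C.tv').apply, hu, one_smul, add_sub_cancel_left]

/-- Case A: if the line of `c` is not fixed by the class of `a`, then the classes agree. -/
theorem caseA {c : Γ} {e₂ : M} {f₂ : M →ₗ[ZMod p] ZMod p} {x₂ : Γ} (C : Ctx ρ O a e f x)
    (C₂ : Ctx ρ O c e₂ f₂ x₂) (he : e₂ ∉ fix ρ (cls O a)) : c ∈ cls O a ∧ cls O c = cls O a := by
  set P₁ := pl (p := p) e (ρ x e) with hP₁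
  set P₂ := pl (p := p) e₂ (ρ x₂ e₂) with hP₂
  rw [← C.fix_inf_eq] at he
  obtain ⟨z, hz, hzne⟩ : ∃ z ∈ O ⊓ cls O a, ρ z e₂ ≠ e₂ := by
    by_contra hcon
    push Not at hcon
    exact he hcon
  have ht0 : ρ z e₂ - e₂ ≠ 0 := sub_ne_zero.mpr hzne
  have htP₁ : ρ z e₂ - e₂ ∈ P₁ := C.comm_mem hz.2 e₂
  have htP₂ : ρ z e₂ - e₂ ∈ P₂ :=
    Submodule.sub_mem _ (C₂.line_mem hz.1) (left_mem_pl _ _)
  have hS1 : ∀ s ∈ P₁ ⊓ P₂, ρ (x * a * x⁻¹ * a⁻¹) s ∈ P₁ ⊓ P₂ := fun s hs =>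
    ⟨C.pl_O C.hk hs.1, C₂.pl_O C.hk hs.2⟩
  have hS2 : ∀ s ∈ P₁ ⊓ P₂, ρ (x₂ * c * x₂⁻¹ * c⁻¹) s ∈ P₁ ⊓ P₂ := fun s hs =>
    ⟨C.pl_O C₂.hk hs.1, C₂.pl_O C₂.hk hs.2⟩
  have h12 : P₁ ≤ P₁ ⊓ P₂ := Ctx.pl_le_of_inv C hS1 ⟨htP₁, htP₂⟩ htP₁ ht0
  have h21 : P₂ ≤ P₁ ⊓ P₂ := Ctx.pl_le_of_inv C₂ hS2 ⟨htP₁, htP₂⟩ htP₂ ht0
  have hPP : P₁ = P₂ := le_antisymm (h12.trans inf_le_right) (h21.trans inf_le_left)
  -- fixed points
  have hX : fix ρ (cls O a) ≤ fix ρ (cls O c) := by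
    intro m hm
    obtain ⟨π, hπ, y, hy, rfl⟩ := C₂.exists_split m
    have hπ₁ : π ∈ P₁ := by rw [hPP]; exact hπ
    have h0 : π ∈ fix ρ (O ⊓ cls O a) := by
      intro w hw
      have h1 : ρ w (π + y) = π + y := hm w hw.2
      rw [map_add] at h1
      have h2 : ρ w π - π ∈ P₂ := by
        rw [← hPP]
        exact C.comm_mem hw.2 π
      have h3 : ρ w π - π ∈ fix ρ (cls O c) := by
        have h4 : ρ w π - π = y - ρ w y := by
          calc ρ w π - π = (ρ w π + ρ w y) - π - ρ w y := by abel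
            _ = (π + y) - π - ρ w y := by rw [h1]
            _ = y - ρ w y := by abel
        rw [h4]
        exact Submodule.sub_mem _ hy (C₂.fix_O hw.1 hy)
      have h5 : ρ w π - π = 0 := by
        have := C₂.inf_fix_eq_bot
        have h6 : ρ w π - π ∈ P₂ ⊓ fix ρ (cls O c) := ⟨h2, h3⟩
        rw [this] at h6
        exact h6
      exact sub_eq_zero.mp h5
    rw [C.eq_zero_of_mem_fix hπ₁ h0, zero_add]
    exact hy
  have hcE : c ∈ cls O a := by
    apply Ctx.mem_of_acts C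
    · intro π hπ
      have hπ₂ : π ∈ P₂ := by rw [← hPP]; exact hπ
      rw [← hP₁, hPP]
      exact C₂.pl_inv (self_mem_cls O c) hπ₂
    · intro π _
      exact C₂.tv.quad π
    · intro y hy
      exact hX hy c (self_mem_cls O c)
  refine ⟨hcE, ?_⟩
  have hle : cls O c ≤ cls O a := by
    rw [cls, Subgroup.closure_le]
    rintro _ ⟨w, hw, rfl⟩
    exact C.conj_mem_of_mem hw hcE
  apply Subgroup.eq_of_le_of_card_ge hle
  rw [Nat.card_congr (Ctx.phiEquiv C).toEquiv, Nat.card_congr (Ctx.phiEquiv C₂).toEquiv]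

/-- Case B, one element. -/
theorem caseB_elem {c : Γ} {e₂ : M} {f₂ : M →ₗ[ZMod p] ZMod p} (C : Ctx ρ O a e f x)
    (hc : TV ρ c e₂ f₂) (he : e₂ ∈ fix ρ (cls O a)) :
    (∀ g ∈ cls O a, g * c = c * g) ∧ ∀ π ∈ pl (p := p) e (ρ x e), ρ c π = π := by
  set K := O ⊓ cls O a with hK
  -- `K` commutes with `c`
  have hKc : ∀ z ∈ K, z * c * z⁻¹ = c := by
    intro z hz
    by_contra hne
    have hd : TV ρ (z * c * z⁻¹) (ρ z e₂) (f₂.comp (ρ z⁻¹)) := hc.conj z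
    have hz₁ : z * c * z⁻¹ * c⁻¹ ∈ O := by
      have : z * c * z⁻¹ * c⁻¹ = z * (c * z⁻¹ * c⁻¹) := by group
      rw [this]
      exact O.mul_mem hz.1 (C.hOn.conj_mem _ (O.inv_mem hz.1) c)
    have h1 := pair_nondeg C.hρ hc hd (order_coprime C.hOc hz₁) hne
    apply h1.1
    rw [he z hz.2, hc.fe]
  have hcn : c ∈ Subgroup.normalizer (K : Set Γ) := by
    rw [Subgroup.mem_normalizer_iff]
    intro k
    constructor
    · intro hk
      have h1 : k * c = c * k := mul_inv_eq_iff_eq_mul.mp (hKc k hk)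
      have : c * k * c⁻¹ = k := by
        rw [← h1, mul_assoc, mul_inv_cancel, mul_one]
      rw [this]
      exact hk
    · intro hk
      have h1 : (c * k * c⁻¹) * c = c * (c * k * c⁻¹) := mul_inv_eq_iff_eq_mul.mp (hKc _ hk)
      have h2 : c * k = c * (c * k * c⁻¹) := by
        rw [← h1]
        group
      have h3 : k = c * k * c⁻¹ := mul_left_cancel h2
      rw [h3]
      exact hk
  have hfπ : ∀ π ∈ pl (p := p) e (ρ x e), f₂ π = 0 := by
    intro π hπ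
    have h1 : nrm ρ K (ρ c π) = ρ c (nrm ρ K π) := (nrm_conj hcn π).symm
    rw [C.nrm_pl hπ, map_zero, hc.apply, map_add, C.nrm_pl hπ, zero_add, map_smul,
      nrm_fixed (K := K) (m := e₂) (fun k hk => he k (Subgroup.mem_inf.mp hk).2)] at h1
    have hcop := C.card_inf_coprime
    by_contra hne
    have h2 : Nat.card K • e₂ = 0 := (smul_eq_zero.mp h1).resolve_left hne
    exact hc.e0 (eq_zero_of_nsmul_eq_zero hcop h2)
  have hfix : ∀ π ∈ pl (p := p) e (ρ x e), ρ c π = π := by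
    intro π hπ
    rw [hc.apply, hfπ π hπ, zero_smul, add_zero]
  refine ⟨fun g hg => ?_, hfix⟩
  apply C.hρ
  ext m
  obtain ⟨π, hπ, y, hy, rfl⟩ := C.exists_split m
  have h1 : ρ c y ∈ fix ρ (cls O a) := by
    rw [hc.apply]
    exact Submodule.add_mem _ hy (Submodule.smul_mem _ _ he)
  simp only [map_mul, Module.End.mul_apply, map_add]
  rw [hfix π hπ, hfix _ (C.pl_inv hg hπ), hy g hg, h1 g hg]

/-- Case B: the whole class. -/
theorem caseB {c : Γ} {e₂ : M} {f₂ : M →ₗ[ZMod p] ZMod p} (C : Ctx ρ O a e f x)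
    (hc : TV ρ c e₂ f₂) (he : e₂ ∈ fix ρ (cls O a)) :
    (∀ h ∈ cls O c, (∀ g ∈ cls O a, g * h = h * g) ∧ ∀ π ∈ pl (p := p) e (ρ x e), ρ h π = π) := by
  intro h hh
  induction hh using Subgroup.closure_induction with
  | mem d hd =>
    obtain ⟨z, hz, rfl⟩ := hd
    exact caseB_elem C (hc.conj z) (C.fix_O hz he)
  | one =>
    exact ⟨fun g _ => by simp, fun π _ => by simp⟩
  | mul h₁ h₂ _ _ ih₁ ih₂ =>
    refine ⟨fun g hg => ?_, fun π hπ => ?_⟩
    · rw [← mul_assoc, ih₁.1 g hg, mul_assoc, ih₂.1 g hg, mul_assoc]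
    · rw [map_mul, Module.End.mul_apply, ih₂.2 π hπ, ih₁.2 π hπ]
  | inv h _ ih =>
    refine ⟨fun g hg => ?_, fun π hπ => ?_⟩
    · have := ih.1 g hg
      rw [eq_inv_mul_iff_mul_eq, ← mul_assoc, ← this, mul_assoc, mul_inv_cancel, mul_one]
    · calc ρ h⁻¹ π = ρ h⁻¹ (ρ h π) := by rw [ih.2 π hπ]
        _ = π := rho_inv_apply_cancel _ _

/-- **Dichotomy.** -/
theorem dichotomy {c : Γ} {e₂ : M} {f₂ : M →ₗ[ZMod p] ZMod p} {x₂ : Γ} (C : Ctx ρ O a e f x)
    (C₂ : Ctx ρ O c e₂ f₂ x₂) :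
    (c ∈ cls O a ∧ cls O c = cls O a) ∨
      ((∀ g ∈ cls O a, ∀ h ∈ cls O c, g * h = h * g) ∧
        comm ρ (cls O a) ≤ fix ρ (cls O c) ∧ comm ρ (cls O c) ≤ fix ρ (cls O a)) := by
  by_cases he : e₂ ∈ fix ρ (cls O a)
  · right
    have hB := caseB C C₂.tv he
    refine ⟨fun g hg h hh => (hB h hh).1 g hg, ?_, ?_⟩
    · rw [comm_eq_pl C]
      intro π hπ h hh
      exact (hB h hh).2 π hπ
    · rw [comm_eq_pl C₂]
      refine Submodule.span_le.mpr ?_
      rintro y (rfl | rfl)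
      · exact he
      · exact C.fix_O C₂.hx he
  · left
    exact caseA C C₂ he

/-- Every transvection is moved by `O`. -/
theorem exists_ctx (hρ : Function.Injective ρ) (hOn : O.Normal) (hOc : (Nat.card O).Coprime p)
    (hS : Subgroup.centralizer (O : Set Γ) ≤ O) {c : Γ} {e₂ : M} {f₂ : M →ₗ[ZMod p] ZMod p}
    (hc : TV ρ c e₂ f₂) : ∃ x, Ctx ρ O c e₂ f₂ x := by
  by_contra hcon
  have h1 : ∀ z ∈ O, z * c * z⁻¹ = c := by
    intro z hz
    by_contra hne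
    exact hcon ⟨z, hρ, hOn, hOc, hc, hz, hne⟩
  have h2 : c ∈ O := by
    apply hS
    rw [Subgroup.mem_centralizer_iff]
    intro z hz
    exact mul_inv_eq_iff_eq_mul.mp (h1 z hz)
  have h3 : c ^ p = 1 := Cfsg.Agent.Lib.QuadAct.Sections.pow_char_eq_one hρ hc.quad
  have h4 := order_coprime hOc h2
  have h5 : orderOf c ∣ p := orderOf_dvd_of_pow_eq_one h3
  have h6 : c = 1 := orderOf_eq_one_iff.mp (Nat.eq_one_of_dvd_coprimes h4 dvd_rfl h5)
  obtain ⟨u, hu⟩ := hc.f1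
  have h7 := hc.apply u
  rw [h6, map_one, hu, one_smul] at h7
  exact hc.e0 (by simpa using h7)

/-- The pointwise stabilizer of a submodule. -/
def stab (ρ : Γ →* Module.End (ZMod p) M) (P : Submodule (ZMod p) M) : Subgroup Γ where
  carrier := {g | ∀ π ∈ P, ρ g π = π}
  one_mem' := fun π _ => by simp
  mul_mem' := by
    intro g h hg hh π hπ
    rw [map_mul, Module.End.mul_apply, hh π hπ, hg π hπ]
  inv_mem' := by
    intro g hg π hπ
    calc ρ g⁻¹ π = ρ g⁻¹ (ρ g π) := by rw [hg π hπ]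
      _ = π := rho_inv_apply_cancel _ _

theorem mem_stab {P : Submodule (ZMod p) M} {g : Γ} : g ∈ stab ρ P ↔ ∀ π ∈ P, ρ g π = π := Iff.rfl

section factor

variable {T : Set Γ} (hgen : Subgroup.closure T = ⊤) (hT : ∀ c ∈ T, ∃ e₂ f₂, TV ρ c e₂ f₂)
  (hS : Subgroup.centralizer (O : Set Γ) ≤ O)

include hgen hT hS

/-- The class is normal. -/
theorem cls_normal (C : Ctx ρ O a e f x) : (cls O a).Normal := by
  rw [← Subgroup.normalizer_eq_top_iff, eq_top_iff, ← hgen, Subgroup.closure_le]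
  intro c hc
  obtain ⟨e₂, f₂, h⟩ := hT c hc
  obtain ⟨x₂, C₂⟩ := exists_ctx C.hρ C.hOn C.hOc hS h
  rcases dichotomy C C₂ with ⟨h1, -⟩ | ⟨h1, -, -⟩
  · exact Subgroup.le_normalizer h1
  · have hcc : ∀ g ∈ cls O a, g * c = c * g := fun g hg => h1 g hg c (self_mem_cls O c)
    show c ∈ Subgroup.normalizer _
    rw [Subgroup.mem_normalizer_iff]
    intro k
    constructor
    · intro hk
      rw [← hcc k hk, mul_assoc, mul_inv_cancel, mul_one]
      exact hk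
    · intro hk
      have h2 := hcc _ hk
      have h3 : c * k = c * (c * k * c⁻¹) := by
        rw [← h2]
        group
      have h4 : k = c * k * c⁻¹ := mul_left_cancel h3
      rw [h4]
      exact hk

/-- The class and the stabilizer of its plane generate. -/
theorem cls_sup_stab (C : Ctx ρ O a e f x) : cls O a ⊔ stab ρ (comm ρ (cls O a)) = ⊤ := by
  rw [eq_top_iff, ← hgen, Subgroup.closure_le]
  intro c hc
  obtain ⟨e₂, f₂, h⟩ := hT c hc
  obtain ⟨x₂, C₂⟩ := exists_ctx C.hρ C.hOn C.hOc hS h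
  rcases dichotomy C C₂ with ⟨h1, -⟩ | ⟨-, h1, -⟩
  · exact Subgroup.mem_sup_left h1
  · exact Subgroup.mem_sup_right fun π hπ => h1 hπ c (self_mem_cls O c)

omit hgen hT hS in
/-- The class and the stabilizer of its plane intersect trivially. -/
theorem cls_inf_stab (C : Ctx ρ O a e f x) : cls O a ⊓ stab ρ (comm ρ (cls O a)) = ⊥ := by
  rw [eq_bot_iff]
  rintro g ⟨hg, hs⟩
  rw [Subgroup.mem_bot]
  apply C.eq_of_agree
  · intro π hπ
    rw [hs π (by rw [comm_eq_pl C]; exact hπ)]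
    simp
  · intro y hy
    rw [hy g hg]
    simp

/-- The class and the stabilizer of its plane commute. -/
theorem cls_comm_stab (C : Ctx ρ O a e f x) {g y : Γ} (hg : g ∈ cls O a)
    (hy : y ∈ stab ρ (comm ρ (cls O a))) : g * y = y * g := by
  have hn := cls_normal hgen hT hS C
  have hP : ∀ π ∈ pl (p := p) e (ρ x e), ρ y π = π := by
    intro π hπ
    exact hy π (by rw [comm_eq_pl C]; exact hπ)
  have h1 : y * g⁻¹ * y⁻¹ ∈ cls O a := hn.conj_mem _ ((cls O a).inv_mem hg) y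
  have h2 : g * (y * g⁻¹ * y⁻¹) = 1 := by
    apply C.eq_of_agree
    · intro π hπ
      have h3 : ρ y⁻¹ π = π := by
        calc ρ y⁻¹ π = ρ y⁻¹ (ρ y π) := by rw [hP π hπ]
          _ = π := rho_inv_apply_cancel _ _
      have h4 : ρ g⁻¹ π ∈ pl (p := p) e (ρ x e) := C.pl_inv ((cls O a).inv_mem hg) hπ
      simp only [map_mul, Module.End.mul_apply, map_one, Module.End.one_apply]
      rw [h3, hP _ h4, rho_apply_inv_cancel]
    · intro c hc
      rw [hc _ ((cls O a).mul_mem hg h1)]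
      simp
  have h3 : g * y * g⁻¹ * y⁻¹ = 1 := by
    rw [← h2]
    group
  calc g * y = (g * y * g⁻¹ * y⁻¹) * (y * g) := by group
    _ = y * g := by rw [h3, one_mul]

/-- The stabilizer of the plane moves vectors into the fixed points. -/
theorem stab_comm_mem (C : Ctx ρ O a e f x) {y : Γ} (hy : y ∈ stab ρ (comm ρ (cls O a))) (m : M) :
    ρ y m - m ∈ fix ρ (cls O a) := by
  have hP : ∀ π ∈ pl (p := p) e (ρ x e), ρ y π = π := by
    intro π hπ
    exact hy π (by rw [comm_eq_pl C]; exact hπ)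
  obtain ⟨π, hπ, c, hc, rfl⟩ := C.exists_split m
  have h1 : ρ y c ∈ fix ρ (cls O a) := by
    intro g hg
    have h2 := cls_comm_stab hgen hT hS C hg hy
    rw [← Module.End.mul_apply, ← map_mul, h2, map_mul, Module.End.mul_apply, hc g hg]
  have h2 : ρ y (π + c) - (π + c) = ρ y c - c := by
    rw [map_add, hP π hπ]
    abel
  rw [h2]
  exact Submodule.sub_mem _ h1 hc

end factor

section family

/-- The modular lattice lemma. -/
theorem mod_lemma {ι : Type*} [Finite ι] (X Y : ι → Submodule (ZMod p) M)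
    (h1 : ∀ i, X i ⊓ Y i = ⊥) (h2 : ∀ i, X i ⊔ Y i = ⊤) (h3 : ∀ i j, i ≠ j → X i ≤ Y j) :
    (⨆ i, X i) ⊓ (⨅ i, Y i) = ⊥ ∧ (⨆ i, X i) ⊔ (⨅ i, Y i) = ⊤ := by
  classical
  letI := Fintype.ofFinite ι
  have key : ∀ s : Finset ι, (⨆ i ∈ s, X i) ⊓ (⨅ i ∈ s, Y i) = ⊥ ∧
      (⨆ i ∈ s, X i) ⊔ (⨅ i ∈ s, Y i) = ⊤ := by
    intro s
    induction s using Finset.induction_on with
    | empty => simp
    | insert i₀ s hi₀ ih =>
      obtain ⟨ih1, ih2⟩ := ih
      have hA : (⨆ i ∈ s, X i) ≤ Y i₀ := by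
        refine iSup₂_le fun i hi => h3 i i₀ ?_
        rintro rfl
        exact hi₀ hi
      have hB : X i₀ ≤ ⨅ i ∈ s, Y i := by
        refine le_iInf₂ fun i hi => h3 i₀ i ?_
        rintro rfl
        exact hi₀ hi
      rw [Finset.iSup_insert, Finset.iInf_insert]
      constructor
      · rw [eq_bot_iff]
        rintro m ⟨hm1, hm2⟩
        have hm3 : m ∈ Y i₀ := (Submodule.mem_inf.mp hm2).1
        have hm4 : m ∈ ⨅ i ∈ s, Y i := (Submodule.mem_inf.mp hm2).2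
        obtain ⟨ξ, hξ, α, hα, rfl⟩ := Submodule.mem_sup.mp hm1
        have h5 : ξ ∈ Y i₀ := by
          have := Submodule.sub_mem _ hm3 (hA hα)
          rwa [add_sub_cancel_right] at this
        have h6 : ξ ∈ X i₀ ⊓ Y i₀ := ⟨hξ, h5⟩
        rw [h1, Submodule.mem_bot] at h6
        subst h6
        rw [zero_add] at hm4 ⊢
        have h7 : α ∈ (⨆ i ∈ s, X i) ⊓ (⨅ i ∈ s, Y i) := ⟨hα, hm4⟩
        rw [ih1, Submodule.mem_bot] at h7
        exact h7
      · rw [eq_top_iff]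
        intro m _
        have hm : m ∈ (⨆ i ∈ s, X i) ⊔ (⨅ i ∈ s, Y i) := by rw [ih2]; trivial
        obtain ⟨α, hα, β, hβ, rfl⟩ := Submodule.mem_sup.mp hm
        have hβ' : β ∈ X i₀ ⊔ Y i₀ := by rw [h2]; trivial
        obtain ⟨ξ, hξ, η, hη, rfl⟩ := Submodule.mem_sup.mp hβ'
        have h5 : η ∈ ⨅ i ∈ s, Y i := by
          have := Submodule.sub_mem _ hβ (hB hξ)
          rwa [add_sub_cancel_left] at this
        have e1 : α + (ξ + η) = (ξ + α) + η := by abel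
        rw [e1]
        exact Submodule.add_mem_sup
          (Submodule.add_mem_sup hξ hα) (Submodule.mem_inf.mpr ⟨hη, h5⟩)
  have := key Finset.univ
  simpa using this

variable {ι : Type*} [Finite ι] {Ef : ι → Subgroup Γ}

/-- Distinct classes: mutual behaviour. -/
theorem family_pair (hEf : ∀ i, ∃ (c : Γ) (e₂ : M) (f₂ : M →ₗ[ZMod p] ZMod p) (x₂ : Γ),
      Ctx ρ O c e₂ f₂ x₂ ∧ Ef i = cls O c) (hinj : Function.Injective Ef) {i j : ι} (hij : i ≠ j) :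
    (∀ g ∈ Ef i, ∀ h ∈ Ef j, g * h = h * g) ∧ comm ρ (Ef i) ≤ fix ρ (Ef j) := by
  obtain ⟨c, e₂, f₂, x₂, C, h1⟩ := hEf i
  obtain ⟨c', e₃, f₃, x₃, C', h2⟩ := hEf j
  rcases dichotomy C C' with ⟨-, h3⟩ | ⟨h3, h4, -⟩
  · exfalso
    apply hij
    apply hinj
    rw [h1, h2, h3]
  · rw [h1, h2]
    exact ⟨h3, h4⟩

theorem family_indep (hEf : ∀ i, ∃ (c : Γ) (e₂ : M) (f₂ : M →ₗ[ZMod p] ZMod p) (x₂ : Γ),
      Ctx ρ O c e₂ f₂ x₂ ∧ Ef i = cls O c) (hinj : Function.Injective Ef) : iSupIndep Ef := by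
  intro i
  rw [disjoint_iff, eq_bot_iff]
  rintro g ⟨hg1, hg2⟩
  obtain ⟨c, e₂, f₂, x₂, C, h1⟩ := hEf i
  have hle : (⨆ j, ⨆ (_ : j ≠ i), Ef j) ≤ stab ρ (comm ρ (Ef i)) := by
    refine iSup₂_le fun j hj h hh π hπ => ?_
    exact (family_pair hEf hinj (Ne.symm hj)).2 hπ h hh
  have h2 := hle hg2
  have h3 : g ∈ cls O c ⊓ stab ρ (comm ρ (cls O c)) := by
    rw [h1] at hg1 h2
    exact ⟨hg1, h2⟩
  rw [cls_inf_stab C] at h3
  exact h3

theorem fix_iSup (Ef : ι → Subgroup Γ) : fix ρ (⨆ i, Ef i) = ⨅ i, fix ρ (Ef i) := by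
  apply le_antisymm
  · exact le_iInf fun i => fix_anti (le_iSup Ef i)
  · intro m hm g hg
    rw [Submodule.mem_iInf] at hm
    induction hg using Subgroup.iSup_induction' with
    | hp i x hx => exact hm i x hx
    | h1 => simp
    | hmul x y _ _ hx hy => rw [map_mul, Module.End.mul_apply, hy, hx]

/-- The decomposition of the module. -/
theorem family_module (hEf : ∀ i, ∃ (c : Γ) (e₂ : M) (f₂ : M →ₗ[ZMod p] ZMod p) (x₂ : Γ),
      Ctx ρ O c e₂ f₂ x₂ ∧ Ef i = cls O c) (hinj : Function.Injective Ef) :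
    (⨆ i, comm ρ (Ef i)) ⊓ fix ρ (⨆ i, Ef i) = ⊥ ∧ (⨆ i, comm ρ (Ef i)) ⊔ fix ρ (⨆ i, Ef i) = ⊤ ∧
      ∀ i j, i ≠ j → comm ρ (Ef i) ≤ fix ρ (Ef j) := by
  rw [fix_iSup]
  have h3 : ∀ i j, i ≠ j → comm ρ (Ef i) ≤ fix ρ (Ef j) := fun i j hij =>
    (family_pair hEf hinj hij).2
  obtain ⟨h4, h5⟩ := mod_lemma (fun i => comm ρ (Ef i)) (fun i => fix ρ (Ef i))
    (fun i => by
      obtain ⟨c, e₂, f₂, x₂, C, h1⟩ := hEf i
      show comm ρ (Ef i) ⊓ fix ρ (Ef i) = ⊥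
      rw [h1, comm_eq_pl C]
      exact C.inf_fix_eq_bot)
    (fun i => by
      obtain ⟨c, e₂, f₂, x₂, C, h1⟩ := hEf i
      show comm ρ (Ef i) ⊔ fix ρ (Ef i) = ⊤
      rw [h1, comm_eq_pl C, eq_top_iff]
      intro m _
      obtain ⟨π, hπ, y, hy, rfl⟩ := C.exists_split m
      exact Submodule.add_mem_sup hπ hy) h3
  exact ⟨h4, h5, h3⟩

end family

end Cfsg.Agent.Lib.QuadAct.FFDicho
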