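import Cfsg.Agent.Lib.QuadAct.FFDicho
import Cfsg.Agent.Lib.QuadAct.ZJ

/-!
# Dictionary between subgroups of `G` and the module language
-/

set_option autoImplicit false
set_option linter.unusedSectionVars false
set_option linter.unusedSimpArgs false
set_option linter.style.haveILetI false

open scoped commutatorElement
open Module

namespace Cfsg.Agent.Lib.QuadAct.FFDict

open Cfsg.Agent.Lib.QuadAct.FFBasic Cfsg.Agent.Lib.QuadAct.ThmA
open Cfsg.Agent.Lib.QuadAct.FFTrans Cfsg.Agent.Lib.QuadAct.FFTriple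
open Cfsg.Agent.Lib.QuadAct.FFGen Cfsg.Agent.Lib.QuadAct.FFPlane
open Cfsg.Agent.Lib.QuadAct.FFSL2 Cfsg.Agent.Lib.QuadAct.FFDicho
open Cfsg.Agent.Lib.Core.Basic

universe u

variable {G : Type u} [Group G] {p : ℕ} [Fact p.Prime] {V H : Subgroup G}
  {M : Type u} [AddCommGroup M] [Module (ZMod p) M] {ρ : H →* Module.End (ZMod p) M} {ι : M → G}

/-- Coordinates on `V`. -/
structure IsCoord (V H : Subgroup G) (ρ : H →* Module.End (ZMod p) M) (ι : M → G) : Prop where
  add : ∀ m n, ι (m + n) = ι m * ι n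
  inj : Function.Injective ι
  mem : ∀ m, ι m ∈ V
  surj : ∀ v ∈ V, ∃ m, ι m = v
  conj : ∀ (g : H) (m : M), ι (ρ g m) = (g : G) * ι m * (g : G)⁻¹
  faith : Function.Injective ρ

namespace IsCoord

variable (D : IsCoord V H ρ ι)

include D

theorem zero : ι 0 = 1 := by
  have h := D.add 0 0
  rw [add_zero] at h
  exact mul_eq_left.mp h.symm |>.symm ▸ rfl

theorem neg (m : M) : ι (-m) = (ι m)⁻¹ := by
  have h := D.add (-m) m
  rw [neg_add_cancel, D.zero] at h
  exact eq_inv_of_mul_eq_one_left h.symm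

theorem sub (m n : M) : ι (m - n) = ι m * (ι n)⁻¹ := by
  rw [sub_eq_add_neg, D.add, D.neg]

theorem comm (m n : M) : ι m * ι n = ι n * ι m := by
  rw [← D.add, ← D.add, add_comm]

theorem nsmul (k : ℕ) (m : M) : ι (k • m) = (ι m) ^ k := by
  induction k with
  | zero => simp [D.zero]
  | succ k ih => rw [succ_nsmul, D.add, ih, pow_succ]

/-- Subgroups of `V` from submodules. -/
def toG (D : IsCoord V H ρ ι) (s : Submodule (ZMod p) M) : Subgroup G where
  carrier := ι '' s
  mul_mem' := by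
    rintro _ _ ⟨m, hm, rfl⟩ ⟨n, hn, rfl⟩
    exact ⟨m + n, s.add_mem hm hn, D.add m n⟩
  one_mem' := ⟨0, s.zero_mem, D.zero⟩
  inv_mem' := by
    rintro _ ⟨m, hm, rfl⟩
    exact ⟨-m, s.neg_mem hm, D.neg m⟩

omit D in
theorem mem_toG {D : IsCoord V H ρ ι} {s : Submodule (ZMod p) M} {x : G} :
    x ∈ toG D s ↔ ∃ m ∈ s, ι m = x := Iff.rfl

omit D in
theorem coe_mem_toG {D : IsCoord V H ρ ι} {s : Submodule (ZMod p) M} {m : M} :
    ι m ∈ toG D s ↔ m ∈ s := by
  constructor
  · rintro ⟨n, hn, hnm⟩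
    rwa [← D.inj hnm]
  · exact fun h => ⟨m, h, rfl⟩

omit D in
theorem toG_mono {D : IsCoord V H ρ ι} {s t : Submodule (ZMod p) M} (h : s ≤ t) :
    toG D s ≤ toG D t := by
  rintro _ ⟨m, hm, rfl⟩
  exact ⟨m, h hm, rfl⟩

omit D in
theorem toG_le_iff {D : IsCoord V H ρ ι} {s t : Submodule (ZMod p) M} :
    toG D s ≤ toG D t ↔ s ≤ t := by
  constructor
  · intro h m hm
    exact coe_mem_toG.mp (h ⟨m, hm, rfl⟩)
  · exact toG_mono

omit D in
theorem toG_injective {D : IsCoord V H ρ ι} : Function.Injective (toG D) := by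
  intro s t h
  apply le_antisymm
  · exact toG_le_iff.mp h.le
  · exact toG_le_iff.mp h.ge

omit D in
theorem card_toG (D : IsCoord V H ρ ι) (s : Submodule (ZMod p) M) :
    Nat.card (toG D s) = Nat.card s := by
  show Nat.card (ι '' (s : Set M)) = Nat.card s
  exact Nat.card_image_of_injective D.inj _

omit D in
theorem toG_top (D : IsCoord V H ρ ι) : toG D ⊤ = V := by
  ext x
  constructor
  · rintro ⟨m, -, rfl⟩
    exact D.mem m
  · intro hx
    obtain ⟨m, rfl⟩ := D.surj x hx
    exact ⟨m, trivial, rfl⟩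

omit D in
theorem toG_bot (D : IsCoord V H ρ ι) : toG D ⊥ = ⊥ := by
  ext x
  constructor
  · rintro ⟨m, hm, rfl⟩
    rw [(Submodule.mem_bot _).mp hm, D.zero]
    exact Subgroup.one_mem _
  · intro hx
    rw [Subgroup.mem_bot] at hx
    rw [hx]
    exact Subgroup.one_mem _

omit D in
theorem toG_inf (D : IsCoord V H ρ ι) (s t : Submodule (ZMod p) M) :
    toG D (s ⊓ t) = toG D s ⊓ toG D t := by
  apply le_antisymm
  · exact le_inf (toG_mono inf_le_left) (toG_mono inf_le_right)
  · rintro _ ⟨⟨m, hm, rfl⟩, hm2⟩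
    exact ⟨m, ⟨hm, coe_mem_toG.mp hm2⟩, rfl⟩

omit D in
theorem toG_sup (D : IsCoord V H ρ ι) (s t : Submodule (ZMod p) M) :
    toG D (s ⊔ t) = toG D s ⊔ toG D t := by
  apply le_antisymm
  · rintro _ ⟨m, hm, rfl⟩
    obtain ⟨a, ha, b, hb, rfl⟩ := Submodule.mem_sup.mp hm
    rw [D.add]
    exact Subgroup.mul_mem_sup ⟨a, ha, rfl⟩ ⟨b, hb, rfl⟩
  · exact sup_le (toG_mono le_sup_left) (toG_mono le_sup_right)

omit D in
theorem toG_iSup (D : IsCoord V H ρ ι) {κ : Sort*} (s : κ → Submodule (ZMod p) M) :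
    toG D (⨆ i, s i) = ⨆ i, toG D (s i) := by
  apply le_antisymm
  · rintro _ ⟨m, hm, rfl⟩
    induction hm using Submodule.iSup_induction' with
    | mem i x hx => exact Subgroup.mem_iSup_of_mem i ⟨x, hx, rfl⟩
    | zero => rw [D.zero]; exact Subgroup.one_mem _
    | add x y _ _ hx hy => rw [D.add]; exact Subgroup.mul_mem _ hx hy
  · exact iSup_le fun i => toG_mono (le_iSup s i)

theorem elem_mem_of_le {A : Subgroup G} (hA : A ≤ H) {g : G} (hg : g ∈ A) :
    (⟨g, hA hg⟩ : H) ∈ A.subgroupOf H := hg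

/-- Dictionary for fixed points. -/
theorem fix_dict {A : Subgroup G} (hA : A ≤ H) :
    toG D (fix ρ (A.subgroupOf H)) = V ⊓ Subgroup.centralizer (A : Set G) := by
  ext x
  constructor
  · rintro ⟨m, hm, rfl⟩
    refine ⟨D.mem m, ?_⟩
    show ι m ∈ Subgroup.centralizer (A : Set G)
    rw [Subgroup.mem_centralizer_iff]
    intro g hg
    have h1 := hm ⟨g, hA hg⟩ hg
    have h2 := D.conj ⟨g, hA hg⟩ m
    rw [h1] at h2
    have h3 : ι m = g * ι m * g⁻¹ := h2
    calc g * ι m = (g * ι m * g⁻¹) * g := by group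
      _ = ι m * g := by rw [← h3]
  · rintro ⟨hx, hc⟩
    obtain ⟨m, rfl⟩ := D.surj x hx
    refine ⟨m, ?_, rfl⟩
    rintro ⟨g, hgH⟩ hg
    have hc' := Subgroup.mem_centralizer_iff.mp (show ι m ∈ Subgroup.centralizer (A : Set G) from hc)
    apply D.inj
    rw [D.conj]
    have := hc' g hg
    show g * ι m * g⁻¹ = ι m
    rw [this]
    group

/-- Dictionary for commutators. -/
theorem comm_dict {A : Subgroup G} (hA : A ≤ H) :
    toG D (FFDicho.comm ρ (A.subgroupOf H)) = ⁅V, A⁆ := by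
  apply le_antisymm
  · rintro _ ⟨m, hm, rfl⟩
    induction hm using Submodule.span_induction with
    | mem m hm =>
      obtain ⟨g, hg, w, rfl⟩ := hm
      rw [D.sub, D.conj]
      have h1 : ⁅(ι w), (g : G)⁆⁻¹ = (g : G) * ι w * (g : G)⁻¹ * (ι w)⁻¹ := by
        rw [commutatorElement_inv, commutatorElement_def]
      rw [← h1]
      exact Subgroup.inv_mem _ (Subgroup.commutator_mem_commutator (D.mem w) hg)
    | zero => rw [D.zero]; exact Subgroup.one_mem _
    | add x y _ _ hx hy => rw [D.add]; exact Subgroup.mul_mem _ hx hy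
    | smul c x _ hx =>
      have h1 : c • x = c.val • x := by
        rw [← Nat.cast_smul_eq_nsmul (ZMod p), ZMod.natCast_val, ZMod.cast_id', id]
      rw [h1, D.nsmul]
      exact Subgroup.pow_mem _ hx _
  · rw [Subgroup.commutator_le]
    intro v hv g hg
    obtain ⟨m, rfl⟩ := D.surj v hv
    refine ⟨m - ρ ⟨g, hA hg⟩ m, ?_, ?_⟩
    · have h1 : m - ρ ⟨g, hA hg⟩ m = -(ρ ⟨g, hA hg⟩ m - m) := by abel
      rw [h1]
      exact Submodule.neg_mem _ (Submodule.subset_span ⟨⟨g, hA hg⟩, hg, m, rfl⟩)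
    · rw [D.sub, D.conj]
      rw [commutatorElement_def]
      group

/-- Dictionary for stabilizers. -/
theorem stab_dict (P : Submodule (ZMod p) M) :
    (stab ρ P).map H.subtype = H ⊓ Subgroup.centralizer (toG D P : Set G) := by
  ext x
  constructor
  · rintro ⟨g, hg, rfl⟩
    refine ⟨g.2, ?_⟩
    show (g : G) ∈ Subgroup.centralizer (toG D P : Set G)
    rw [Subgroup.mem_centralizer_iff]
    rintro _ ⟨m, hm, rfl⟩
    have h1 := D.conj g m
    rw [hg m hm] at h1
    show ι m * (g : G) = (g : G) * ι m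
    calc ι m * (g : G) = ((g : G) * ι m * (g : G)⁻¹) * g := by rw [← h1]
      _ = _ := by group
  · rintro ⟨hx, hc⟩
    refine ⟨⟨x, hx⟩, ?_, rfl⟩
    intro m hm
    apply D.inj
    rw [D.conj]
    have hc' := Subgroup.mem_centralizer_iff.mp (show x ∈ Subgroup.centralizer (toG D P : Set G) from hc)
    have := hc' (ι m) ⟨m, hm, rfl⟩
    show x * ι m * x⁻¹ = ι m
    rw [← this]
    group

theorem card_subgroupOf {A : Subgroup G} (hA : A ≤ H) : Nat.card (A.subgroupOf H) = Nat.card A :=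
  Nat.card_congr (Subgroup.subgroupOfEquivOfLe hA).toEquiv

theorem jj_dict {A : Subgroup G} (hA : A ≤ H) :
    jj ρ (A.subgroupOf H) = Nat.card A * Nat.card ↥(V ⊓ Subgroup.centralizer (A : Set G)) := by
  unfold jj
  rw [D.card_subgroupOf hA, ← D.fix_dict hA, card_toG]

theorem card_M : Nat.card M = Nat.card V := by
  have h := card_toG D ⊤
  rw [toG_top] at h
  rw [h]
  exact (Nat.card_congr (Submodule.topEquiv (R := ZMod p) (M := M)).toEquiv).symm

/-- Best offenders, in the two languages. -/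
theorem best_of_isBest [Finite G] {A : Subgroup G} (hf : H ⊓ Subgroup.centralizer (V : Set G) = ⊥)
    (hA : A ≤ H) (h : Cfsg.IsBestOffenderOn p V A) : Best ρ (A.subgroupOf H) := by
  refine ⟨fun B' hB' => ?_, ?_⟩
  · set B := B'.map H.subtype with hB
    have hBH : B ≤ H := Subgroup.map_subtype_le _
    have hBA : B ≤ A := by
      rintro _ ⟨b, hb, rfl⟩
      exact hB' hb
    have e : B.subgroupOf H = B' := Subgroup.comap_map_eq_self_of_injective H.subtype_injective _
    rw [← e, D.jj_dict hBH, D.jj_dict hA]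
    exact h.1 B hBA
  · have hbot : ∀ g ∈ A, g ∈ Subgroup.centralizer (V : Set G) → g = 1 := by
      intro g hg hc
      have : g ∈ H ⊓ Subgroup.centralizer (V : Set G) := ⟨hA hg, hc⟩
      rwa [hf] at this
    apply Cfsg.Agent.Lib.QuadAct.ZJ.isElementaryAbelian_comap _ (Subgroup.subtype_injective _)
    refine ⟨⟨⟨?_⟩⟩, fun a ha => hbot _ (A.pow_mem ha p) (h.2.2 a ha)⟩
    rintro ⟨x, hx⟩ ⟨y, hy⟩
    apply Subtype.ext
    have h1 : ⁅x, y⁆ ∈ ⁅A, A⁆ := Subgroup.commutator_mem_commutator hx hy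
    have h2 : ⁅x, y⁆ ∈ A := by
      rw [commutatorElement_def]
      exact A.mul_mem (A.mul_mem (A.mul_mem hx hy) (A.inv_mem hx)) (A.inv_mem hy)
    have h3 := hbot _ h2 (h.2.1 h1)
    exact commutatorElement_eq_one_iff_mul_comm.mp h3

theorem isBest_of_best [Finite G] {A : Subgroup G} (hA : A ≤ H) (h : Best ρ (A.subgroupOf H)) :
    Cfsg.IsBestOffenderOn p V A := by
  have hE : Cfsg.IsElementaryAbelian p A := by
    have h1 := Cfsg.Agent.Lib.QuadAct.Stable.isElementaryAbelian_map h.ea H.subtype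
    rwa [Subgroup.map_subgroupOf_eq_of_le hA] at h1
  refine ⟨fun B hB => ?_, ?_, fun a ha => ?_⟩
  · have hBH := hB.trans hA
    rw [← D.jj_dict hBH, ← D.jj_dict hA]
    exact h.le _ (Subgroup.comap_mono hB)
  · have h1 : ⁅A, A⁆ = ⊥ := by
      rw [Subgroup.commutator_eq_bot_iff_le_centralizer]
      intro x hx
      rw [Subgroup.mem_centralizer_iff]
      intro y hy
      exact Cfsg.Agent.Lib.QuadAct.Basic.comm_of_isMulCommutative hE.1 hy hx
    rw [h1]
    exact bot_le
  · rw [hE.2 a ha]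
    exact Subgroup.one_mem _

end IsCoord

theorem coord_aux {A : Type u} [CommGroup A] [Module (ZMod p) (Additive A)]
    {Γ : Type*} [Group Γ] (f : Γ →* MulAut A) (hf : Function.Injective f) :
    ∃ ρ : Γ →* Module.End (ZMod p) (Additive A), Function.Injective ρ ∧
        ∀ (g : Γ) (x : Additive A), ρ g x = Additive.ofMul (f g (Additive.toMul x)) := by
  let ρ₀ : Γ → Module.End (ZMod p) (Additive A) := fun g =>
    AddMonoidHom.toZModLinearMap p (MonoidHom.toAdditive ((f g).toMonoidHom))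
  have h₀ : ∀ (g : Γ) (x : Additive A), ρ₀ g x = Additive.ofMul (f g (Additive.toMul x)) :=
    fun _ _ => rfl
  let ρ : Γ →* Module.End (ZMod p) (Additive A) :=
    { toFun := ρ₀
      map_one' := by
        apply LinearMap.ext
        intro x
        rw [h₀, map_one]
        rfl
      map_mul' := by
        intro g h
        apply LinearMap.ext
        intro x
        rw [h₀, map_mul]
        rfl }
  have hρ : ∀ (g : Γ) (x : Additive A), ρ g x = Additive.ofMul (f g (Additive.toMul x)) :=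
    fun _ _ => rfl
  refine ⟨ρ, ?_, hρ⟩
  intro g h hgh
  apply hf
  ext x
  have := congrArg (fun u : Module.End (ZMod p) (Additive A) => u (Additive.ofMul x)) hgh
  exact Additive.ofMul.injective this

/-- Existence of coordinates. -/
theorem exists_coord [Finite G] (hV : Cfsg.IsElementaryAbelian p V)
    (hHV : H ≤ Subgroup.normalizer (V : Set G))
    (hf : H ⊓ Subgroup.centralizer (V : Set G) = ⊥) :
    ∃ (M : Type u) (_ : AddCommGroup M) (_ : Module (ZMod p) M) (_ : Finite M)
      (ρ : H →* Module.End (ZMod p) M) (ι : M → G), IsCoord V H ρ ι := by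
  letI : CommGroup V :=
    { (inferInstance : Group V) with
      mul_comm := fun x y => Subtype.ext (Cfsg.Agent.Lib.QuadAct.Basic.comm_of_isMulCommutative hV.1 x.2 y.2) }
  have hexp' : ∀ x : Additive V, p • x = 0 := by
    intro x
    exact Subtype.ext (hV.2 _ (Additive.toMul x).2)
  letI hmod : Module (ZMod p) (Additive V) := AddCommGroup.zmodModule hexp'
  let f : H →* MulAut V := V.normalizerMonoidHom.comp (Subgroup.inclusion hHV)
  have hfv : ∀ (g : H) (v : V), ((f g v : V) : G) = (g : G) * v * (g : G)⁻¹ := fun _ _ => rfl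
  have hfinj : Function.Injective f := by
    rw [injective_iff_map_eq_one]
    intro g hg
    have h1 : (g : G) ∈ H ⊓ Subgroup.centralizer (V : Set G) := by
      refine ⟨g.2, Subgroup.mem_centralizer_iff.mpr fun v hv => ?_⟩
      have := congrArg (fun u : MulAut V => ((u ⟨v, hv⟩ : V) : G)) hg
      have h2 : (g : G) * v * (g : G)⁻¹ = v := this
      calc v * (g : G) = ((g : G) * v * (g : G)⁻¹) * g := by rw [h2]
        _ = (g : G) * v := by group
    rw [hf] at h1
    exact Subtype.ext (Subgroup.mem_bot.mp h1)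
  obtain ⟨ρ, hρ, hρa⟩ := coord_aux (p := p) f hfinj
  refine ⟨Additive V, inferInstance, hmod, inferInstanceAs (Finite V), ρ,
    fun m => ((Additive.toMul m : V) : G), ?_⟩
  refine ⟨fun m n => rfl, ?_, fun m => (Additive.toMul m).2, ?_, ?_, hρ⟩
  · intro m n h
    exact Additive.toMul.injective (Subtype.ext h)
  · intro v hv
    exact ⟨Additive.ofMul ⟨v, hv⟩, rfl⟩
  · intro g m
    rw [hρa]
    exact hfv g (Additive.toMul m)

end Cfsg.Agent.Lib.QuadAct.FFDict
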