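import Mathlib

/-!
# `SL(2, 𝔽_p)` is generated by two opposite root elements
-/

set_option autoImplicit false

open scoped Matrix

namespace Cfsg.Agent.Lib.QuadAct.FFGen

variable {p : ℕ} [Fact p.Prime]

/-- Upper root element. -/
def UU (c : ZMod p) : Matrix.SpecialLinearGroup (Fin 2) (ZMod p) :=
  ⟨!![1, c; 0, 1], by simp [Matrix.det_fin_two]⟩

/-- Lower root element. -/
def LL (c : ZMod p) : Matrix.SpecialLinearGroup (Fin 2) (ZMod p) :=
  ⟨!![1, 0; c, 1], by simp [Matrix.det_fin_two]⟩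

omit [Fact p.Prime] in
theorem sl_ext {x y : Matrix.SpecialLinearGroup (Fin 2) (ZMod p)}
    (h : ∀ i j, x.1 i j = y.1 i j) : x = y := by
  apply Subtype.ext
  ext i j
  exact h i j

theorem coe_mul_apply (x y : Matrix.SpecialLinearGroup (Fin 2) (ZMod p)) (i j : Fin 2) :
    (x * y).1 i j = x.1 i 0 * y.1 0 j + x.1 i 1 * y.1 1 j := by
  rw [show (x * y).1 = x.1 * y.1 from rfl, Matrix.mul_apply, Fin.sum_univ_two]

@[simp] theorem UU_00 (c : ZMod p) : (UU c).1 0 0 = 1 := rfl
@[simp] theorem UU_01 (c : ZMod p) : (UU c).1 0 1 = c := rfl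
@[simp] theorem UU_10 (c : ZMod p) : (UU c).1 1 0 = 0 := rfl
@[simp] theorem UU_11 (c : ZMod p) : (UU c).1 1 1 = 1 := rfl
@[simp] theorem LL_00 (c : ZMod p) : (LL c).1 0 0 = 1 := rfl
@[simp] theorem LL_01 (c : ZMod p) : (LL c).1 0 1 = 0 := rfl
@[simp] theorem LL_10 (c : ZMod p) : (LL c).1 1 0 = c := rfl
@[simp] theorem LL_11 (c : ZMod p) : (LL c).1 1 1 = 1 := rfl

theorem UU_mul (c d : ZMod p) : UU c * UU d = UU (c + d) := by
  apply sl_ext
  intro i j
  fin_cases i <;> fin_cases j <;> simp [coe_mul_apply, add_comm]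

theorem LL_mul (c d : ZMod p) : LL c * LL d = LL (c + d) := by
  apply sl_ext
  intro i j
  fin_cases i <;> fin_cases j <;> simp [coe_mul_apply, add_comm]

theorem UU_zero : UU (0 : ZMod p) = 1 := by
  apply sl_ext
  intro i j
  fin_cases i <;> fin_cases j <;> simp [UU]

theorem LL_zero : LL (0 : ZMod p) = 1 := by
  apply sl_ext
  intro i j
  fin_cases i <;> fin_cases j <;> simp [LL]

theorem UU_pow (c : ZMod p) (n : ℕ) : UU c ^ n = UU ((n : ZMod p) * c) := by
  induction n with
  | zero => simp [UU_zero]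
  | succ n ih =>
    rw [pow_succ, ih, UU_mul]
    congr 1
    push_cast
    ring

theorem LL_pow (c : ZMod p) (n : ℕ) : LL c ^ n = LL ((n : ZMod p) * c) := by
  induction n with
  | zero => simp [LL_zero]
  | succ n ih =>
    rw [pow_succ, ih, LL_mul]
    congr 1
    push_cast
    ring

/-- The generation statement. -/
theorem closure_UU_LL {α β : ZMod p} (hα : α ≠ 0) (hβ : β ≠ 0) :
    Subgroup.closure {UU α, LL β} = (⊤ : Subgroup (Matrix.SpecialLinearGroup (Fin 2) (ZMod p))) := by
  set S := Subgroup.closure {UU α, LL β} with hS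
  have hU : ∀ c, UU c ∈ S := by
    intro c
    have h1 : UU α ∈ S := Subgroup.subset_closure (by simp)
    have h2 := S.pow_mem h1 (c / α).val
    rw [UU_pow] at h2
    rw [ZMod.natCast_val, ZMod.cast_id', id, div_mul_cancel₀ _ hα] at h2
    exact h2
  have hL : ∀ c, LL c ∈ S := by
    intro c
    have h1 : LL β ∈ S := Subgroup.subset_closure (by simp)
    have h2 := S.pow_mem h1 (c / β).val
    rw [LL_pow] at h2
    rw [ZMod.natCast_val, ZMod.cast_id', id, div_mul_cancel₀ _ hβ] at h2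
    exact h2
  have key : ∀ t : Matrix.SpecialLinearGroup (Fin 2) (ZMod p), t.1 1 0 ≠ 0 → t ∈ S := by
    intro t ht
    have hdet : t.1 0 0 * t.1 1 1 - t.1 0 1 * t.1 1 0 = 1 := by
      have := t.2
      rwa [Matrix.det_fin_two] at this
    have e : t = UU ((t.1 0 0 - 1) / t.1 1 0) * LL (t.1 1 0) * UU ((t.1 1 1 - 1) / t.1 1 0) := by
      apply sl_ext
      intro i j
      fin_cases i <;> fin_cases j <;> simp [coe_mul_apply]
      all_goals field_simp
      all_goals first | ring1 | (linear_combination hdet) | (linear_combination -hdet)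
    rw [e]
    exact S.mul_mem (S.mul_mem (hU _) (hL _)) (hU _)
  rw [eq_top_iff]
  intro t _
  by_cases ht : t.1 1 0 = 0
  · have hdet : t.1 0 0 * t.1 1 1 - t.1 0 1 * t.1 1 0 = 1 := by
      have := t.2
      rwa [Matrix.det_fin_two] at this
    have h00 : t.1 0 0 ≠ 0 := by
      intro h
      rw [h, ht] at hdet
      simp at hdet
    have h1 : (LL 1 * t).1 1 0 ≠ 0 := by
      simpa [coe_mul_apply, ht] using h00
    have h2 := S.mul_mem (hL (-1)) (key _ h1)
    have h3 : LL (-1 : ZMod p) * (LL 1 * t) = t := by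
      rw [← mul_assoc, LL_mul]
      simp [LL_zero]
    rwa [h3] at h2
  · exact key t ht

end Cfsg.Agent.Lib.QuadAct.FFGen
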