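import Cfsg.Agent.Lib.QuadAct.FFDicho

/-!
# Minimal best offenders are generated by a transvection; generation
-/

set_option autoImplicit false
set_option linter.unusedSectionVars false
set_option linter.unusedSimpArgs false
set_option linter.style.haveILetI false

open scoped commutatorElement
open Module

namespace Cfsg.Agent.Lib.QuadAct.FFMin

open Cfsg.Agent.Lib.QuadAct.FFBasic Cfsg.Agent.Lib.QuadAct.ThmA
open Cfsg.Agent.Lib.QuadAct.FFTrans Cfsg.Agent.Lib.QuadAct.FFTriple
open Cfsg.Agent.Lib.QuadAct.FFGen Cfsg.Agent.Lib.QuadAct.FFPlane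
open Cfsg.Agent.Lib.QuadAct.FFSL2 Cfsg.Agent.Lib.QuadAct.FFDicho
open Cfsg.Agent.Lib.Core.Basic

universe u v

variable {p : ℕ} [Fact p.Prime] {Γ : Type u} [Group Γ] [Finite Γ] {M : Type v} [AddCommGroup M]
  [Module (ZMod p) M] [Finite M] {ρ : Γ →* Module.End (ZMod p) M}

theorem exists_dual {e : M} (he : e ≠ 0) : ∃ φ : M →ₗ[ZMod p] ZMod p, φ e = 1 := by
  have h1 : ¬ ∀ φ : Module.Dual (ZMod p) M, φ e = 0 := by
    intro h
    exact he ((Module.forall_dual_apply_eq_zero_iff (ZMod p) e).mp h)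
  push Not at h1
  obtain ⟨φ, hφ⟩ := h1
  exact ⟨(φ e)⁻¹ • φ, by simp [hφ]⟩

/-- Rank one elements of order `p`. -/
theorem tv_of_rank_one {a : Γ} (ha : a ^ p = 1)
    (hcard : p * Nat.card (fix ρ (Subgroup.zpowers a)) = Nat.card M) :
    ∃ e f, TV ρ a e f := by
  have hp : p.Prime := Fact.out
  haveI : Module.Finite (ZMod p) M := Module.Finite.of_finite
  set τ : Module.End (ZMod p) M := ρ a - 1 with hτ
  have hfixker : fix ρ (Subgroup.zpowers a) = LinearMap.ker τ := by
    ext m
    constructor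
    · intro h
      have := h a (Subgroup.mem_zpowers a)
      rw [LinearMap.mem_ker, hτ, LinearMap.sub_apply, this]
      simp
    · intro h g hg
      rw [LinearMap.mem_ker, hτ, LinearMap.sub_apply, Module.End.one_apply, sub_eq_zero] at h
      have hle : Subgroup.zpowers a ≤ stab ρ (Submodule.span (ZMod p) {m}) := by
        rw [Subgroup.zpowers_le]
        intro π hπ
        obtain ⟨c, rfl⟩ := Submodule.mem_span_singleton.mp hπ
        rw [map_smul, h]
      exact hle hg m (Submodule.mem_span_singleton_self m)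
  rw [hfixker] at hcard
  -- rank one
  have h1 : Nat.card M = p ^ Module.finrank (ZMod p) M := by
    rw [Module.natCard_eq_pow_finrank (K := ZMod p), Nat.card_zmod]
  have h2 : Nat.card (LinearMap.ker τ) = p ^ Module.finrank (ZMod p) (LinearMap.ker τ) := by
    rw [Module.natCard_eq_pow_finrank (K := ZMod p), Nat.card_zmod]
  rw [h1, h2, ← pow_succ'] at hcard
  have h3 := Nat.pow_right_injective hp.two_le hcard
  have h4 := LinearMap.finrank_range_add_finrank_ker τ
  have h5 : Module.finrank (ZMod p) (LinearMap.range τ) = 1 := by omega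
  obtain ⟨e₀, he₀, hspan⟩ := finrank_eq_one_iff'.mp h5
  set e : M := (e₀ : M) with he
  have he0 : e ≠ 0 := fun h => he₀ (Subtype.ext h)
  obtain ⟨φ, hφ⟩ := exists_dual (p := p) he0
  let f : M →ₗ[ZMod p] ZMod p := φ.comp τ
  have hτa : ∀ w, τ w = f w • e := by
    intro w
    obtain ⟨c, hc⟩ := hspan ⟨τ w, ⟨w, rfl⟩⟩
    have h6 : τ w = c • e := (congrArg Subtype.val hc).symm
    have h7 : f w = c := by
      show φ (τ w) = c
      rw [h6, map_smul, hφ, smul_eq_mul, mul_one]
    rw [h7, h6]
  have hra : ∀ w, ρ a w = w + f w • e := by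
    intro w
    have := hτa w
    rw [hτ, LinearMap.sub_apply, Module.End.one_apply, sub_eq_iff_eq_add] at this
    rw [this, add_comm]
  -- `f e = 0`
  have hfe : f e = 0 := by
    set l := f e with hl
    have hpow : ∀ n : ℕ, ρ (a ^ n) e = (1 + l) ^ n • e := by
      intro n
      induction n with
      | zero => simp
      | succ n ih =>
        rw [pow_succ, map_mul, Module.End.mul_apply, hra, ← hl, map_add, map_smul, ih, smul_smul,
          ← one_smul (ZMod p) ((1 + l) ^ n • e), smul_smul, ← add_smul]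
        congr 1
        ring
    have h6 := hpow p
    rw [ha, map_one, Module.End.one_apply, add_pow_char, one_pow, ZMod.pow_card, add_smul, one_smul]
      at h6
    have h7 : l • e = 0 := by
      have := add_eq_left.mp h6.symm
      exact this
    exact (smul_eq_zero.mp h7).resolve_right he0
  obtain ⟨u, hu⟩ : ∃ u, τ u = e := by
    obtain ⟨u, hu⟩ := e₀.2
    exact ⟨u, hu⟩
  refine ⟨e, f, hra, hfe, he0, u, ?_⟩
  have h6 := hτa u
  rw [hu] at h6
  have h7 : (f u - 1) • e = 0 := by
    rw [sub_smul, one_smul, ← h6, sub_self]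
  exact sub_eq_zero.mp ((smul_eq_zero.mp h7).resolve_right he0)

/-- A minimal best offender is generated by a transvection. -/
theorem exists_TV (hρ : Function.Injective ρ)
    (hS1 : Subgroup.centralizer (Cfsg.pPrimeCore p Γ : Set Γ) ≤ Cfsg.pPrimeCore p Γ)
    {A : Subgroup Γ} (hA : MinBest ρ A) :
    ∃ a, A = Subgroup.zpowers a ∧ ∃ e f, TV ρ a e f := by
  have hp : p.Prime := Fact.out
  have hcard := MinBest.card_eq hρ hS1 hA
  obtain ⟨⟨a, haA⟩, ha⟩ := (Subgroup.ne_bot_iff_exists_ne_one).mp hA.ne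
  have ha1 : a ≠ 1 := fun h => ha (Subtype.ext h)
  have hpow : a ^ p = 1 := hA.best.ea.2 a haA
  have hord : orderOf a = p := orderOf_eq_prime hpow ha1
  have hz : A = Subgroup.zpowers a := by
    symm
    apply Subgroup.eq_of_le_of_card_ge
    · rwa [Subgroup.zpowers_le]
    · rw [hcard, Nat.card_zpowers, hord]
  refine ⟨a, hz, ?_⟩
  apply tv_of_rank_one hpow
  rw [← hz]
  exact MinBest.card_fix hρ hS1 hA

/-- The kernel of the action on `M / S`. -/
def trivOn (ρ : Γ →* Module.End (ZMod p) M) (S : Submodule (ZMod p) M) : Subgroup Γ where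
  carrier := {g | ∀ w, ρ g w - w ∈ S}
  one_mem' := fun w => by simp
  mul_mem' := by
    intro g h hg hh w
    have : ρ (g * h) w - w = (ρ g (ρ h w) - ρ h w) + (ρ h w - w) := by
      rw [map_mul, Module.End.mul_apply]
      abel
    rw [this]
    exact S.add_mem (hg _) (hh _)
  inv_mem' := by
    intro g hg w
    have h1 := hg (ρ g⁻¹ w)
    rw [rho_apply_inv_cancel] at h1
    have : ρ g⁻¹ w - w = -(w - ρ g⁻¹ w) := by abel
    rw [this]
    exact S.neg_mem h1

theorem comm_le_iff {A : Subgroup Γ} {S : Submodule (ZMod p) M} :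
    comm ρ A ≤ S ↔ A ≤ trivOn ρ S := by
  constructor
  · intro h g hg w
    exact h (Submodule.subset_span ⟨g, hg, w, rfl⟩)
  · intro h
    refine Submodule.span_le.mpr ?_
    rintro _ ⟨g, hg, w, rfl⟩
    exact h hg w

/-- `comm` of a transvection. -/
theorem comm_zpowers {a : Γ} {e : M} {f : M →ₗ[ZMod p] ZMod p} (h : TV ρ a e f) :
    comm ρ (Subgroup.zpowers a) = Submodule.span (ZMod p) {e} := by
  apply le_antisymm
  · rw [comm_le_iff, Subgroup.zpowers_le]
    intro w
    rw [h.apply, add_sub_cancel_left]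
    exact Submodule.smul_mem _ _ (Submodule.mem_span_singleton_self e)
  · refine Submodule.span_le.mpr ?_
    rintro _ rfl
    obtain ⟨u, hu⟩ := h.f1
    refine Submodule.subset_span ⟨a, Subgroup.mem_zpowers a, u, ?_⟩
    rw [h.apply, hu, one_smul, add_sub_cancel_left]

theorem card_span_singleton {e : M} (he : e ≠ 0) :
    Nat.card (Submodule.span (ZMod p) {e}) = p := by
  rw [Module.natCard_eq_pow_finrank (K := ZMod p), Nat.card_zmod, finrank_span_singleton he,
    pow_one]

/-- `Γ` is generated by transvections. -/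
theorem closure_tv_eq_top (hρ : Function.Injective ρ)
    (hS1 : Subgroup.centralizer (Cfsg.pPrimeCore p Γ : Set Γ) ≤ Cfsg.pPrimeCore p Γ)
    (hgen : ∀ g : Γ, g ∈ ⨆ A : {A : Subgroup Γ // Best ρ A}, (A : Subgroup Γ)) :
    ⨆ A : {A : Subgroup Γ // MinBest ρ A}, (A : Subgroup Γ) = ⊤ := by
  rw [eq_top_iff]
  intro g _
  have hle : (⨆ A : {A : Subgroup Γ // Best ρ A}, (A : Subgroup Γ)) ≤
      ⨆ A : {A : Subgroup Γ // MinBest ρ A}, (A : Subgroup Γ) := by
    refine iSup_le fun A => ?_
    obtain ⟨k, B, hB, -, hsup⟩ := exists_decomp hρ hS1 A.2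
    rw [← hsup]
    exact iSup_le fun i => le_iSup (fun A : {A : Subgroup Γ // MinBest ρ A} => (A : Subgroup Γ))
      ⟨B i, (hB i).2⟩
  exact hle (hgen g)

/-- The class description. -/
theorem cls_eq {O : Subgroup Γ} {a x : Γ} {e : M} {f : M →ₗ[ZMod p] ZMod p}
    (C : Ctx ρ O a e f x) :
    cls O a = ⁅O, Subgroup.zpowers a⁆ ⊔ Subgroup.zpowers a := by
  apply le_antisymm
  · rw [cls, Subgroup.closure_le]
    rintro _ ⟨z, hz, rfl⟩
    have h1 : z * a * z⁻¹ = ⁅z, a⁆ * a := by
      rw [commutatorElement_def]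
      group
    rw [h1]
    exact Subgroup.mul_mem_sup (Subgroup.commutator_mem_commutator hz (Subgroup.mem_zpowers a))
      (Subgroup.mem_zpowers a)
  · refine sup_le ?_ (Subgroup.zpowers_le.mpr (self_mem_cls O a))
    rw [Subgroup.commutator_le]
    intro z hz g hg
    have hg' : g ∈ cls O a := Subgroup.zpowers_le.mpr (self_mem_cls O a) hg
    rw [commutatorElement_def]
    exact (cls O a).mul_mem (C.conj_mem_of_mem hz hg') ((cls O a).inv_mem hg')

end Cfsg.Agent.Lib.QuadAct.FFMin
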