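import Cfsg.Agent.Lib.QuadAct.FFDict
import Cfsg.Agent.Lib.QuadAct.FFMin

/-!
# The structure of groups generated by best offenders: statements in `G`
-/

set_option autoImplicit false
set_option linter.unusedSectionVars false
set_option linter.unusedSimpArgs false
set_option linter.style.haveILetI false

open scoped commutatorElement
open Module

namespace Cfsg.Agent.Lib.QuadAct.FFMain

open Cfsg.Agent.Lib.QuadAct.FFBasic Cfsg.Agent.Lib.QuadAct.ThmA
open Cfsg.Agent.Lib.QuadAct.FFTrans Cfsg.Agent.Lib.QuadAct.FFTriple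
open Cfsg.Agent.Lib.QuadAct.FFGen Cfsg.Agent.Lib.QuadAct.FFPlane
open Cfsg.Agent.Lib.QuadAct.FFSL2 Cfsg.Agent.Lib.QuadAct.FFDicho
open Cfsg.Agent.Lib.QuadAct.FFDict Cfsg.Agent.Lib.QuadAct.FFMin
open Cfsg.Agent.Lib.Core.Basic

universe u

variable {G : Type u} [Group G] [Finite G] {p : ℕ} [Fact p.Prime] {V H : Subgroup G}
  {M : Type u} [AddCommGroup M] [Module (ZMod p) M] [Finite M] {ρ : H →* Module.End (ZMod p) M}
  {ι : M → G}

theorem eq_bot_of_commutator_eq_bot (hf : H ⊓ Subgroup.centralizer (V : Set G) = ⊥) {B : Subgroup G}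
    (hB : B ≤ H) (h : ⁅V, B⁆ = ⊥) : B = ⊥ := by
  rw [eq_bot_iff, ← hf]
  intro b hb
  refine ⟨hB hb, Subgroup.mem_centralizer_iff.mpr fun v hv => ?_⟩
  have := Subgroup.commutator_mem_commutator hv hb
  rw [h, Subgroup.mem_bot] at this
  exact commutatorElement_eq_one_iff_mul_comm.mp this

theorem commutator_bot : ⁅V, (⊥ : Subgroup G)⁆ = ⊥ := Subgroup.commutator_bot_right V

theorem map_subgroupOf_subtype {B' : Subgroup H} : (B'.map H.subtype).subgroupOf H = B' :=
  Subgroup.comap_map_eq_self_of_injective H.subtype_injective _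

theorem map_subtype_le' (B' : Subgroup H) : B'.map H.subtype ≤ H := Subgroup.map_subtype_le _

/-- `iSupIndep` is preserved by injective maps. -/
theorem iSupIndep_map {κ : Type*} {Γ Γ' : Type*} [Group Γ] [Group Γ'] {t : κ → Subgroup Γ}
    (ht : iSupIndep t) {φ : Γ →* Γ'} (hφ : Function.Injective φ) :
    iSupIndep fun i => (t i).map φ := by
  intro i
  have h1 : (⨆ j, ⨆ (_ : j ≠ i), (t j).map φ) = (⨆ j, ⨆ (_ : j ≠ i), t j).map φ := by
    simp only [Subgroup.map_iSup]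
  rw [h1]
  exact Subgroup.disjoint_map hφ (ht i)

section minimal

variable (D : IsCoord V H ρ ι)

include D

/-- Minimal best offenders, in the two languages. -/
theorem minBest_of (hf : H ⊓ Subgroup.centralizer (V : Set G) = ⊥) {A : Subgroup G} (hAH : A ≤ H)
    (hA : Cfsg.IsBestOffenderOn p V A) (hAV : ⁅V, A⁆ ≠ ⊥)
    (hmin : ∀ B : Subgroup G, B ≤ A → Cfsg.IsBestOffenderOn p V B → ⁅V, B⁆ ≠ ⊥ → B = A) :
    MinBest ρ (A.subgroupOf H) := by
  refine ⟨D.best_of_isBest hf hAH hA, ?_, fun B' hB' hb hne => ?_⟩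
  · intro h
    apply hAV
    have h1 : A = ⊥ := by
      rw [← Subgroup.map_subgroupOf_eq_of_le hAH, h, Subgroup.map_bot]
    rw [h1]
    exact commutator_bot
  · set B := B'.map H.subtype with hB
    have hBH : B ≤ H := map_subtype_le' _
    have hBA : B ≤ A := by
      rintro _ ⟨b, hb, rfl⟩
      exact hB' hb
    have e : B.subgroupOf H = B' := map_subgroupOf_subtype
    have h1 : Cfsg.IsBestOffenderOn p V B := D.isBest_of_best hBH (by rw [e]; exact hb)
    have h2 : ⁅V, B⁆ ≠ ⊥ := by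
      intro h3
      have h4 := eq_bot_of_commutator_eq_bot hf hBH h3
      apply hne
      rw [← e, h4]
      exact Subgroup.bot_subgroupOf H
    have h3 := hmin B hBA h1 h2
    rw [← e, h3]

/-- The converse translation of minimality. -/
theorem isMin_of (hf : H ⊓ Subgroup.centralizer (V : Set G) = ⊥) {B' : Subgroup H}
    (hB : MinBest ρ B') :
    Cfsg.IsBestOffenderOn p V (B'.map H.subtype) ∧ ⁅V, B'.map H.subtype⁆ ≠ ⊥ ∧
      ∀ C : Subgroup G, C ≤ B'.map H.subtype → Cfsg.IsBestOffenderOn p V C → ⁅V, C⁆ ≠ ⊥ →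
        C = B'.map H.subtype := by
  have hBH : B'.map H.subtype ≤ H := map_subtype_le' _
  have e : (B'.map H.subtype).subgroupOf H = B' := map_subgroupOf_subtype
  refine ⟨D.isBest_of_best hBH (by rw [e]; exact hB.best), ?_, fun C hC hCb hCne => ?_⟩
  · intro h
    have h1 := eq_bot_of_commutator_eq_bot hf hBH h
    apply hB.ne
    rw [← e, h1]
    exact Subgroup.bot_subgroupOf H
  · have hCH : C ≤ H := hC.trans hBH
    have h1 := D.best_of_isBest hf hCH hCb
    have h2 : C.subgroupOf H ≤ B' := by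
      rw [← e]
      exact Subgroup.comap_mono hC
    have h3 : C.subgroupOf H ≠ ⊥ := by
      intro h
      apply hCne
      have : C = ⊥ := by
        rw [← Subgroup.map_subgroupOf_eq_of_le hCH, h, Subgroup.map_bot]
      rw [this]
      exact commutator_bot
    have h4 := hB.min _ h2 h1 h3
    rw [← h4, Subgroup.map_subgroupOf_eq_of_le hCH]

end minimal

section main

variable (hV : Cfsg.IsElementaryAbelian p V) (hHV : H ≤ Subgroup.normalizer (V : Set G))
  (hf : H ⊓ Subgroup.centralizer (V : Set G) = ⊥)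
  (hS1 : Subgroup.centralizer (Cfsg.pPrimeCore p ↥H : Set ↥H) ≤ Cfsg.pPrimeCore p ↥H)

include hV hHV hf hS1

/-- S0610. -/
theorem s0610 {A : Subgroup G} (hAH : A ≤ H) (hA : Cfsg.IsBestOffenderOn p V A) :
    Nat.card A * Nat.card ↥(V ⊓ Subgroup.centralizer (A : Set G)) = Nat.card V := by
  obtain ⟨M, _, _, _, ρ, ι, D⟩ := exists_coord hV hHV hf
  have := jj_eq_card D.faith hS1 (D.best_of_isBest hf hAH hA)
  rwa [D.jj_dict hAH, D.card_M] at this

/-- S0611. -/
theorem s0611 {A : Subgroup G} (hAH : A ≤ H) (hA : Cfsg.IsBestOffenderOn p V A) (hAV : ⁅V, A⁆ ≠ ⊥)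
    (hmin : ∀ B : Subgroup G, B ≤ A → Cfsg.IsBestOffenderOn p V B → ⁅V, B⁆ ≠ ⊥ → B = A) :
    Nat.card A = p ∧ Nat.card ↥(⁅V, A⁆) = p ∧
      ((V ⊓ Subgroup.centralizer (A : Set G))).relIndex V = p := by
  obtain ⟨M, _, _, _, ρ, ι, D⟩ := exists_coord hV hHV hf
  have hm := minBest_of D hf hAH hA hAV hmin
  have hc1 : Nat.card A = p := by
    rw [← D.card_subgroupOf hAH]
    exact MinBest.card_eq D.faith hS1 hm
  refine ⟨hc1, ?_, ?_⟩
  · obtain ⟨a, hz, e, f, hT⟩ := exists_TV D.faith hS1 hm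
    rw [← D.comm_dict hAH, IsCoord.card_toG, hz, comm_zpowers hT]
    exact card_span_singleton hT.e0
  · have h1 := s0610 hV hHV hf hS1 hAH hA
    rw [hc1] at h1
    have h2 := Cfsg.Agent.Lib.Coprime.Action.card_eq_card_mul_relIndex
      (inf_le_left : V ⊓ Subgroup.centralizer (A : Set G) ≤ V)
    have h3 : 0 < Nat.card ↥(V ⊓ Subgroup.centralizer (A : Set G)) := Nat.card_pos
    have h4 : Nat.card ↥(V ⊓ Subgroup.centralizer (A : Set G)) *
        (V ⊓ Subgroup.centralizer (A : Set G)).relIndex V =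
        Nat.card ↥(V ⊓ Subgroup.centralizer (A : Set G)) * p := by
      rw [← h2, ← h1, mul_comm]
    exact Nat.eq_of_mul_eq_mul_left h3 h4

/-- S0612. -/
theorem s0612 {A : Subgroup G} (hAH : A ≤ H) (hA : Cfsg.IsBestOffenderOn p V A) :
    ∃ (k : ℕ) (B : Fin k → Subgroup G), (∀ i, B i ≤ A ∧ Cfsg.IsBestOffenderOn p V (B i) ∧
      ⁅V, B i⁆ ≠ ⊥ ∧ ∀ C : Subgroup G, C ≤ B i → Cfsg.IsBestOffenderOn p V C → ⁅V, C⁆ ≠ ⊥ → C = B i) ∧
      iSupIndep B ∧ ⨆ i, B i = A := by
  obtain ⟨M, _, _, _, ρ, ι, D⟩ := exists_coord hV hHV hf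
  obtain ⟨k, B, hB, hind, hsup⟩ := exists_decomp D.faith hS1 (D.best_of_isBest hf hAH hA)
  refine ⟨k, fun i => (B i).map H.subtype, fun i => ?_, iSupIndep_map hind (Subgroup.subtype_injective _), ?_⟩
  · obtain ⟨h1, h2, h3⟩ := isMin_of D hf (hB i).2
    refine ⟨?_, h1, h2, h3⟩
    rw [← Subgroup.map_subgroupOf_eq_of_le hAH]
    exact Subgroup.map_mono (hB i).1
  · rw [← Subgroup.map_iSup, hsup, Subgroup.map_subgroupOf_eq_of_le hAH]

end main

end Cfsg.Agent.Lib.QuadAct.FFMain
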