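import Cfsg.Agent.Lib.QuadAct.FFQuot

/-!
# `[Ω₁(Z(J(C))), J(G)] ≤ V`
-/

set_option autoImplicit false
set_option linter.unusedSectionVars false
set_option linter.unusedSimpArgs false
set_option linter.style.haveILetI false

open scoped commutatorElement
open Module

namespace Cfsg.Agent.Lib.QuadAct.FFOmega

open Cfsg.Agent.Lib.QuadAct.FFBasic Cfsg.Agent.Lib.QuadAct.ThmA
open Cfsg.Agent.Lib.QuadAct.FFQuot
open Cfsg.Agent.Lib.QuadAct.Replacement Cfsg.Agent.Lib.QuadAct.Basic
open Cfsg.Agent.Lib.QuadAct.Stable Cfsg.Agent.Lib.QuadAct.OmegaZ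
open Cfsg.Agent.Lib.Core.Basic Cfsg.Agent.Lib.Core.PSolvable
open Cfsg.Agent.Lib.QuadAct.ZJ

universe u

variable {G : Type u} [Group G] [Finite G] {p : ℕ} [Fact p.Prime]

/-- An elementary abelian subgroup centralizing a maximal one is contained in it. -/
theorem le_of_max {A Y : Subgroup G} (hA : A ∈ Cfsg.maxElementaryAbelianSubgroups p G)
    (hY : Cfsg.IsElementaryAbelian p Y) (hc : A ≤ Subgroup.centralizer (Y : Set G)) : Y ≤ A := by
  have h1 := hA.2 _ (isElementaryAbelian_sup hA.1 hY hc)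
  have h2 : A = A ⊔ Y := Subgroup.eq_of_le_of_card_ge le_sup_left h1
  rw [h2]
  exact le_sup_right

/-- Membership in the Thompson subgroup of an arbitrary subgroup. -/
theorem le_thompsonOf {C A : Subgroup G} (hA : A ∈ Cfsg.maxElementaryAbelianSubgroups p G)
    (hAC : A ≤ C) : A ≤ Cfsg.thompsonSubgroupOf p C := by
  have h0 : A.subgroupOf C ∈ Cfsg.maxElementaryAbelianSubgroups p C := by
    refine ⟨isElementaryAbelian_comap _ (Subgroup.subtype_injective _) hA.1, fun B hB => ?_⟩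
    have e2 : Nat.card (A.subgroupOf C) = Nat.card A :=
      Nat.card_congr (Subgroup.subgroupOfEquivOfLe hAC).toEquiv
    have e3 : Nat.card ↥(B.map C.subtype) = Nat.card B :=
      Nat.card_congr (B.equivMapOfInjective _ (Subgroup.subtype_injective _)).toEquiv.symm
    rw [e2, ← e3]
    exact hA.2 _ (isElementaryAbelian_map hB _)
  have h1 : A.subgroupOf C ≤ Cfsg.thompsonSubgroup p C := le_sSup h0
  have h2 := Subgroup.map_mono (f := C.subtype) h1
  rwa [Subgroup.subgroupOf_map_subtype, inf_of_le_left hAC] at h2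

/-- Subgroups of the centre of `C` of exponent `p` lie in `J(C)`. -/
theorem le_thompsonOf_of_central {C Y : Subgroup G} (hY : Cfsg.IsElementaryAbelian p Y)
    (hYC : Y ≤ C) (hc : C ≤ Subgroup.centralizer (Y : Set G)) :
    Y ≤ Cfsg.thompsonSubgroupOf p C := by
  obtain ⟨B₀, hB₀⟩ := exists_max (p := p) (S := C)
  have hYe : Cfsg.IsElementaryAbelian p (Y.subgroupOf C) :=
    isElementaryAbelian_comap _ C.subtype_injective hY
  have hle : Y.subgroupOf C ≤ B₀ := by
    apply le_of_max hB₀ hYe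
    intro b _
    rw [Subgroup.mem_centralizer_iff]
    rintro ⟨y, hy⟩ hy'
    apply Subtype.ext
    have h1 := Subgroup.mem_centralizer_iff.mp (hc b.2) y hy'
    exact h1
  have h1 : B₀ ≤ Cfsg.thompsonSubgroup p C := le_sSup hB₀
  have h2 : Y.subgroupOf C ≤ Cfsg.thompsonSubgroup p C := hle.trans h1
  have h3 := Subgroup.map_mono (f := C.subtype) h2
  rwa [Subgroup.subgroupOf_map_subtype, inf_of_le_left hYC] at h3

theorem commutator_sSup_le {W V : Subgroup G} (hV : V.Normal) {𝒜 : Set (Subgroup G)}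
    (h : ∀ A ∈ 𝒜, ∀ w ∈ W, ∀ a ∈ A, ⁅w, a⁆ ∈ V) : ⁅W, sSup 𝒜⁆ ≤ V := by
  let Q : Subgroup G :=
    { carrier := {x | ∀ w ∈ W, ⁅w, x⁆ ∈ V}
      one_mem' := fun w _ => by simp [commutatorElement_def, V.one_mem]
      mul_mem' := by
        intro x y hx hy w hw
        have e : ⁅w, x * y⁆ = ⁅w, x⁆ * (x * ⁅w, y⁆ * x⁻¹) := by
          simp only [commutatorElement_def]; group
        rw [e]
        exact V.mul_mem (hx w hw) (hV.conj_mem _ (hy w hw) _)
      inv_mem' := by
        intro x hx w hw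
        have e : ⁅w, x⁻¹⁆ = x⁻¹ * (⁅w, x⁆)⁻¹ * x⁻¹⁻¹ := by
          simp only [commutatorElement_def]; group
        rw [e]
        exact hV.conj_mem _ (V.inv_mem (hx w hw)) _ }
  have hQ : sSup 𝒜 ≤ Q := sSup_le fun A hA a ha w hw => h A hA w hw a ha
  rw [Subgroup.commutator_le]
  intro w hw g hg
  exact hQ hg w hw

/-- S0619. -/
theorem s0619 (hsep : Cfsg.IsPSolvable p G) (V : Subgroup G) [V.Normal]
    (hV : Cfsg.IsElementaryAbelian p V)
    (hO : Cfsg.pCore p (G ⧸ Subgroup.centralizer (V : Set G)) = ⊥) :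
    ⁅Cfsg.omegaOne p (Cfsg.centerThompsonOf p (Subgroup.centralizer (V : Set G))),
      Cfsg.thompsonSubgroup p G⁆ ≤ V := by
  set C := Subgroup.centralizer (V : Set G) with hC
  have hCn : C.Normal := inferInstance
  set JC := Cfsg.thompsonSubgroupOf p C with hJC
  have hJCn : JC.Normal := thompsonOf_normal p hCn
  set Z := Cfsg.centerThompsonOf p C with hZ
  have hZdef : Z = JC ⊓ Subgroup.centralizer (JC : Set G) := rfl
  have hZn : Z.Normal := by
    rw [hZdef]
    exact center_normal hJCn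
  set W := Cfsg.omegaOne p Z with hW
  have hWn : W.Normal := omegaOne_normal hZn
  have hWe : Cfsg.IsElementaryAbelian p W := by
    refine isElementaryAbelian_closure ?_ ?_
    · rintro x ⟨⟨hx1, -⟩, -⟩ y ⟨⟨-, hy2⟩, -⟩
      exact Subgroup.mem_centralizer_iff.mp hy2 x hx1
    · rintro x ⟨-, hx⟩
      exact hx
  have hVC : V ≤ C := by
    intro v hv
    refine Subgroup.mem_centralizer_iff.mpr fun w hw => ?_
    exact comm_of_isMulCommutative hV.1 hw hv
  have hCcent : C ≤ Subgroup.centralizer (V : Set G) := le_rfl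
  have hVJ : V ≤ JC := le_thompsonOf_of_central hV hVC hCcent
  have hJCle : JC ≤ C := Subgroup.map_subtype_le _
  have hVW : V ≤ W := by
    intro v hv
    refine Subgroup.subset_closure ⟨⟨hVJ hv, ?_⟩, hV.2 v hv⟩
    refine Subgroup.mem_centralizer_iff.mpr fun j hj => ?_
    exact (Subgroup.mem_centralizer_iff.mp (hJCle hj) v hv).symm
  have hWJ : W ≤ Subgroup.centralizer (JC : Set G) := by
    refine (Subgroup.closure_le _).mpr ?_
    rintro x ⟨⟨-, hx⟩, -⟩
    exact hx
  have hCW : Subgroup.centralizer (W : Set G) ≤ C := Subgroup.centralizer_le hVW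
  refine commutator_sSup_le inferInstance ?_
  intro A hA w hw a ha
  -- the counting
  have hAe := hA.1
  have hcard := card_map_mul_fix hsep hV hO hA
  set cV := V ⊓ Subgroup.centralizer (A : Set G) with hcV
  have h1 : cV ≤ A := by
    refine le_of_max hA (IsElementaryAbelian_of_le hV inf_le_left) ?_
    intro a ha
    refine Subgroup.mem_centralizer_iff.mpr ?_
    rintro y ⟨-, hy⟩
    exact (Subgroup.mem_centralizer_iff.mp hy a ha).symm
  have h2 : (A ⊓ C) ⊓ V = cV := by
    apply le_antisymm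
    · rintro x ⟨⟨hxA, -⟩, hxV⟩
      refine ⟨hxV, Subgroup.mem_centralizer_iff.mpr fun b hb => ?_⟩
      exact comm_of_isMulCommutative hAe.1 hb hxA
    · intro x hx
      exact ⟨⟨h1 hx, hVC hx.1⟩, hx.1⟩
  have hker : (piV V).ker = C := piV_ker
  have h3 := card_eq_map_mul_inf (piV V) A
  rw [hker] at h3
  have h4 := card_sup_mul_card_inf_of_le_normalizer (A ⊓ C) V (by
    rw [Subgroup.normalizer_eq_top_iff.mpr (inferInstance : V.Normal)]; exact le_top)
  rw [h2] at h4
  have hcVpos : 0 < Nat.card cV := Nat.card_pos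
  have h5 : Nat.card ↥((A ⊓ C) ⊔ V) = Nat.card A := by
    apply Nat.eq_of_mul_eq_mul_right hcVpos
    rw [h4, h3, ← hcard]
    ring
  have hAsE : Cfsg.IsElementaryAbelian p ((A ⊓ C) ⊔ V) :=
    isElementaryAbelian_sup (IsElementaryAbelian_of_le hAe inf_le_left) hV inf_le_right
  have hAsM : (A ⊓ C) ⊔ V ∈ Cfsg.maxElementaryAbelianSubgroups p G :=
    ⟨hAsE, fun B hB => by rw [h5]; exact hA.2 B hB⟩
  have hAsC : (A ⊓ C) ⊔ V ≤ C := sup_le inf_le_right hVC
  have h7 : A ⊓ C ≤ JC := le_sup_left.trans (le_thompsonOf hAsM hAsC)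
  -- the action on `W`
  have hB : A ⊓ Subgroup.centralizer (W : Set G) = A ⊓ C := by
    apply le_antisymm (inf_le_inf_left _ hCW)
    rintro x ⟨hxA, hxC⟩
    refine ⟨hxA, Subgroup.mem_centralizer_iff.mpr fun y hy => ?_⟩
    exact (Subgroup.mem_centralizer_iff.mp (hWJ hy) x (h7 ⟨hxA, hxC⟩)).symm
  have h8 := (bestOffender_of_max hWe hA).1 (A ⊓ C) inf_le_left
  have h9 : W ⊓ Subgroup.centralizer ((A ⊓ C : Subgroup G) : Set G) = W := by
    rw [inf_eq_left]
    intro y hy
    refine Subgroup.mem_centralizer_iff.mpr fun x hx => ?_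
    exact Subgroup.mem_centralizer_iff.mp (hWJ hy) x (h7 hx)
  rw [h9] at h8
  set cW := W ⊓ Subgroup.centralizer (A : Set G) with hcW
  have h10 : Nat.card W ≤ Nat.card (A.map (piV V)) * Nat.card cW := by
    rw [h3] at h8
    have h11 : 0 < Nat.card ↥(A ⊓ C) := Nat.card_pos
    refine Nat.le_of_mul_le_mul_left ?_ h11
    calc _ ≤ _ := h8
      _ = _ := by ring
  have h12 := card_sup_mul_card_inf_of_le_normalizer V cW
    (abelian_le_normalizer hWe.1 hVW inf_le_left)
  have h13 : V ⊓ cW = cV := by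
    apply le_antisymm
    · rintro x ⟨hx1, -, hx2⟩
      exact ⟨hx1, hx2⟩
    · rintro x ⟨hx1, hx2⟩
      exact ⟨hx1, hVW hx1, hx2⟩
  rw [h13] at h12
  have h14 : V ⊔ cW = W := by
    have hle : V ⊔ cW ≤ W := sup_le hVW (inf_le_left (a := W))
    have hge : Nat.card W ≤ Nat.card ↥(V ⊔ cW) := by
      refine Nat.le_of_mul_le_mul_right ?_ hcVpos
      rw [h12, ← hcard]
      calc Nat.card W * Nat.card cV ≤ (Nat.card (A.map (piV V)) * Nat.card cW) * Nat.card cV :=
            Nat.mul_le_mul_right _ h10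
        _ = _ := by ring
    exact Subgroup.eq_of_le_of_card_ge hle hge
  rw [← h14, Subgroup.mem_sup_of_normal_left] at hw
  obtain ⟨v, hv, c, hc, rfl⟩ := hw
  have h15 : c * a = a * c := (Subgroup.mem_centralizer_iff.mp hc.2 a ha).symm
  have h16 : ⁅v * c, a⁆ = v * (a * v⁻¹ * a⁻¹) := by
    rw [commutatorElement_def]
    calc v * c * a * (v * c)⁻¹ * a⁻¹ = v * (c * a) * c⁻¹ * v⁻¹ * a⁻¹ := by group
      _ = v * (a * c) * c⁻¹ * v⁻¹ * a⁻¹ := by rw [h15]
      _ = _ := by group
  rw [h16]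
  exact V.mul_mem hv ((inferInstance : V.Normal).conj_mem _ (V.inv_mem hv) a)

end Cfsg.Agent.Lib.QuadAct.FFOmega
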