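import Cfsg.Agent.Lib.QuadAct.FFTriple
import Cfsg.Agent.Lib.QuadAct.FFGen

/-!
# The plane attached to a transvection which is moved by a `p'`-element
-/

set_option autoImplicit false
set_option linter.unusedSectionVars false
set_option linter.unusedSimpArgs false
set_option linter.style.haveILetI false

open scoped commutatorElement

namespace Cfsg.Agent.Lib.QuadAct.FFPlane

open Cfsg.Agent.Lib.QuadAct.FFBasic Cfsg.Agent.Lib.QuadAct.ThmA
open Cfsg.Agent.Lib.QuadAct.FFTrans Cfsg.Agent.Lib.QuadAct.FFTriple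
open Cfsg.Agent.Lib.QuadAct.FFGen
open Cfsg.Agent.Lib.Core.Basic

universe u v

variable {p : ℕ} [Fact p.Prime] {Γ : Type u} [Group Γ] [Finite Γ] {M : Type v} [AddCommGroup M]
  [Module (ZMod p) M] [Finite M] {ρ : Γ →* Module.End (ZMod p) M}

/-- The subgroup generated by the conjugates of `a` under `O`. -/
def cls (O : Subgroup Γ) (a : Γ) : Subgroup Γ := Subgroup.closure {g | ∃ z ∈ O, g = z * a * z⁻¹}

theorem conj_mem_cls {O : Subgroup Γ} (a : Γ) {z : Γ} (hz : z ∈ O) : z * a * z⁻¹ ∈ cls O a :=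
  Subgroup.subset_closure ⟨z, hz, rfl⟩

theorem self_mem_cls (O : Subgroup Γ) (a : Γ) : a ∈ cls O a := by
  have := conj_mem_cls (O := O) a O.one_mem
  simpa using this

/-- The context: a transvection `a` moved by `x ∈ O`, where `O` is a normal `p'`-subgroup. -/
structure Ctx (ρ : Γ →* Module.End (ZMod p) M) (O : Subgroup Γ) (a : Γ) (e : M)
    (f : M →ₗ[ZMod p] ZMod p) (x : Γ) : Prop where
  hρ : Function.Injective ρ
  hOn : O.Normal
  hOc : (Nat.card O).Coprime p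
  tv : TV ρ a e f
  hx : x ∈ O
  hne : x * a * x⁻¹ ≠ a

/-- The plane. -/
def pl (e e' : M) : Submodule (ZMod p) M := Submodule.span (ZMod p) {e, e'}

theorem left_mem_pl (e e' : M) : e ∈ pl (p := p) e e' := Submodule.subset_span (by simp)
theorem right_mem_pl (e e' : M) : e' ∈ pl (p := p) e e' := Submodule.subset_span (by simp)

theorem TV.line_unique {a : Γ} {e e₂ : M} {f f₂ : M →ₗ[ZMod p] ZMod p} (h : TV ρ a e f)
    (h₂ : TV ρ a e₂ f₂) : ∃ c : ZMod p, e₂ = c • e := by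
  obtain ⟨u, hu⟩ := h₂.f1
  refine ⟨f u, ?_⟩
  have h1 := h.apply u
  rw [h₂.apply, hu, one_smul] at h1
  exact add_left_cancel h1

namespace Ctx

variable {O : Subgroup Γ} {a x : Γ} {e : M} {f : M →ₗ[ZMod p] ZMod p} (C : Ctx ρ O a e f x)

include C

theorem tv' : TV ρ (x * a * x⁻¹) (ρ x e) (f.comp (ρ x⁻¹)) := C.tv.conj x

theorem hk : x * a * x⁻¹ * a⁻¹ ∈ O := by
  have : x * a * x⁻¹ * a⁻¹ = x * (a * x⁻¹ * a⁻¹) := by group
  rw [this]
  exact O.mul_mem C.hx (C.hOn.conj_mem _ (O.inv_mem C.hx) a)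

theorem hp : p = 2 ∨ p = 3 :=
  p_two_or_three C.hρ C.hOn C.hOc C.tv C.tv' C.hk C.hne

theorem nondeg : f (ρ x e) ≠ 0 ∧ (f.comp (ρ x⁻¹)) e ≠ 0 :=
  pair_nondeg C.hρ C.tv C.tv' (order_coprime C.hOc C.hk) C.hne

theorem form : f (ρ x e) * (f.comp (ρ x⁻¹)) e = -1 :=
  pair_form C.hp C.hρ C.tv C.tv' (order_coprime C.hOc C.hk) C.hne

/-- Lines of conjugates lie in the plane. -/
theorem line_mem {z : Γ} (hz : z ∈ O) : ρ z e ∈ pl (p := p) e (ρ x e) := by
  have hd : TV ρ (z * a * z⁻¹) (ρ z e) (f.comp (ρ z⁻¹)) := C.tv.conj z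
  have hzk : z * a * z⁻¹ * a⁻¹ ∈ O := by
    have : z * a * z⁻¹ * a⁻¹ = z * (a * z⁻¹ * a⁻¹) := by group
    rw [this]
    exact O.mul_mem hz (C.hOn.conj_mem _ (O.inv_mem hz) a)
  by_cases h1 : z * a * z⁻¹ = a
  · rw [h1] at hd
    obtain ⟨c, hc⟩ := TV.line_unique C.tv hd
    rw [hc]
    exact Submodule.smul_mem _ _ (left_mem_pl _ _)
  by_cases h2 : z * a * z⁻¹ = x * a * x⁻¹
  · rw [h2] at hd
    obtain ⟨c, hc⟩ := TV.line_unique C.tv' hd
    rw [hc]
    exact Submodule.smul_mem _ _ (right_mem_pl _ _)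
  have h3 := triple C.hp C.hρ C.hOn C.hOc C.tv C.tv' hd C.hk hzk C.hne h1 h2
  have h4 := C.nondeg.1
  have h5 : ρ z e = (f (ρ x e))⁻¹ • (f (ρ x e) • ρ z e) := by
    rw [smul_smul, inv_mul_cancel₀ h4, one_smul]
  rw [h5]
  refine Submodule.smul_mem _ _ ?_
  have h6 : f (ρ x e) • ρ z e = - ((f.comp (ρ x⁻¹)) (ρ z e) • e + (f.comp (ρ z⁻¹)) e • ρ x e) := by
    rw [eq_neg_iff_add_eq_zero, add_comm]
    exact h3
  rw [h6]
  refine Submodule.neg_mem _ (Submodule.add_mem _ (Submodule.smul_mem _ _ (left_mem_pl _ _))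
    (Submodule.smul_mem _ _ (right_mem_pl _ _)))

/-- Commutators of the class lie in the plane. -/
theorem comm_mem {g : Γ} (hg : g ∈ cls O a) (m : M) : ρ g m - m ∈ pl (p := p) e (ρ x e) := by
  set P := pl (p := p) e (ρ x e) with hP
  induction hg using Subgroup.closure_induction generalizing m with
  | mem d hd =>
    obtain ⟨z, hz, rfl⟩ := hd
    rw [(C.tv.conj z).apply, add_sub_cancel_left]
    exact Submodule.smul_mem _ _ (C.line_mem hz)
  | one => simp
  | mul g₁ g₂ _ _ h₁ h₂ =>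
    have : ρ (g₁ * g₂) m - m = (ρ g₁ (ρ g₂ m) - ρ g₂ m) + (ρ g₂ m - m) := by
      rw [map_mul, Module.End.mul_apply]
      abel
    rw [this]
    exact Submodule.add_mem _ (h₁ _) (h₂ _)
  | inv g _ h =>
    have h1 := h (ρ g⁻¹ m)
    rw [rho_apply_inv_cancel] at h1
    have : ρ g⁻¹ m - m = -(m - ρ g⁻¹ m) := by abel
    rw [this]
    exact Submodule.neg_mem _ h1

/-- The plane is invariant under the class. -/
theorem pl_inv {g : Γ} (hg : g ∈ cls O a) {π : M} (hπ : π ∈ pl (p := p) e (ρ x e)) :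
    ρ g π ∈ pl (p := p) e (ρ x e) := by
  have h1 := C.comm_mem hg π
  have h2 : ρ g π = (ρ g π - π) + π := by abel
  rw [h2]
  exact Submodule.add_mem _ h1 hπ

theorem b_mem : x * a * x⁻¹ ∈ cls O a := conj_mem_cls a C.hx

theorem a_mem : a ∈ cls O a := self_mem_cls O a

theorem k_mem_inf : x * a * x⁻¹ * a⁻¹ ∈ O ⊓ cls O a :=
  ⟨C.hk, (cls O a).mul_mem C.b_mem ((cls O a).inv_mem C.a_mem)⟩

theorem k_inv_mem_inf : a * (x * a * x⁻¹)⁻¹ ∈ O ⊓ cls O a := by
  have := (O ⊓ cls O a).inv_mem C.k_mem_inf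
  simpa using this

/-- The norm of `O ∩ E` kills the plane. -/
theorem nrm_pl {π : M} (hπ : π ∈ pl (p := p) e (ρ x e)) : nrm ρ (O ⊓ cls O a) π = 0 := by
  have n1 : nrm ρ (O ⊓ cls O a) e = 0 :=
    nrm_kills C.tv C.tv' C.nondeg.1 C.k_mem_inf (mem_normalizer_inf C.hOn C.a_mem)
  have n2 : nrm ρ (O ⊓ cls O a) (ρ x e) = 0 :=
    nrm_kills C.tv' C.tv C.nondeg.2 C.k_inv_mem_inf (mem_normalizer_inf C.hOn C.b_mem)
  obtain ⟨s, t, rfl⟩ := Submodule.mem_span_pair.mp hπ
  rw [map_add, map_smul, map_smul, n1, n2]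
  simp

theorem card_inf_coprime : (Nat.card (O ⊓ cls O a : Subgroup Γ)).Coprime p :=
  Nat.Coprime.coprime_dvd_left (Subgroup.card_dvd_of_le inf_le_left) C.hOc

/-- Fixed points of `O ∩ E` meet the plane trivially. -/
theorem eq_zero_of_mem_fix {π : M} (hπ : π ∈ pl (p := p) e (ρ x e))
    (hf : π ∈ fix ρ (O ⊓ cls O a)) : π = 0 := by
  have h1 := C.nrm_pl hπ
  rw [nrm_fixed hf] at h1
  exact eq_zero_of_nsmul_eq_zero C.card_inf_coprime h1

/-- The projection onto the fixed points. -/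
theorem exists_split (m : M) : ∃ π ∈ pl (p := p) e (ρ x e), ∃ c ∈ fix ρ (cls O a), m = π + c := by
  classical
  set K : Subgroup Γ := O ⊓ cls O a with hK
  letI := Fintype.ofFinite K
  have hcop : Nat.Coprime (Nat.card K) p := C.card_inf_coprime
  have hs : ((Nat.card K : ℕ) : ZMod p) ≠ 0 := by
    intro h
    rw [ZMod.natCast_eq_zero_iff] at h
    exact (Fact.out : p.Prime).one_lt.ne' (Nat.Coprime.eq_one_of_dvd hcop.symm h)
  set s : ZMod p := ((Nat.card K : ℕ) : ZMod p)⁻¹ with hsdef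
  have hs1 : s * ((Nat.card K : ℕ) : ZMod p) = 1 := inv_mul_cancel₀ hs
  set c := s • nrm ρ K m with hc
  have hcK : c ∈ fix ρ K := Submodule.smul_mem _ _ (nrm_mem_fix K m)
  have hπ : m - c ∈ pl (p := p) e (ρ x e) := by
    have h1 : m = s • ((Nat.card K : ℕ) • m) := by
      rw [← Nat.cast_smul_eq_nsmul (ZMod p), smul_smul, hs1, one_smul]
    have h2 : m - c = s • ∑ k : K, (m - ρ (k : Γ) m) := by
      rw [Finset.sum_sub_distrib, Finset.sum_const, Finset.card_univ, ← Nat.card_eq_fintype_card,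
        smul_sub, ← h1, hc, nrm_apply]
    rw [h2]
    refine Submodule.smul_mem _ _ (Submodule.sum_mem _ fun k _ => ?_)
    have := C.comm_mem (Subgroup.mem_inf.mp k.2).2 m
    have h3 : m - ρ (k : Γ) m = -(ρ (k : Γ) m - m) := by abel
    rw [h3]
    exact Submodule.neg_mem _ this
  -- fixed by generators
  have hfix : c ∈ fix ρ (cls O a) := by
    intro g hg
    induction hg using Subgroup.closure_induction with
    | mem d hd =>
      have hdE : d ∈ cls O a := Subgroup.subset_closure hd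
      have h1 : ρ d c ∈ fix ρ K := by
        intro k hk
        have h2 := mem_normalizer_inf (g := d⁻¹) C.hOn (L := cls O a) ((cls O a).inv_mem hdE)
        have h3 : d⁻¹ * k * d ∈ K := by
          have := (Subgroup.mem_normalizer_iff.mp h2 k).mp hk
          rwa [inv_inv] at this
        have e1 : k * d = d * (d⁻¹ * k * d) := by group
        rw [← Module.End.mul_apply, ← map_mul, e1, map_mul, Module.End.mul_apply, hcK _ h3]
      have h2 : ρ d c - c ∈ pl (p := p) e (ρ x e) := C.comm_mem hdE c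
      have h3 := C.eq_zero_of_mem_fix h2 (Submodule.sub_mem _ h1 hcK)
      exact sub_eq_zero.mp h3
    | one => simp
    | mul g₁ g₂ _ _ h₁ h₂ => rw [map_mul, Module.End.mul_apply, h₂, h₁]
    | inv g _ h =>
      calc ρ g⁻¹ c = ρ g⁻¹ (ρ g c) := by rw [h]
        _ = c := rho_inv_apply_cancel _ _
  exact ⟨m - c, hπ, c, hfix, by abel⟩

/-- The two fixed point spaces agree. -/
theorem fix_inf_eq : fix ρ (O ⊓ cls O a) = fix ρ (cls O a) := by
  apply le_antisymm
  · intro m hm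
    obtain ⟨π, hπ, c, hc, rfl⟩ := C.exists_split m
    have h1 : c ∈ fix ρ (O ⊓ cls O a) := fix_anti inf_le_right hc
    have h2 : π ∈ fix ρ (O ⊓ cls O a) := by
      have := Submodule.sub_mem _ hm h1
      rwa [add_sub_cancel_right] at this
    rw [C.eq_zero_of_mem_fix hπ h2, zero_add]
    exact hc
  · exact fix_anti inf_le_right

theorem inf_fix_eq_bot : pl (p := p) e (ρ x e) ⊓ fix ρ (cls O a) = ⊥ := by
  rw [eq_bot_iff]
  rintro m ⟨h1, h2⟩
  exact C.eq_zero_of_mem_fix h1 (fix_anti inf_le_right h2)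

/-- The class acts faithfully on the plane. -/
theorem eq_of_agree {g h : Γ} (hag : ∀ π ∈ pl (p := p) e (ρ x e), ρ g π = ρ h π)
    (hfix : ∀ c ∈ fix ρ (cls O a), ρ g c = ρ h c) : g = h := by
  apply C.hρ
  ext m
  obtain ⟨π, hπ, c, hc, rfl⟩ := C.exists_split m
  rw [map_add, map_add, hag π hπ, hfix c hc]

/-- `O` preserves the plane. -/
theorem pl_O {z : Γ} (hz : z ∈ O) {π : M} (hπ : π ∈ pl (p := p) e (ρ x e)) :
    ρ z π ∈ pl (p := p) e (ρ x e) := by
  obtain ⟨s, t, rfl⟩ := Submodule.mem_span_pair.mp hπ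
  rw [map_add, map_smul, map_smul]
  refine Submodule.add_mem _ (Submodule.smul_mem _ _ (C.line_mem hz))
    (Submodule.smul_mem _ _ ?_)
  rw [← Module.End.mul_apply, ← map_mul]
  exact C.line_mem (O.mul_mem hz C.hx)

/-- `O` normalizes the class. -/
theorem conj_mem_of_mem {z : Γ} (hz : z ∈ O) {g : Γ} (hg : g ∈ cls O a) : z * g * z⁻¹ ∈ cls O a := by
  induction hg using Subgroup.closure_induction with
  | mem d hd =>
    obtain ⟨w, hw, rfl⟩ := hd
    have : z * (w * a * w⁻¹) * z⁻¹ = (z * w) * a * (z * w)⁻¹ := by group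
    rw [this]
    exact conj_mem_cls a (O.mul_mem hz hw)
  | one => simp
  | mul g₁ g₂ _ _ h₁ h₂ =>
    have : z * (g₁ * g₂) * z⁻¹ = (z * g₁ * z⁻¹) * (z * g₂ * z⁻¹) := by group
    rw [this]
    exact (cls O a).mul_mem h₁ h₂
  | inv g _ h =>
    have : z * g⁻¹ * z⁻¹ = (z * g * z⁻¹)⁻¹ := by group
    rw [this]
    exact (cls O a).inv_mem h

/-- `O` preserves the fixed points. -/
theorem fix_O {z : Γ} (hz : z ∈ O) {c : M} (hc : c ∈ fix ρ (cls O a)) : ρ z c ∈ fix ρ (cls O a) := by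
  intro g hg
  have h1 := C.conj_mem_of_mem (O.inv_mem hz) hg
  rw [inv_inv] at h1
  have e1 : g * z = z * (z⁻¹ * g * z) := by group
  rw [← Module.End.mul_apply, ← map_mul, e1, map_mul, Module.End.mul_apply, hc _ h1]

end Ctx

end Cfsg.Agent.Lib.QuadAct.FFPlane
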