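import Cfsg.Agent.Lib.QuadAct.FFCore
import Cfsg.Agent.Lib.Core.ThompsonMap
import Cfsg.Agent.Lib.QuadAct.ZJ

/-!
# Failure of factorization: passing to the faithful quotient `G / C_G(V)`
-/

set_option autoImplicit false
set_option linter.unusedSectionVars false
set_option linter.unusedSimpArgs false
set_option linter.style.haveILetI false

open scoped commutatorElement
open Module

namespace Cfsg.Agent.Lib.QuadAct.FFQuot

open Cfsg.Agent.Lib.QuadAct.FFBasic Cfsg.Agent.Lib.QuadAct.ThmA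
open Cfsg.Agent.Lib.QuadAct.FFTrans Cfsg.Agent.Lib.QuadAct.FFTriple
open Cfsg.Agent.Lib.QuadAct.FFGen Cfsg.Agent.Lib.QuadAct.FFPlane
open Cfsg.Agent.Lib.QuadAct.FFSL2 Cfsg.Agent.Lib.QuadAct.FFDicho
open Cfsg.Agent.Lib.QuadAct.FFDict Cfsg.Agent.Lib.QuadAct.FFMin
open Cfsg.Agent.Lib.QuadAct.FFMain Cfsg.Agent.Lib.QuadAct.FFStruct
open Cfsg.Agent.Lib.QuadAct.Replacement Cfsg.Agent.Lib.QuadAct.Basic
open Cfsg.Agent.Lib.QuadAct.Stable Cfsg.Agent.Lib.QuadAct.OmegaZ
open Cfsg.Agent.Lib.Core.Basic Cfsg.Agent.Lib.Core.PSolvable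
open Cfsg.Agent.Lib.Coprime.Action
open Cfsg.Agent.Lib.QuadAct.ZJ

universe u v

section rep

variable {p : ℕ} [Fact p.Prime] {Γ : Type u} [Group Γ] [Finite Γ] {M : Type v} [AddCommGroup M]
  [Module (ZMod p) M] [Finite M] {ρ : Γ →* Module.End (ZMod p) M}

/-- The transvections generate. -/
theorem closure_tvs' (hρ : Function.Injective ρ)
    (hS1 : Subgroup.centralizer (Cfsg.pPrimeCore p Γ : Set Γ) ≤ Cfsg.pPrimeCore p Γ)
    (hgen : ∀ g : Γ, g ∈ ⨆ A : {A : Subgroup Γ // Best ρ A}, (A : Subgroup Γ)) :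
    Subgroup.closure {c : Γ | ∃ e f, TV ρ c e f} = ⊤ := by
  rw [eq_top_iff, ← closure_tv_eq_top hρ hS1 hgen]
  refine iSup_le fun A => ?_
  obtain ⟨a, hz, e, f, hT⟩ := exists_TV hρ hS1 A.2
  rw [hz, Subgroup.zpowers_le]
  exact Subgroup.subset_closure ⟨e, f, hT⟩

/-- A nontrivial group generated by best offenders has a normal `SL₂(p)`. -/
theorem exists_factor (hρ : Function.Injective ρ)
    (hS1 : Subgroup.centralizer (Cfsg.pPrimeCore p Γ : Set Γ) ≤ Cfsg.pPrimeCore p Γ)
    (hgen : ∀ g : Γ, g ∈ ⨆ A : {A : Subgroup Γ // Best ρ A}, (A : Subgroup Γ))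
    (hne : Nontrivial Γ) :
    (p = 2 ∨ p = 3) ∧ ∃ E₀ : Subgroup Γ, E₀.Normal ∧
      Nonempty (E₀ ≃* Matrix.SpecialLinearGroup (Fin 2) (ZMod p)) := by
  have hcl := closure_tvs' hρ hS1 hgen
  have hT : {c : Γ | ∃ e f, TV ρ c e f}.Nonempty := by
    by_contra h
    rw [Set.not_nonempty_iff_eq_empty] at h
    rw [h, Subgroup.closure_empty] at hcl
    obtain ⟨x, y, hxy⟩ := hne
    have hx : x ∈ (⊥ : Subgroup Γ) := by rw [hcl]; trivial
    have hy : y ∈ (⊥ : Subgroup Γ) := by rw [hcl]; trivial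
    exact hxy (by rw [Subgroup.mem_bot.mp hx, Subgroup.mem_bot.mp hy])
  obtain ⟨c, e, f, hc⟩ := hT
  obtain ⟨x, C⟩ := exists_ctx hρ (inferInstance : (Cfsg.pPrimeCore p Γ).Normal)
    pPrimeCore_coprime hS1 hc
  exact ⟨C.hp, _, cls_normal hcl (fun c hc => hc) hS1 C, ⟨Ctx.phiEquiv C⟩⟩

end rep

section generalities

variable {G : Type u} [Group G] {H : Type*} [Group H]

/-- The order of a subgroup and of its image. -/
theorem card_eq_map_mul_inf [Finite G] (f : G →* H) (B : Subgroup G) :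
    Nat.card B = Nat.card (B.map f) * Nat.card ↥(B ⊓ f.ker) := by
  let φ : B →* H := f.domRestrict B
  have h1 : φ.range = B.map f := MonoidHom.domRestrict_range B f
  have h2 : φ.ker = f.ker.subgroupOf B := MonoidHom.ker_domRestrict B f
  have h3 : Nat.card ↥φ.ker * φ.ker.index = Nat.card B := Subgroup.card_mul_index φ.ker
  have h4 : φ.ker.index = Nat.card φ.range := Subgroup.index_ker φ
  have h5 : Nat.card ↥φ.ker = Nat.card ↥(B ⊓ f.ker) := by
    have : (f.ker.subgroupOf B).map B.subtype = B ⊓ f.ker := by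
      rw [Subgroup.subgroupOf_map_subtype, inf_comm]
    rw [h2, ← this]
    exact Nat.card_congr (Subgroup.equivMapOfInjective _ _ B.subtype_injective).toEquiv
  rw [← h3, h4, h5, h1, mul_comm]

theorem map_subtype_subgroupOf {L : Subgroup G} {Y : Subgroup L} :
    (Y.map L.subtype).subgroupOf L = Y :=
  Subgroup.comap_map_eq_self_of_injective L.subtype_injective _

theorem thompson_normal [Finite G] (p : ℕ) : (Cfsg.thompsonSubgroup p G).Normal := by
  constructor
  intro n hn g
  have h := Cfsg.Agent.Lib.Core.ThompsonMap.map_thompsonSubgroup_equiv (p := p) (MulAut.conj g)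
  have h1 : (MulAut.conj g).toMonoidHom n ∈ (Cfsg.thompsonSubgroup p G).map (MulAut.conj g).toMonoidHom :=
    Subgroup.mem_map_of_mem _ hn
  rw [h] at h1
  exact h1

/-- The Thompson subgroup of a normal subgroup is normal. -/
theorem thompsonOf_normal [Finite G] (p : ℕ) {N : Subgroup G} (hN : N.Normal) :
    (Cfsg.thompsonSubgroupOf p N).Normal := by
  constructor
  rintro _ ⟨n, hn, rfl⟩ g
  have h := Cfsg.Agent.Lib.Core.ThompsonMap.map_thompsonSubgroup_equiv (p := p) (MulAut.conjNormal g : MulAut N)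
  have h1 : (MulAut.conjNormal g : MulAut N).toMonoidHom n ∈
      (Cfsg.thompsonSubgroup p N).map (MulAut.conjNormal g : MulAut N).toMonoidHom :=
    Subgroup.mem_map_of_mem _ hn
  rw [h] at h1
  exact ⟨_, h1, MulAut.conjNormal_apply g n⟩

theorem center_normal {N : Subgroup G} (hN : N.Normal) :
    (N ⊓ Subgroup.centralizer (N : Set G)).Normal :=
  inferInstance

end generalities

section quot

variable {G : Type u} [Group G] [Finite G] {p : ℕ} [Fact p.Prime] {V : Subgroup G} [V.Normal]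
  {M : Type u} [AddCommGroup M] [Module (ZMod p) M] [Finite M]

/-- Coordinates on `V` for the faithful quotient. -/
structure IsCoordQ (V : Subgroup G) [V.Normal]
    (ρ : G ⧸ Subgroup.centralizer (V : Set G) →* Module.End (ZMod p) M) (ι : M → G) : Prop where
  add : ∀ m n, ι (m + n) = ι m * ι n
  inj : Function.Injective ι
  mem : ∀ m, ι m ∈ V
  surj : ∀ v ∈ V, ∃ m, ι m = v
  conj : ∀ (g : G) (m : M), ι (ρ (QuotientGroup.mk g) m) = g * ι m * g⁻¹
  faith : Function.Injective ρ

theorem exists_coordQ (hV : Cfsg.IsElementaryAbelian p V) :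
    ∃ (M : Type u) (_ : AddCommGroup M) (_ : Module (ZMod p) M) (_ : Finite M)
      (ρ : G ⧸ Subgroup.centralizer (V : Set G) →* Module.End (ZMod p) M) (ι : M → G),
      IsCoordQ V ρ ι := by
  letI : CommGroup V :=
    { (inferInstance : Group V) with
      mul_comm := fun x y => Subtype.ext (comm_of_isMulCommutative hV.1 x.2 y.2) }
  have hexp' : ∀ x : Additive V, p • x = 0 := by
    intro x
    exact Subtype.ext (hV.2 _ (Additive.toMul x).2)
  letI hmod : Module (ZMod p) (Additive V) := AddCommGroup.zmodModule hexp'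
  have hker : ∀ g ∈ Subgroup.centralizer (V : Set G), (MulAut.conjNormal g : MulAut V) = 1 := by
    intro g hg
    ext v
    rw [MulAut.conjNormal_apply]
    have := Subgroup.mem_centralizer_iff.mp hg v v.2
    show g * v * g⁻¹ = v
    rw [← this]
    group
  let f : G ⧸ Subgroup.centralizer (V : Set G) →* MulAut V :=
    QuotientGroup.lift _ (MulAut.conjNormal : G →* MulAut V) hker
  have hfv : ∀ (g : G) (v : V), ((f (QuotientGroup.mk g) v : V) : G) = g * v * g⁻¹ := by
    intro g v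
    exact MulAut.conjNormal_apply g v
  have hfinj : Function.Injective f := by
    rw [injective_iff_map_eq_one]
    intro q hq
    obtain ⟨g, rfl⟩ := QuotientGroup.mk_surjective q
    rw [QuotientGroup.eq_one_iff]
    refine Subgroup.mem_centralizer_iff.mpr fun v hv => ?_
    have h1 := congrArg (fun u : MulAut V => ((u ⟨v, hv⟩ : V) : G)) hq
    have h2 : g * v * g⁻¹ = v := (hfv g ⟨v, hv⟩).symm.trans h1
    calc v * g = (g * v * g⁻¹) * g := by rw [h2]
      _ = g * v := by group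
  obtain ⟨ρ, hρ, hρa⟩ := coord_aux (p := p) f hfinj
  refine ⟨Additive V, inferInstance, hmod, inferInstanceAs (Finite V), ρ,
    fun m => ((Additive.toMul m : V) : G), ?_⟩
  refine ⟨fun m n => rfl, ?_, fun m => (Additive.toMul m).2, ?_, ?_, hρ⟩
  · intro m n h
    exact Additive.toMul.injective (Subtype.ext h)
  · intro v hv
    exact ⟨Additive.ofMul ⟨v, hv⟩, rfl⟩
  · intro g m
    rw [hρa]
    exact hfv g (Additive.toMul m)

variable {ρ : G ⧸ Subgroup.centralizer (V : Set G) →* Module.End (ZMod p) M} {ι : M → G}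

/-- The projection. -/
abbrev piV (V : Subgroup G) [V.Normal] : G →* G ⧸ Subgroup.centralizer (V : Set G) :=
  QuotientGroup.mk' _

theorem piV_ker : (piV V).ker = Subgroup.centralizer (V : Set G) := QuotientGroup.ker_mk' _

theorem piV_surj : Function.Surjective (piV V) := QuotientGroup.mk'_surjective _

namespace IsCoordQ

variable (D : IsCoordQ V ρ ι)

include D

theorem mem_fix_iff {L : Subgroup (G ⧸ Subgroup.centralizer (V : Set G))} {B : Subgroup G}
    (hB : B.map (piV V) ≤ L)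
    (m : M) : m ∈ fix (ρ.comp L.subtype) ((B.map (piV V)).subgroupOf L) ↔
      ι m ∈ V ⊓ Subgroup.centralizer (B : Set G) := by
  constructor
  · intro h
    refine ⟨D.mem m, Subgroup.mem_centralizer_iff.mpr fun g hg => ?_⟩
    have hL : piV V g ∈ L := hB (Subgroup.mem_map_of_mem _ hg)
    have h1 := h ⟨_, hL⟩ (Subgroup.mem_map_of_mem _ hg)
    have h2 := D.conj g m
    have h3 : ρ (QuotientGroup.mk g) m = m := h1
    rw [h3] at h2
    calc g * ι m = (g * ι m * g⁻¹) * g := by group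
      _ = ι m * g := by rw [← h2]
  · rintro ⟨-, hc⟩ ⟨_, hγ⟩ hmem
    obtain ⟨g, hg, rfl⟩ := hmem
    apply D.inj
    show ι (ρ (QuotientGroup.mk g) m) = ι m
    rw [D.conj]
    have := Subgroup.mem_centralizer_iff.mp hc g hg
    rw [this]
    group

theorem card_fix {L : Subgroup (G ⧸ Subgroup.centralizer (V : Set G))} {B : Subgroup G}
    (hB : B.map (piV V) ≤ L) :
    Nat.card (fix (ρ.comp L.subtype) ((B.map (piV V)).subgroupOf L)) =
      Nat.card ↥(V ⊓ Subgroup.centralizer (B : Set G)) := by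
  refine Nat.card_congr (Equiv.ofBijective
    (fun m => ⟨ι m, (D.mem_fix_iff hB m).mp m.2⟩) ⟨?_, ?_⟩)
  · intro m n h
    exact Subtype.ext (D.inj (congrArg Subtype.val h))
  · rintro ⟨v, hv⟩
    obtain ⟨m, rfl⟩ := D.surj v hv.1
    exact ⟨⟨m, (D.mem_fix_iff hB m).mpr hv⟩, rfl⟩

theorem card_M : Nat.card M = Nat.card V := by
  refine Nat.card_congr (Equiv.ofBijective (fun m => ⟨ι m, D.mem m⟩) ⟨?_, ?_⟩)
  · intro m n h
    exact D.inj (congrArg Subtype.val h)
  · rintro ⟨v, hv⟩
    obtain ⟨m, rfl⟩ := D.surj v hv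
    exact ⟨m, rfl⟩

theorem faithL (L : Subgroup (G ⧸ Subgroup.centralizer (V : Set G))) :
    Function.Injective (ρ.comp L.subtype) :=
  D.faith.comp L.subtype_injective

theorem jj_map {L : Subgroup (G ⧸ Subgroup.centralizer (V : Set G))} {B : Subgroup G}
    (hB : B.map (piV V) ≤ L) :
    jj (ρ.comp L.subtype) ((B.map (piV V)).subgroupOf L) =
      Nat.card (B.map (piV V)) * Nat.card ↥(V ⊓ Subgroup.centralizer (B : Set G)) := by
  unfold jj
  rw [D.card_fix hB, Nat.card_congr (Subgroup.subgroupOfEquivOfLe hB).toEquiv]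

/-- Maximal elementary abelian subgroups induce best offenders. -/
theorem best_of_max (hV : Cfsg.IsElementaryAbelian p V)
    {L : Subgroup (G ⧸ Subgroup.centralizer (V : Set G))} {A : Subgroup G}
    (hA : A ∈ Cfsg.maxElementaryAbelianSubgroups p G) (hAL : A.map (piV V) ≤ L) :
    Best (ρ.comp L.subtype) ((A.map (piV V)).subgroupOf L) := by
  refine ⟨fun Y hY => ?_, ?_⟩
  · set B := A ⊓ (Y.map L.subtype).comap (piV V) with hBdef
    have hBmap : B.map (piV V) = Y.map L.subtype := by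
      apply le_antisymm
      · rintro _ ⟨b, ⟨-, hb⟩, rfl⟩
        exact hb
      · rintro _ ⟨y, hy, rfl⟩
        obtain ⟨a, ha, ea⟩ := hY hy
        exact ⟨a, ⟨ha, ⟨y, hy, ea.symm⟩⟩, ea⟩
    have hYeq : (B.map (piV V)).subgroupOf L = Y := by
      rw [hBmap, map_subtype_subgroupOf]
    have hBL : B.map (piV V) ≤ L := by
      rw [hBmap]
      exact Subgroup.map_subtype_le _
    have hBA : B ≤ A := inf_le_left
    have hinf : B ⊓ (piV V).ker = A ⊓ (piV V).ker := by
      apply le_antisymm (inf_le_inf_right _ hBA)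
      rintro a ⟨ha, hk⟩
      refine ⟨⟨ha, ⟨1, Subgroup.one_mem _, ?_⟩⟩, hk⟩
      exact (MonoidHom.mem_ker.mp hk).symm
    have h1 := (bestOffender_of_max hV hA).1 B hBA
    rw [card_eq_map_mul_inf (piV V) B, card_eq_map_mul_inf (piV V) A, hinf] at h1
    rw [← hYeq, D.jj_map hBL, D.jj_map hAL]
    have h2 : 0 < Nat.card ↥(A ⊓ (piV V).ker) := Nat.card_pos
    refine Nat.le_of_mul_le_mul_right ?_ h2
    calc _ = Nat.card ↥(B.map (piV V)) * Nat.card ↥(A ⊓ (piV V).ker) *
          Nat.card ↥(V ⊓ Subgroup.centralizer (B : Set G)) := by ring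
      _ ≤ _ := h1
      _ = _ := by ring
  · exact isElementaryAbelian_comap L.subtype L.subtype_injective (isElementaryAbelian_map hA.1 _)

/-- The Thompson subgroup image is generated by best offenders. -/
theorem hgen_J (hV : Cfsg.IsElementaryAbelian p V)
    {L : Subgroup (G ⧸ Subgroup.centralizer (V : Set G))}
    (hL : L = (Cfsg.thompsonSubgroup p G).map (piV V)) (g : L) :
    g ∈ ⨆ A : {A : Subgroup L // Best (ρ.comp L.subtype) A}, (A : Subgroup L) := by
  have h1 : L ≤ (⨆ A : {A : Subgroup L // Best (ρ.comp L.subtype) A},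
      (A : Subgroup L)).map L.subtype := by
    conv_lhs => rw [hL]
    rw [Subgroup.map_le_iff_le_comap]
    refine sSup_le fun A hA => ?_
    rw [← Subgroup.map_le_iff_le_comap]
    have hAL : A.map (piV V) ≤ L := by
      rw [hL]
      exact Subgroup.map_mono (le_sSup hA)
    have h2 := le_iSup (fun A : {A : Subgroup L // Best (ρ.comp L.subtype) A} => (A : Subgroup L))
      ⟨_, D.best_of_max hV hA hAL⟩
    have h3 := Subgroup.map_mono (f := L.subtype) h2
    rwa [Subgroup.map_subgroupOf_eq_of_le hAL] at h3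
  obtain ⟨g', hg', e⟩ := h1 g.2
  have : g' = g := Subtype.ext e
  rwa [← this]

end IsCoordQ

/-- The self-centralizing condition for normal subgroups of the quotient. -/
theorem hS1_of {Q : Type u} [Group Q] [Finite Q] (hsep : Cfsg.IsPSolvable p Q)
    (hO : Cfsg.pCore p Q = ⊥) {L : Subgroup Q} (hL : L.Normal) :
    Subgroup.centralizer (Cfsg.pPrimeCore p ↥L : Set ↥L) ≤ Cfsg.pPrimeCore p ↥L := by
  apply Cfsg.Agent.Lib.QuadAct.Sections.centralizer_pPrimeCore_le (isPSolvable_subgroup L hsep)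
  have h1 := map_pCore_le_of_isSubnormal (p := p) (K := L) hL.isSubnormal
  rw [hO, le_bot_iff] at h1
  exact (Subgroup.map_eq_bot_iff_of_injective _ L.subtype_injective).mp h1

/-- The main consequence for a maximal elementary abelian subgroup. -/
theorem card_map_mul_fix (hsep : Cfsg.IsPSolvable p G) (hV : Cfsg.IsElementaryAbelian p V)
    (hO : Cfsg.pCore p (G ⧸ Subgroup.centralizer (V : Set G)) = ⊥) {A : Subgroup G}
    (hA : A ∈ Cfsg.maxElementaryAbelianSubgroups p G) :
    Nat.card (A.map (piV V)) * Nat.card ↥(V ⊓ Subgroup.centralizer (A : Set G)) = Nat.card V := by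
  obtain ⟨M, _, _, _, ρ, ι, D⟩ := exists_coordQ (p := p) hV
  set L := (Cfsg.thompsonSubgroup p G).map (piV V) with hL
  have hLn : L.Normal := (thompson_normal p).map _ piV_surj
  have hAL : A.map (piV V) ≤ L := Subgroup.map_mono (le_sSup hA)
  have hsep' : Cfsg.IsPSolvable p (G ⧸ Subgroup.centralizer (V : Set G)) :=
    isPSolvable_of_surjective _ piV_surj hsep
  have h := jj_eq_card (D.faithL L) (hS1_of hsep' hO hLn) (D.best_of_max hV hA hAL)
  rwa [D.jj_map hAL, D.card_M] at h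

/-- The structure statement at the level of the quotient. -/
theorem exists_factor_J (hsep : Cfsg.IsPSolvable p G) (hV : Cfsg.IsElementaryAbelian p V)
    (hO : Cfsg.pCore p (G ⧸ Subgroup.centralizer (V : Set G)) = ⊥)
    (hJ : ¬ Cfsg.thompsonSubgroup p G ≤ Subgroup.centralizer (V : Set G)) :
    (p = 2 ∨ p = 3) ∧ ∃ E₀ : Subgroup (G ⧸ Subgroup.centralizer (V : Set G)),
      E₀ ≤ (Cfsg.thompsonSubgroup p G).map (piV V) ∧
      (Cfsg.thompsonSubgroup p G).map (piV V) ≤ Subgroup.normalizer (E₀ : Set _) ∧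
      Nonempty (E₀ ≃* Matrix.SpecialLinearGroup (Fin 2) (ZMod p)) := by
  obtain ⟨M, _, _, _, ρ, ι, D⟩ := exists_coordQ (p := p) hV
  set L := (Cfsg.thompsonSubgroup p G).map (piV V) with hL
  have hLn : L.Normal := (thompson_normal p).map _ piV_surj
  have hsep' : Cfsg.IsPSolvable p (G ⧸ Subgroup.centralizer (V : Set G)) :=
    isPSolvable_of_surjective _ piV_surj hsep
  have hne : Nontrivial L := by
    rw [Subgroup.nontrivial_iff_ne_bot]
    intro h
    apply hJ
    have h1 : Cfsg.thompsonSubgroup p G ≤ (piV V).ker := (Subgroup.map_eq_bot_iff _).mp h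
    rwa [piV_ker] at h1
  obtain ⟨hp, E₀, hE₀, ⟨e⟩⟩ := exists_factor (D.faithL L) (hS1_of hsep' hO hLn)
    (D.hgen_J hV hL) hne
  refine ⟨hp, E₀.map L.subtype, Subgroup.map_subtype_le _, ?_,
    ⟨(Subgroup.equivMapOfInjective _ _ L.subtype_injective).symm.trans e⟩⟩
  intro l hl
  rw [Subgroup.mem_normalizer_iff]
  intro y
  constructor
  · rintro ⟨w, hw, rfl⟩
    exact ⟨(⟨l, hl⟩ : L) * w * (⟨l, hl⟩ : L)⁻¹, hE₀.conj_mem _ hw _, rfl⟩
  · rintro ⟨w, hw, hwy⟩
    refine ⟨(⟨l, hl⟩ : L)⁻¹ * w * (⟨l, hl⟩ : L)⁻¹⁻¹, hE₀.conj_mem _ hw _, ?_⟩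
    simp only [Subgroup.coe_subtype, Subgroup.coe_mul, Subgroup.coe_inv] at hwy ⊢
    rw [hwy]
    group

end quot

end Cfsg.Agent.Lib.QuadAct.FFQuot
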