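import Cfsg.Agent.Lib.QuadAct.FFPlane

/-!
# The class group is `SL(2, p)`
-/

set_option autoImplicit false
set_option linter.unusedSectionVars false
set_option linter.unusedSimpArgs false
set_option linter.style.haveILetI false

open scoped commutatorElement
open Module

namespace Cfsg.Agent.Lib.QuadAct.FFSL2

open Cfsg.Agent.Lib.QuadAct.FFBasic Cfsg.Agent.Lib.QuadAct.ThmA
open Cfsg.Agent.Lib.QuadAct.FFTrans Cfsg.Agent.Lib.QuadAct.FFTriple
open Cfsg.Agent.Lib.QuadAct.FFGen Cfsg.Agent.Lib.QuadAct.FFPlane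
open Cfsg.Agent.Lib.Core.Basic

universe u v

variable {p : ℕ} [Fact p.Prime] {Γ : Type u} [Group Γ] [Finite Γ] {M : Type v} [AddCommGroup M]
  [Module (ZMod p) M] [Finite M] {ρ : Γ →* Module.End (ZMod p) M}

theorem z2_disc : ∀ α β s r : ZMod 2, α * β = -1 → (s ≠ 0 ∨ r ≠ 0) →
    s * r + s * s * β + r * r * α ≠ 0 := by decide

theorem z3_disc : ∀ α β s r : ZMod 3, α * β = -1 → (s ≠ 0 ∨ r ≠ 0) →
    s * r + s * s * β + r * r * α ≠ 0 := by decide

theorem disc_ne (hp : p = 2 ∨ p = 3) {α β s r : ZMod p} (h : α * β = -1) (hs : s ≠ 0 ∨ r ≠ 0) :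
    s * r + s * s * β + r * r * α ≠ 0 := by
  rcases hp with rfl | rfl
  · exact z2_disc α β s r h hs
  · exact z3_disc α β s r h hs

/-- The action of `b a⁻¹` on the plane. -/
theorem k_apply {a b : Γ} {e e' : M} {f f' : M →ₗ[ZMod p] ZMod p} (ha : TV ρ a e f)
    (hb : TV ρ b e' f') (hab : f e' * f' e = -1) (s r : ZMod p) :
    ρ (b * a⁻¹) (s • e + r • e') = (s - r * f e') • e + (r + s * f' e + r) • e' := by
  have h1 : f (s • e + r • e') = r * f e' := by
    simp [ha.fe]
  have h2 : f' (s • e + r • e') = s * f' e := by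
    simp [hb.fe]
  rw [pair_apply ha hb, h1, h2]
  have c2 : r + (s * f' e - r * f e' * f' e) = r + s * f' e + r := by
    linear_combination (-r) * hab
  calc s • e + r • e' - (r * f e') • e + (s * f' e - r * f e' * f' e) • e' =
      (s - r * f e') • e + (r + (s * f' e - r * f e' * f' e)) • e' := by module
    _ = _ := by rw [c2]

namespace Ctx

variable {O : Subgroup Γ} {a x : Γ} {e : M} {f : M →ₗ[ZMod p] ZMod p} (C : Ctx ρ O a e f x)

include C

/-- No invariant line. -/
theorem pl_le_of_inv {S : Submodule (ZMod p) M} (hS : ∀ s ∈ S, ρ (x * a * x⁻¹ * a⁻¹) s ∈ S) {t : M}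
    (ht : t ∈ S) (htP : t ∈ pl (p := p) e (ρ x e)) (ht0 : t ≠ 0) : pl (p := p) e (ρ x e) ≤ S := by
  obtain ⟨s, r, rfl⟩ := Submodule.mem_span_pair.mp htP
  set e' := ρ x e with he'
  set f' := f.comp (ρ x⁻¹) with hf'
  set α := f e' with hα
  set β := f' e with hβ
  have hab : α * β = -1 := C.form
  have hy' : ρ (x * a * x⁻¹ * a⁻¹) (s • e + r • e') = (s - r * α) • e + (r + s * β + r) • e' :=
    k_apply C.tv C.tv' hab s r
  have hs : s ≠ 0 ∨ r ≠ 0 := by
    by_contra h
    push Not at h
    apply ht0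
    rw [h.1, h.2]
    simp
  have hD := disc_ne C.hp hab hs
  set D := s * r + s * s * β + r * r * α with hDdef
  have hkt := hS _ ht
  rw [hy'] at hkt
  have he : e ∈ S := by
    have h1 : e = ((r + s * β + r) / D) • (s • e + r • e') + (-r / D) •
        ((s - r * α) • e + (r + s * β + r) • e') := by
      have c1 : (r + s * β + r) / D * s + -r / D * (s - r * α) = 1 := by
        field_simp
        rw [hDdef]
        ring
      have c2 : (r + s * β + r) / D * r + -r / D * (r + s * β + r) = 0 := by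
        field_simp
        ring
      calc e = (1 : ZMod p) • e + (0 : ZMod p) • e' := by simp
        _ = _ := by
          rw [← c1, ← c2]
          module
    rw [h1]
    exact S.add_mem (S.smul_mem _ ht) (S.smul_mem _ hkt)
  have he' : e' ∈ S := by
    have h1 : e' = (-(s - r * α) / D) • (s • e + r • e') + (s / D) •
        ((s - r * α) • e + (r + s * β + r) • e') := by
      have c1 : -(s - r * α) / D * s + s / D * (s - r * α) = 0 := by
        field_simp
        ring
      have c2 : -(s - r * α) / D * r + s / D * (r + s * β + r) = 1 := by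
        field_simp
        rw [hDdef]
        ring
      calc e' = (0 : ZMod p) • e + (1 : ZMod p) • e' := by simp
        _ = _ := by
          rw [← c1, ← c2]
          module
    rw [h1]
    exact S.add_mem (S.smul_mem _ ht) (S.smul_mem _ hkt)
  exact Submodule.span_le.mpr (by
    rintro y (rfl | rfl)
    · exact he
    · exact he')

theorem indep {s t : ZMod p} (h : s • e + t • ρ x e = 0) : s = 0 ∧ t = 0 := by
  have h1 := congrArg f h
  simp only [map_add, map_smul, smul_eq_mul, C.tv.fe, map_zero, mul_zero, zero_add] at h1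
  have ht : t = 0 := (mul_eq_zero.mp h1).resolve_right C.nondeg.1
  refine ⟨?_, ht⟩
  rw [ht, zero_smul, add_zero] at h
  exact (smul_eq_zero.mp h).resolve_right C.tv.e0

/-- The two-element family. -/
noncomputable def vec (C : Ctx ρ O a e f x) : Fin 2 → pl (p := p) e (ρ x e) :=
  ![⟨e, left_mem_pl _ _⟩, ⟨ρ x e, right_mem_pl _ _⟩]

omit C in
theorem hli (C : Ctx ρ O a e f x) : LinearIndependent (ZMod p) (vec C) := by
  unfold vec
  rw [LinearIndependent.pair_iff]
  intro s t h
  exact indep C (congrArg Subtype.val h)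

omit C in
theorem hsp (C : Ctx ρ O a e f x) : ⊤ ≤ Submodule.span (ZMod p) (Set.range (vec C)) := by
  rintro ⟨π, hπ⟩ -
  obtain ⟨s, t, rfl⟩ := Submodule.mem_span_pair.mp hπ
  have h1 : (⟨s • e + t • ρ x e, hπ⟩ : pl (p := p) e (ρ x e)) = s • vec C 0 + t • vec C 1 := rfl
  rw [h1]
  exact Submodule.add_mem _ (Submodule.smul_mem _ _ (Submodule.subset_span ⟨0, rfl⟩))
    (Submodule.smul_mem _ _ (Submodule.subset_span ⟨1, rfl⟩))

/-- The basis of the plane. -/
noncomputable def basis (C : Ctx ρ O a e f x) : Basis (Fin 2) (ZMod p) (pl (p := p) e (ρ x e)) :=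
  Basis.mk (hli C) (hsp C)

omit C in
theorem basis_zero (C : Ctx ρ O a e f x) : ((basis C 0 : pl (p := p) e (ρ x e)) : M) = e := by
  unfold basis
  rw [Basis.mk_apply]
  rfl

omit C in
theorem basis_one (C : Ctx ρ O a e f x) : ((basis C 1 : pl (p := p) e (ρ x e)) : M) = ρ x e := by
  unfold basis
  rw [Basis.mk_apply]
  rfl

omit C in
/-- The matrix of an endomorphism. -/
theorem toMatrix_eq (B : Basis (Fin 2) (ZMod p) (pl (p := p) e (ρ x e)))
    (T : Module.End (ZMod p) (pl (p := p) e (ρ x e))) {c₀₀ c₀₁ c₁₀ c₁₁ : ZMod p}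
    (h0 : T (B 0) = c₀₀ • B 0 + c₁₀ • B 1) (h1 : T (B 1) = c₀₁ • B 0 + c₁₁ • B 1) :
    LinearMap.toMatrix B B T = !![c₀₀, c₀₁; c₁₀, c₁₁] := by
  ext i j
  rw [LinearMap.toMatrix_apply]
  fin_cases i <;> fin_cases j <;> simp [h0, h1, Basis.repr_self]

/-- The action of the class on the plane. -/
noncomputable def rhoP (C : Ctx ρ O a e f x) :
    cls O a →* Module.End (ZMod p) (pl (p := p) e (ρ x e)) :=
  resHom (ρ.comp (cls O a).subtype) (pl (p := p) e (ρ x e)) (fun g _ hu => C.pl_inv g.2 hu)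

omit C in
theorem rhoP_apply (C : Ctx ρ O a e f x) (g : cls O a) (u : pl (p := p) e (ρ x e)) :
    ((rhoP C g u : pl (p := p) e (ρ x e)) : M) = ρ g u := rfl

omit C in
theorem det_rhoP (C : Ctx ρ O a e f x) (g : cls O a) : LinearMap.det (rhoP C g) = 1 := by
  haveI : Module.Finite (ZMod p) (pl (p := p) e (ρ x e)) := Module.Finite.of_finite
  have h : g ∈ ((LinearMap.det : Module.End (ZMod p) (pl (p := p) e (ρ x e)) →* ZMod p).comp (rhoP C)).ker := by
    obtain ⟨g, hg⟩ := g
    induction hg using Subgroup.closure_induction with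
    | mem d hd =>
      obtain ⟨z, hz, rfl⟩ := hd
      have hq : Quad (ρ (z * a * z⁻¹)) := (C.tv.conj z).quad
      have hq' : Quad (rhoP C ⟨z * a * z⁻¹, Subgroup.subset_closure ⟨z, hz, rfl⟩⟩) := by
        exact quad_resHom (ρ := ρ.comp (cls O a).subtype) (U := pl (p := p) e (ρ x e)) hq
      exact det_eq_one_of_quad p hq'
    | one =>
      exact Subgroup.one_mem _
    | mul g₁ g₂ h₁ h₂ ih₁ ih₂ =>
      exact Subgroup.mul_mem _ ih₁ ih₂
    | inv g h₁ ih =>
      exact Subgroup.inv_mem _ ih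
  exact h

/-- The homomorphism to `SL(2, p)`. -/
noncomputable def phi (C : Ctx ρ O a e f x) :
    cls O a →* Matrix.SpecialLinearGroup (Fin 2) (ZMod p) :=
  slHom (rhoP C) (basis C) (det_rhoP C)

omit C in
theorem phi_coe (C : Ctx ρ O a e f x) (g : cls O a) :
    ((phi C g : Matrix.SpecialLinearGroup (Fin 2) (ZMod p)) : Matrix (Fin 2) (Fin 2) (ZMod p)) =
      LinearMap.toMatrix (basis C) (basis C) (rhoP C g) := rfl

omit C in
theorem phi_a (C : Ctx ρ O a e f x) :
    phi C ⟨a, self_mem_cls O a⟩ = UU (f (ρ x e)) := by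
  apply Subtype.ext
  rw [phi_coe]
  refine toMatrix_eq (basis C) _ (c₀₀ := 1) (c₀₁ := f (ρ x e)) (c₁₀ := 0) (c₁₁ := 1) ?_ ?_
  · apply Subtype.ext
    rw [rhoP_apply]
    simp only [Submodule.coe_add, Submodule.coe_smul, basis_zero, basis_one]
    rw [C.tv.apply, C.tv.fe]
    simp
  · apply Subtype.ext
    rw [rhoP_apply]
    simp only [Submodule.coe_add, Submodule.coe_smul, basis_zero, basis_one]
    rw [C.tv.apply]
    simp [add_comm]

omit C in
theorem phi_b (C : Ctx ρ O a e f x) :
    phi C ⟨x * a * x⁻¹, conj_mem_cls a C.hx⟩ = LL ((f.comp (ρ x⁻¹)) e) := by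
  apply Subtype.ext
  rw [phi_coe]
  refine toMatrix_eq (basis C) _ (c₀₀ := 1) (c₀₁ := 0) (c₁₀ := (f.comp (ρ x⁻¹)) e) (c₁₁ := 1) ?_ ?_
  · apply Subtype.ext
    rw [rhoP_apply]
    simp only [Submodule.coe_add, Submodule.coe_smul, basis_zero, basis_one]
    rw [(C.tv').apply]
    simp
  · apply Subtype.ext
    rw [rhoP_apply]
    simp only [Submodule.coe_add, Submodule.coe_smul, basis_zero, basis_one]
    rw [(C.tv').apply, (C.tv').fe]
    simp

omit C in
theorem phi_closure (C : Ctx ρ O a e f x) :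
    Subgroup.closure {phi C ⟨a, self_mem_cls O a⟩, phi C ⟨x * a * x⁻¹, conj_mem_cls a C.hx⟩} = ⊤ := by
  rw [phi_a, phi_b]
  exact closure_UU_LL C.nondeg.1 C.nondeg.2

omit C in
theorem phi_surjective (C : Ctx ρ O a e f x) : Function.Surjective (phi C) := by
  rw [← MonoidHom.range_eq_top, eq_top_iff, ← phi_closure C, Subgroup.closure_le]
  rintro y (rfl | rfl)
  · exact ⟨_, rfl⟩
  · exact ⟨_, rfl⟩

omit C in
theorem fixed_of_mem (C : Ctx ρ O a e f x) (g : cls O a) :
    ∀ c ∈ fix ρ (cls O a), ρ (g : Γ) c = c := fun c hc => hc g g.2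

omit C in
theorem phi_injective (C : Ctx ρ O a e f x) : Function.Injective (phi C) := by
  intro g h hgh
  have h1 : LinearMap.toMatrix (basis C) (basis C) (rhoP C g) =
      LinearMap.toMatrix (basis C) (basis C) (rhoP C h) := congrArg Subtype.val hgh
  have h2 : rhoP C g = rhoP C h := (LinearMap.toMatrix (basis C) (basis C)).injective h1
  apply Subtype.ext
  apply C.eq_of_agree
  · intro π hπ
    have := congrArg (fun T : Module.End (ZMod p) (pl (p := p) e (ρ x e)) => ((T ⟨π, hπ⟩ : pl (p := p) e (ρ x e)) : M)) h2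
    exact this
  · intro c hc
    rw [fixed_of_mem C g c hc, fixed_of_mem C h c hc]

/-- The isomorphism with `SL(2, p)`. -/
noncomputable def phiEquiv (C : Ctx ρ O a e f x) :
    cls O a ≃* Matrix.SpecialLinearGroup (Fin 2) (ZMod p) :=
  MulEquiv.ofBijective (phi C) ⟨phi_injective C, phi_surjective C⟩

omit C in
/-- The class is generated by two conjugates. -/
theorem closure_pair_eq (C : Ctx ρ O a e f x) :
    Subgroup.closure {a, x * a * x⁻¹} = cls O a := by
  apply le_antisymm
  · rw [Subgroup.closure_le]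
    rintro y (rfl | rfl)
    · exact self_mem_cls O _
    · exact conj_mem_cls a C.hx
  · intro t ht
    have h1 : phi C ⟨t, ht⟩ ∈ Subgroup.closure {phi C ⟨a, self_mem_cls O a⟩,
        phi C ⟨x * a * x⁻¹, conj_mem_cls a C.hx⟩} := by
      rw [phi_closure]
      exact Subgroup.mem_top _
    have h2 : Subgroup.closure {phi C ⟨a, self_mem_cls O a⟩,
        phi C ⟨x * a * x⁻¹, conj_mem_cls a C.hx⟩} =
        (Subgroup.closure {(⟨a, self_mem_cls O a⟩ : cls O a), ⟨x * a * x⁻¹, conj_mem_cls a C.hx⟩}).map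
          (phi C) := by
      rw [MonoidHom.map_closure, Set.image_pair]
    rw [h2] at h1
    obtain ⟨s, hs, hs'⟩ := h1
    have h3 : s = ⟨t, ht⟩ := phi_injective C hs'
    subst h3
    have h4 : (Subgroup.closure {(⟨a, self_mem_cls O a⟩ : cls O a),
        ⟨x * a * x⁻¹, conj_mem_cls a C.hx⟩}).map (cls O a).subtype ≤
        Subgroup.closure {a, x * a * x⁻¹} := by
      rw [MonoidHom.map_closure, Set.image_pair]
      exact le_rfl
    exact h4 ⟨_, hs, rfl⟩

omit C in
/-- An element acting quadratically on the plane and trivially on the fixed points lies in the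
class. -/
theorem mem_of_acts (C : Ctx ρ O a e f x) {c : Γ}
    (hP : ∀ π ∈ pl (p := p) e (ρ x e), ρ c π ∈ pl (p := p) e (ρ x e))
    (hq : ∀ π ∈ pl (p := p) e (ρ x e), ρ c (ρ c π - π) = ρ c π - π)
    (hfix : ∀ y ∈ fix ρ (cls O a), ρ c y = y) : c ∈ cls O a := by
  haveI : Module.Finite (ZMod p) (pl (p := p) e (ρ x e)) := Module.Finite.of_finite
  let T : Module.End (ZMod p) (pl (p := p) e (ρ x e)) := (ρ c).restrict hP
  have hT : ∀ π : pl (p := p) e (ρ x e), ((T π : pl (p := p) e (ρ x e)) : M) = ρ c π := fun _ => rfl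
  have hqT : Quad T := by
    intro π
    apply Subtype.ext
    have := hq π π.2
    simpa [hT] using this
  have hdet : LinearMap.det T = 1 := det_eq_one_of_quad p hqT
  let m : Matrix.SpecialLinearGroup (Fin 2) (ZMod p) :=
    ⟨LinearMap.toMatrix (basis C) (basis C) T, by rw [LinearMap.det_toMatrix, hdet]⟩
  obtain ⟨l, hl⟩ := phi_surjective C m
  have h1 : LinearMap.toMatrix (basis C) (basis C) (rhoP C l) =
      LinearMap.toMatrix (basis C) (basis C) T := congrArg Subtype.val hl
  have h2 : rhoP C l = T := (LinearMap.toMatrix (basis C) (basis C)).injective h1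
  have h3 : c = l := by
    apply C.eq_of_agree
    · intro π hπ
      have := congrArg (fun T : Module.End (ZMod p) (pl (p := p) e (ρ x e)) => ((T ⟨π, hπ⟩ : pl (p := p) e (ρ x e)) : M)) h2
      exact this.symm
    · intro y hy
      rw [hfix y hy, fixed_of_mem C l y hy]
  rw [h3]
  exact l.2

end Ctx

end Cfsg.Agent.Lib.QuadAct.FFSL2
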