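import Cfsg.Agent.Lib.QuadAct.FFMain

/-!
# The structure of groups generated by best offenders: the plane factors in `G`
-/

set_option autoImplicit false
set_option linter.unusedSectionVars false
set_option linter.unusedSimpArgs false
set_option linter.style.haveILetI false

open scoped commutatorElement
open Module

namespace Cfsg.Agent.Lib.QuadAct.FFStruct

open Cfsg.Agent.Lib.QuadAct.FFBasic Cfsg.Agent.Lib.QuadAct.ThmA
open Cfsg.Agent.Lib.QuadAct.FFTrans Cfsg.Agent.Lib.QuadAct.FFTriple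
open Cfsg.Agent.Lib.QuadAct.FFGen Cfsg.Agent.Lib.QuadAct.FFPlane
open Cfsg.Agent.Lib.QuadAct.FFSL2 Cfsg.Agent.Lib.QuadAct.FFDicho
open Cfsg.Agent.Lib.QuadAct.FFDict Cfsg.Agent.Lib.QuadAct.FFMin
open Cfsg.Agent.Lib.QuadAct.FFMain
open Cfsg.Agent.Lib.Core.Basic

universe u

variable {G : Type u} [Group G] [Finite G] {p : ℕ} [Fact p.Prime] {V H : Subgroup G}
  {M : Type u} [AddCommGroup M] [Module (ZMod p) M] [Finite M] {ρ : H →* Module.End (ZMod p) M}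
  {ι : M → G}

theorem card_pl {Γ : Type*} [Group Γ] [Finite Γ] {ρ : Γ →* Module.End (ZMod p) M} {O : Subgroup Γ}
    {a x : Γ} {e : M} {f : M →ₗ[ZMod p] ZMod p} (C : Ctx ρ O a e f x) :
    Nat.card (pl (p := p) e (ρ x e)) = p ^ 2 := by
  haveI : Module.Finite (ZMod p) (pl (p := p) e (ρ x e)) := Module.Finite.of_finite
  rw [Module.natCard_eq_pow_finrank (K := ZMod p), Nat.card_zmod,
    Module.finrank_eq_card_basis (Ctx.basis C)]
  simp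

/-- Generation in `H` by best offenders, in the module language. -/
theorem hgen_dict (D : IsCoord V H ρ ι) (hf : H ⊓ Subgroup.centralizer (V : Set G) = ⊥)
    (hS3 : H = ⨆ A : {A : Subgroup G // A ≤ H ∧ Cfsg.IsBestOffenderOn p V A}, (A : Subgroup G)) :
    ∀ g : H, g ∈ ⨆ A : {A : Subgroup H // Best ρ A}, (A : Subgroup H) := by
  intro g
  have h1 : H ≤ (⨆ A : {A : Subgroup H // Best ρ A}, (A : Subgroup H)).map H.subtype := by
    conv_lhs => rw [hS3]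
    refine iSup_le fun A => ?_
    rw [← Subgroup.map_subgroupOf_eq_of_le A.2.1]
    refine Subgroup.map_mono (le_iSup (fun A : {A : Subgroup H // Best ρ A} => (A : Subgroup H))
      ⟨_, D.best_of_isBest hf A.2.1 A.2.2⟩)
  obtain ⟨g', hg', e⟩ := h1 g.2
  have : g' = g := Subtype.ext e
  rwa [← this]

/-- The set of transvections. -/
def tvs (ρ : H →* Module.End (ZMod p) M) : Set H := {c | ∃ e f, TV ρ c e f}

theorem closure_tvs (D : IsCoord V H ρ ι) (hf : H ⊓ Subgroup.centralizer (V : Set G) = ⊥)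
    (hS1 : Subgroup.centralizer (Cfsg.pPrimeCore p ↥H : Set ↥H) ≤ Cfsg.pPrimeCore p ↥H)
    (hS3 : H = ⨆ A : {A : Subgroup G // A ≤ H ∧ Cfsg.IsBestOffenderOn p V A}, (A : Subgroup G)) :
    Subgroup.closure (tvs ρ) = ⊤ := by
  rw [eq_top_iff, ← closure_tv_eq_top D.faith hS1 (hgen_dict D hf hS3)]
  refine iSup_le fun A => ?_
  obtain ⟨a, hz, e, f, hT⟩ := exists_TV D.faith hS1 A.2
  rw [hz, Subgroup.zpowers_le]
  exact Subgroup.subset_closure ⟨e, f, hT⟩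

/-- A minimal best offender yields a context. -/
theorem exists_data (D : IsCoord V H ρ ι) (hf : H ⊓ Subgroup.centralizer (V : Set G) = ⊥)
    (hS1 : Subgroup.centralizer (Cfsg.pPrimeCore p ↥H : Set ↥H) ≤ Cfsg.pPrimeCore p ↥H)
    {A : Subgroup G} (hAH : A ≤ H)
    (hA : Cfsg.IsBestOffenderOn p V A) (hAV : ⁅V, A⁆ ≠ ⊥)
    (hmin : ∀ B : Subgroup G, B ≤ A → Cfsg.IsBestOffenderOn p V B → ⁅V, B⁆ ≠ ⊥ → B = A) :
    ∃ (a : H) (e : M) (f : M →ₗ[ZMod p] ZMod p) (x : H),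
      A = (Subgroup.zpowers a).map H.subtype ∧ Ctx ρ (Cfsg.pPrimeCore p ↥H) a e f x := by
  have hm := minBest_of D hf hAH hA hAV hmin
  obtain ⟨a, hz, e, f, hT⟩ := exists_TV D.faith hS1 hm
  obtain ⟨x, C⟩ := exists_ctx D.faith (inferInstance : (Cfsg.pPrimeCore p ↥H).Normal)
    pPrimeCore_coprime hS1 hT
  refine ⟨a, e, f, x, ?_, C⟩
  rw [← hz, Subgroup.map_subgroupOf_eq_of_le hAH]

section factor

variable (D : IsCoord V H ρ ι) {O : Subgroup H} {a x : H} {e : M} {f : M →ₗ[ZMod p] ZMod p}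
  (C : Ctx ρ O a e f x)

include C

theorem E_eq : ⁅O.map H.subtype, (Subgroup.zpowers a).map H.subtype⁆ ⊔
    (Subgroup.zpowers a).map H.subtype = (cls O a).map H.subtype := by
  rw [cls_eq C, Subgroup.map_sup, Subgroup.map_commutator]

include D

theorem comm_E : ⁅V, (cls O a).map H.subtype⁆ = D.toG (FFDicho.comm ρ (cls O a)) := by
  rw [← D.comm_dict (Subgroup.map_subtype_le _), map_subgroupOf_subtype]

theorem fix_E : V ⊓ Subgroup.centralizer (((cls O a).map H.subtype : Subgroup G) : Set G) =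
    D.toG (fix ρ (cls O a)) := by
  rw [← D.fix_dict (Subgroup.map_subtype_le _), map_subgroupOf_subtype]

theorem stab_E : H ⊓ Subgroup.centralizer ((⁅V, (cls O a).map H.subtype⁆ : Subgroup G) : Set G) =
    (stab ρ (FFDicho.comm ρ (cls O a))).map H.subtype := by
  rw [comm_E D C, D.stab_dict]

theorem iso_E : Nonempty (↥((cls O a).map H.subtype) ≃* Matrix.SpecialLinearGroup (Fin 2) (ZMod p)) :=
  ⟨(Subgroup.equivMapOfInjective _ _ H.subtype_injective).symm.trans (Ctx.phiEquiv C)⟩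

theorem card_comm_E : Nat.card ↥(⁅V, (cls O a).map H.subtype⁆) = p ^ 2 := by
  rw [comm_E D C, IsCoord.card_toG, comm_eq_pl C]
  exact card_pl C

theorem comm_inf_fix_E : ⁅V, (cls O a).map H.subtype⁆ ⊓
    (V ⊓ Subgroup.centralizer (((cls O a).map H.subtype : Subgroup G) : Set G)) = ⊥ := by
  rw [comm_E D C, fix_E D C, ← IsCoord.toG_inf, comm_eq_pl C, C.inf_fix_eq_bot, IsCoord.toG_bot]

theorem comm_sup_fix_E : ⁅V, (cls O a).map H.subtype⁆ ⊔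
    (V ⊓ Subgroup.centralizer (((cls O a).map H.subtype : Subgroup G) : Set G)) = V := by
  rw [comm_E D C, fix_E D C, ← IsCoord.toG_sup, comm_eq_pl C]
  have h : pl (p := p) e (ρ x e) ⊔ fix ρ (cls O a) = ⊤ := by
    rw [eq_top_iff]
    intro m _
    obtain ⟨π, hπ, y, hy, rfl⟩ := C.exists_split m
    exact Submodule.add_mem_sup hπ hy
  rw [h, IsCoord.toG_top D]

theorem E_inf_stab : ((cls O a).map H.subtype) ⊓
    (H ⊓ Subgroup.centralizer ((⁅V, (cls O a).map H.subtype⁆ : Subgroup G) : Set G)) = ⊥ := by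
  rw [stab_E D C, ← Subgroup.map_inf _ _ _ H.subtype_injective, cls_inf_stab C, Subgroup.map_bot]

theorem E_inf_cent : ((cls O a).map H.subtype) ⊓
    Subgroup.centralizer ((⁅V, (cls O a).map H.subtype⁆ : Subgroup G) : Set G) = ⊥ := by
  have h := E_inf_stab D C
  rwa [← inf_assoc, inf_eq_left.mpr (Subgroup.map_subtype_le _)] at h

variable {T : Set H} (hgen : Subgroup.closure T = ⊤) (hT : ∀ c ∈ T, ∃ e₂ f₂, TV ρ c e₂ f₂)
  (hS : Subgroup.centralizer (O : Set H) ≤ O)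

include hgen hT hS

theorem E_sup_stab : ((cls O a).map H.subtype) ⊔
    (H ⊓ Subgroup.centralizer ((⁅V, (cls O a).map H.subtype⁆ : Subgroup G) : Set G)) = H := by
  rw [stab_E D C, ← Subgroup.map_sup, cls_sup_stab hgen hT hS C, ← MonoidHom.range_eq_map]
  exact Subgroup.range_subtype H

theorem E_comm_stab : ⁅(cls O a).map H.subtype,
    H ⊓ Subgroup.centralizer ((⁅V, (cls O a).map H.subtype⁆ : Subgroup G) : Set G)⁆ = ⊥ := by
  rw [stab_E D C, ← Subgroup.map_commutator, Subgroup.map_eq_bot_iff_of_injective _ H.subtype_injective,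
    eq_bot_iff, Subgroup.commutator_le]
  intro g hg y hy
  rw [Subgroup.mem_bot]
  exact commutatorElement_eq_one_iff_mul_comm.mpr (cls_comm_stab hgen hT hS C hg hy)

theorem comm_stab_le : ⁅V, H ⊓ Subgroup.centralizer ((⁅V, (cls O a).map H.subtype⁆ : Subgroup G) : Set G)⁆ ≤
    V ⊓ Subgroup.centralizer (((cls O a).map H.subtype : Subgroup G) : Set G) := by
  rw [stab_E D C, fix_E D C, ← D.comm_dict (Subgroup.map_subtype_le _), map_subgroupOf_subtype,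
    IsCoord.toG_le_iff, FFDicho.comm, Submodule.span_le]
  rintro _ ⟨g, hg, w, rfl⟩
  exact stab_comm_mem hgen hT hS C hg w

theorem normal_E : H ≤ Subgroup.normalizer (((cls O a).map H.subtype : Subgroup G) : Set G) := by
  have hn := cls_normal hgen hT hS C
  intro h hh
  rw [Subgroup.mem_normalizer_iff]
  intro y
  constructor
  · rintro ⟨w, hw, rfl⟩
    refine ⟨(⟨h, hh⟩ : H) * w * (⟨h, hh⟩ : H)⁻¹, hn.conj_mem _ hw _, rfl⟩
  · intro hy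
    obtain ⟨w, hw, hwy⟩ := hy
    refine ⟨(⟨h, hh⟩ : H)⁻¹ * w * (⟨h, hh⟩ : H)⁻¹⁻¹, hn.conj_mem _ hw _, ?_⟩
    simp only [Subgroup.coe_subtype, Subgroup.coe_mul, Subgroup.coe_inv, SetLike.coe_mem] at hwy ⊢
    rw [hwy]
    group

end factor

section main

variable (hV : Cfsg.IsElementaryAbelian p V) (hHV : H ≤ Subgroup.normalizer (V : Set G))
  (hf : H ⊓ Subgroup.centralizer (V : Set G) = ⊥)
  (hS1 : Subgroup.centralizer (Cfsg.pPrimeCore p ↥H : Set ↥H) ≤ Cfsg.pPrimeCore p ↥H)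
  (hS3 : H = ⨆ A : {A : Subgroup G // A ≤ H ∧ Cfsg.IsBestOffenderOn p V A}, (A : Subgroup G))

include hV hHV hf hS1 hS3

/-- S0616. -/
theorem s0616 {A : Subgroup G} (hAH : A ≤ H) (hA : Cfsg.IsBestOffenderOn p V A) (hAV : ⁅V, A⁆ ≠ ⊥)
    (hmin : ∀ B : Subgroup G, B ≤ A → Cfsg.IsBestOffenderOn p V B → ⁅V, B⁆ ≠ ⊥ → B = A) :
    (p = 2 ∨ p = 3) ∧ Nonempty (↥(⁅((Cfsg.pPrimeCore p ↥H).map H.subtype), A⁆ ⊔ A) ≃* Matrix.SpecialLinearGroup (Fin 2) (ZMod p)) ∧ Nat.card ↥(⁅V, ⁅((Cfsg.pPrimeCore p ↥H).map H.subtype), A⁆ ⊔ A⁆) = p ^ 2 ∧ ⁅V, ⁅((Cfsg.pPrimeCore p ↥H).map H.subtype), A⁆ ⊔ A⁆ ⊓ (V ⊓ Subgroup.centralizer ((⁅((Cfsg.pPrimeCore p ↥H).map H.subtype), A⁆ ⊔ A : Subgroup G) : Set G)) = ⊥ ∧ ⁅V, ⁅((Cfsg.pPrimeCore p ↥H).map H.subtype), A⁆ ⊔ A⁆ ⊔ (V ⊓ Subgroup.centralizer ((⁅((Cfsg.pPrimeCore p ↥H).map H.subtype), A⁆ ⊔ A : Subgroup G) : Set G)) = V ∧ ⁅⁅((Cfsg.pPrimeCore p ↥H).map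 H.subtype), A⁆ ⊔ A, H ⊓ Subgroup.centralizer ((⁅V, ⁅((Cfsg.pPrimeCore p ↥H).map H.subtype), A⁆ ⊔ A⁆ : Subgroup G) : Set G)⁆ = ⊥ ∧ (⁅((Cfsg.pPrimeCore p ↥H).map H.subtype), A⁆ ⊔ A) ⊓ (H ⊓ Subgroup.centralizer ((⁅V, ⁅((Cfsg.pPrimeCore p ↥H).map H.subtype), A⁆ ⊔ A⁆ : Subgroup G) : Set G)) = ⊥ ∧ (⁅((Cfsg.pPrimeCore p ↥H).map H.subtype), A⁆ ⊔ A) ⊔ (H ⊓ Subgroup.centralizer ((⁅V, ⁅((Cfsg.pPrimeCore p ↥H).map H.subtype), A⁆ ⊔ A⁆ : Subgroup G) : Set G)) = H ∧ ⁅V, H ⊓ Subgroup.centralizer ((⁅V, ⁅((Cfsg.pPrimeCore p ↥H).map H.subtype), A⁆ ⊔ A⁆ : Subgroup G) : Set G)⁆ ≤ V ⊓ Subgroup.centralizer ((⁅((Cfsg.pPrimeCore p ↥H).map H.subtype), A⁆ ⊔ A : Subgroup G) : Set G) := by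
  obtain ⟨M, _, _, _, ρ, ι, D⟩ := exists_coord hV hHV hf
  obtain ⟨a, e, f, x, rfl, C⟩ := exists_data D hf hS1 hAH hA hAV hmin
  have hgen := closure_tvs D hf hS1 hS3
  rw [E_eq C]
  exact ⟨C.hp, iso_E D C, card_comm_E D C, comm_inf_fix_E D C, comm_sup_fix_E D C,
    E_comm_stab D C hgen (fun c hc => hc) hS1, E_inf_stab D C,
    E_sup_stab D C hgen (fun c hc => hc) hS1, comm_stab_le D C hgen (fun c hc => hc) hS1⟩

/-- S0613. -/
theorem s0613 {A : Subgroup G} (hAH : A ≤ H) (hA : Cfsg.IsBestOffenderOn p V A) (hAV : ⁅V, A⁆ ≠ ⊥)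
    (hmin : ∀ B : Subgroup G, B ≤ A → Cfsg.IsBestOffenderOn p V B → ⁅V, B⁆ ≠ ⊥ → B = A) (x : G) (hx : x ∈ ((Cfsg.pPrimeCore p ↥H).map H.subtype)) (hxA : x ∉ Subgroup.centralizer (A : Set G)) : (p = 2 ∨ p = 3) ∧ Nat.card ↥(⁅V, A ⊔ A.map (MulAut.conj x).toMonoidHom⁆) = p ^ 2 ∧ (A ⊔ A.map (MulAut.conj x).toMonoidHom) ⊓ Subgroup.centralizer ((⁅V, A ⊔ A.map (MulAut.conj x).toMonoidHom⁆ : Subgroup G) : Set G) = ⊥ ∧ Nonempty (↥(A ⊔ A.map (MulAut.conj x).toMonoidHom) ≃* Matrix.SpecialLinearGroup (Fin 2) (ZMod p)) := by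
  obtain ⟨M, _, _, _, ρ, ι, D⟩ := exists_coord hV hHV hf
  obtain ⟨a, e, f, x₀, rfl, C₀⟩ := exists_data D hf hS1 hAH hA hAV hmin
  obtain ⟨z, hz, rfl⟩ := hx
  have hne : z * a * z⁻¹ ≠ a := by
    intro h
    apply hxA
    rw [Subgroup.mem_centralizer_iff]
    rintro _ ⟨_, ⟨k, rfl⟩, rfl⟩
    have h1 : z * a = a * z := by
      rw [← mul_inv_eq_iff_eq_mul, h]
    have h2 : Commute a z := h1.symm
    have h3 := (h2.zpow_left k).eq
    show ((a ^ k : H) : G) * (z : G) = (z : G) * ((a ^ k : H) : G)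
    rw [← Subgroup.coe_mul, ← Subgroup.coe_mul, h3]
  have C : Ctx ρ (Cfsg.pPrimeCore p ↥H) a e f z := ⟨C₀.hρ, C₀.hOn, C₀.hOc, C₀.tv, hz, hne⟩
  have h1 : ((Subgroup.zpowers a).map H.subtype) ⊔ ((Subgroup.zpowers a).map H.subtype).map (MulAut.conj (H.subtype z)).toMonoidHom =
      (cls (Cfsg.pPrimeCore p ↥H) a).map H.subtype := by
    rw [← Ctx.closure_pair_eq C, MonoidHom.map_closure, Set.image_pair, MonoidHom.map_zpowers,
      MonoidHom.map_zpowers]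
    rw [show ({H.subtype a, H.subtype (z * a * z⁻¹)} : Set G) = {H.subtype a} ∪ {H.subtype (z * a * z⁻¹)} from rfl,
      Subgroup.closure_union, Subgroup.zpowers_eq_closure, Subgroup.zpowers_eq_closure]
    congr 3
  rw [h1]
  exact ⟨C.hp, card_comm_E D C, E_inf_cent D C, iso_E D C⟩

/-- S0617. -/
theorem s0617 (hH1 : H ≠ ⊥) : (p = 2 ∨ p = 3) ∧ (∀ E : {E : Subgroup G // ∃ A : Subgroup G, A ≤ H ∧ Cfsg.IsBestOffenderOn p V A ∧ ⁅V, A⁆ ≠ ⊥ ∧ (∀ B : Subgroup G, B ≤ A → Cfsg.IsBestOffenderOn p V B → ⁅V, B⁆ ≠ ⊥ → B = A) ∧ E = ⁅((Cfsg.pPrimeCore p ↥H).map H.subtype), A⁆ ⊔ A}, H ≤ Subgroup.normalizer ((E : Subgroup G) : Set G) ∧ Nonempty (↥(E : Subgroup G) ≃* Matrix.SpecialLinearGroup (Fin 2) (ZMod p)) ∧ Nat.card ↥(⁅V, (E : Subgroup G)⁆) = p ^ 2) ∧ iSupIndep (fun E : {E : Subgroup G // ∃ A : Subgroup G, A ≤ H ∧ Cfsg.IsBestOffenderOn p V A ∧ ⁅V, A⁆ ≠ ⊥ ∧ (∀ B : Subgroup G, B ≤ A →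 Cfsg.IsBestOffenderOn p V B → ⁅V, B⁆ ≠ ⊥ → B = A) ∧ E = ⁅((Cfsg.pPrimeCore p ↥H).map H.subtype), A⁆ ⊔ A} => (E : Subgroup G)) ∧ (⨆ E : {E : Subgroup G // ∃ A : Subgroup G, A ≤ H ∧ Cfsg.IsBestOffenderOn p V A ∧ ⁅V, A⁆ ≠ ⊥ ∧ (∀ B : Subgroup G, B ≤ A → Cfsg.IsBestOffenderOn p V B → ⁅V, B⁆ ≠ ⊥ → B = A) ∧ E = ⁅((Cfsg.pPrimeCore p ↥H).map H.subtype), A⁆ ⊔ A}, (E : Subgroup G)) = H ∧ iSupIndep (fun o : Option {E : Subgroup G // ∃ A : Subgroup G, A ≤ H ∧ Cfsg.IsBestOffenderOn p V A ∧ ⁅V, A⁆ ≠ ⊥ ∧ (∀ B : Subgroup G, B ≤ A → Cfsg.IsBestOffenderOn p V B → ⁅V, B⁆ ≠ ⊥ → B = A) ∧ E = ⁅((Cfsg.pPrimeCore p ↥H).map H.subtype), A⁆ ⊔ A} => o.elim (V ⊓ Subgroup.centralizer (H : Set G)) (fun E => ⁅V, (E : Subgroup G)⁆)) ∧ (V ⊓ Subgroup.centralizer (H : Set G)) ⊔ (⨆ E : {E : Subgroup G // ∃ A : Subgroup G, A ≤ H ∧ Cfsg.IsBestOffenderOn p V A ∧ ⁅V, A⁆ ≠ ⊥ ∧ (∀ B : Subgroup G, B ≤ A → Cfsg.IsBestOffenderOn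 p V B → ⁅V, B⁆ ≠ ⊥ → B = A) ∧ E = ⁅((Cfsg.pPrimeCore p ↥H).map H.subtype), A⁆ ⊔ A}, ⁅V, (E : Subgroup G)⁆) = V := by
  obtain ⟨M, _, _, _, ρ, ι, D⟩ := exists_coord hV hHV hf
  have hgen := closure_tvs D hf hS1 hS3
  set κ := {E : Subgroup G // ∃ A : Subgroup G, A ≤ H ∧ Cfsg.IsBestOffenderOn p V A ∧ ⁅V, A⁆ ≠ ⊥ ∧ (∀ B : Subgroup G, B ≤ A → Cfsg.IsBestOffenderOn p V B → ⁅V, B⁆ ≠ ⊥ → B = A) ∧ E = ⁅((Cfsg.pPrimeCore p ↥H).map H.subtype), A⁆ ⊔ A} with hκ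
  have hdata : ∀ E : κ, ∃ (a : H) (e : M) (f : M →ₗ[ZMod p] ZMod p) (x : H),
      Ctx ρ (Cfsg.pPrimeCore p ↥H) a e f x ∧ E.1 = (cls (Cfsg.pPrimeCore p ↥H) a).map H.subtype := by
    rintro ⟨E, A, hAH, hA, hAV, hmin, rfl⟩
    obtain ⟨a, e, f, x, rfl, C⟩ := exists_data D hf hS1 hAH hA hAV hmin
    exact ⟨a, e, f, x, C, E_eq C⟩
  set Ef : κ → Subgroup H := fun E => E.1.subgroupOf H with hEfdef
  have hEf : ∀ i, ∃ (c : H) (e₂ : M) (f₂ : M →ₗ[ZMod p] ZMod p) (x₂ : H),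
      Ctx ρ (Cfsg.pPrimeCore p ↥H) c e₂ f₂ x₂ ∧ Ef i = cls (Cfsg.pPrimeCore p ↥H) c := by
    intro i
    obtain ⟨a, e, f, x, C, h⟩ := hdata i
    refine ⟨a, e, f, x, C, ?_⟩
    rw [hEfdef]
    simp only
    rw [h, map_subgroupOf_subtype]
  have hle : ∀ E : κ, E.1 ≤ H := by
    intro E
    obtain ⟨a, e, f, x, C, h⟩ := hdata E
    rw [h]
    exact Subgroup.map_subtype_le _
  have hmap : ∀ E : κ, (Ef E).map H.subtype = E.1 := fun E => Subgroup.map_subgroupOf_eq_of_le (hle E)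
  have hinj : Function.Injective Ef := by
    intro i j hij
    apply Subtype.ext
    rw [← hmap i, ← hmap j, hij]
  have hp : p = 2 ∨ p = 3 := by
    by_contra hcon
    have h1 : tvs ρ = ∅ := by
      rw [Set.eq_empty_iff_forall_notMem]
      rintro c ⟨e, f, hc⟩
      obtain ⟨x, C⟩ := exists_ctx D.faith (inferInstance : (Cfsg.pPrimeCore p ↥H).Normal)
        pPrimeCore_coprime hS1 hc
      exact hcon C.hp
    rw [h1, Subgroup.closure_empty] at hgen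
    apply hH1
    rw [eq_bot_iff]
    intro g hg
    have h2 : (⟨g, hg⟩ : H) ∈ (⊥ : Subgroup H) := by rw [hgen]; trivial
    have h3 : (⟨g, hg⟩ : H) = 1 := h2
    have h4 : g = 1 := congrArg Subtype.val h3
    simp [h4]
  have hsupE : (⨆ E : κ, E.1) = H := by
    apply le_antisymm (iSup_le hle)
    conv_lhs => rw [hS3]
    refine iSup_le fun A => ?_
    obtain ⟨k, B, hB, -, hsup⟩ := s0612 hV hHV hf hS1 A.2.1 A.2.2
    show (A : Subgroup G) ≤ _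
    rw [← hsup]
    refine iSup_le fun i => ?_
    obtain ⟨hBA, hBb, hBV, hBm⟩ := hB i
    have hBH : B i ≤ H := hBA.trans A.2.1
    refine le_trans ?_ (le_iSup (fun E : κ => E.1) ⟨_, B i, hBH, hBb, hBV, hBm, rfl⟩)
    exact le_sup_right
  have hsupEf : (⨆ i, Ef i) = ⊤ := by
    have h1 : (⨆ i, Ef i).map H.subtype = H := by
      rw [Subgroup.map_iSup]
      simp only [hmap]
      exact hsupE
    apply Subgroup.map_injective H.subtype_injective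
    rw [h1, ← MonoidHom.range_eq_map]
    exact (Subgroup.range_subtype H).symm
  have hindE : iSupIndep (fun E : κ => E.1) := by
    have := iSupIndep_map (family_indep hEf hinj) H.subtype_injective
    simpa only [hmap] using this
  obtain ⟨hm1, hm2, hm3⟩ := family_module hEf hinj
  have hfixH : V ⊓ Subgroup.centralizer (H : Set G) = D.toG (fix ρ (⨆ i, Ef i)) := by
    rw [hsupEf, ← D.fix_dict le_rfl, Subgroup.subgroupOf_self]
  have hcommE : ∀ E : κ, ⁅V, E.1⁆ = D.toG (FFDicho.comm ρ (Ef E)) := by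
    intro E
    rw [D.comm_dict (hle E)]
  refine ⟨hp, ?_, hindE, hsupE, ?_, ?_⟩
  · intro E
    obtain ⟨a, e, f, x, C, h⟩ := hdata E
    rw [h]
    exact ⟨normal_E D C hgen (fun c hc => hc) hS1, iso_E D C, card_comm_E D C⟩
  · intro o
    rw [disjoint_iff]
    cases o with
    | none =>
      rw [eq_bot_iff]
      have h1 : (⨆ (j : Option κ), ⨆ (_ : j ≠ none),
          j.elim (V ⊓ Subgroup.centralizer (H : Set G)) (fun E : κ => ⁅V, E.1⁆)) ≤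
          D.toG (⨆ i, FFDicho.comm ρ (Ef i)) := by
        refine iSup₂_le fun j hj => ?_
        cases j with
        | none => exact absurd rfl hj
        | some i =>
          show ⁅V, i.1⁆ ≤ _
          rw [hcommE, IsCoord.toG_le_iff]
          exact le_iSup (fun i => FFDicho.comm ρ (Ef i)) i
      refine (inf_le_inf_left _ h1).trans ?_
      show (V ⊓ Subgroup.centralizer (H : Set G)) ⊓ _ ≤ ⊥
      rw [hfixH, ← IsCoord.toG_inf, inf_comm, hm1, IsCoord.toG_bot]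
    | some i =>
      rw [eq_bot_iff]
      have h1 : (⨆ (j : Option κ), ⨆ (_ : j ≠ some i),
          j.elim (V ⊓ Subgroup.centralizer (H : Set G)) (fun E : κ => ⁅V, E.1⁆)) ≤
          D.toG (fix ρ (Ef i)) := by
        refine iSup₂_le fun j hj => ?_
        cases j with
        | none =>
          show V ⊓ Subgroup.centralizer (H : Set G) ≤ _
          rw [hfixH, IsCoord.toG_le_iff]
          exact fix_anti (le_iSup Ef i)
        | some j =>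
          show ⁅V, j.1⁆ ≤ _
          rw [hcommE, IsCoord.toG_le_iff]
          exact hm3 j i fun h => hj (by rw [h])
      refine (inf_le_inf_left _ h1).trans ?_
      show ⁅V, i.1⁆ ⊓ _ ≤ ⊥
      obtain ⟨c, e₂, f₂, x₂, C, h⟩ := hEf i
      rw [hcommE, ← IsCoord.toG_inf, h, comm_eq_pl C, C.inf_fix_eq_bot, IsCoord.toG_bot]
  · have h1 : (⨆ E : κ, ⁅V, E.1⁆) = D.toG (⨆ i, FFDicho.comm ρ (Ef i)) := by
      rw [IsCoord.toG_iSup]
      simp only [hcommE]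
    rw [h1, hfixH, ← IsCoord.toG_sup, sup_comm, hm2, IsCoord.toG_top]

end main

end Cfsg.Agent.Lib.QuadAct.FFStruct
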