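import Cfsg.Agent.Lib.QuadAct.FFBasic
import Cfsg.Agent.Lib.QuadAct.Sections

/-!
# Transvections on a faithful module; pairs of transvections
-/

set_option autoImplicit false
set_option linter.unusedSectionVars false
set_option linter.unusedSimpArgs false
set_option linter.style.haveILetI false

open scoped commutatorElement

namespace Cfsg.Agent.Lib.QuadAct.FFTrans

open Cfsg.Agent.Lib.QuadAct.FFBasic Cfsg.Agent.Lib.QuadAct.ThmA
open Cfsg.Agent.Lib.QuadAct.Sections Cfsg.Agent.Lib.QuadAct.TwoGen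
open Cfsg.Agent.Lib.Core.Basic

universe u v

variable {p : ℕ} [Fact p.Prime] {Γ : Type u} [Group Γ] {M : Type v} [AddCommGroup M]
  [Module (ZMod p) M]

/-- `a` acts as the transvection `w ↦ w + f(w) e`. -/
structure TV (ρ : Γ →* Module.End (ZMod p) M) (a : Γ) (e : M) (f : M →ₗ[ZMod p] ZMod p) : Prop where
  apply : ∀ w, ρ a w = w + f w • e
  fe : f e = 0
  e0 : e ≠ 0
  f1 : ∃ u, f u = 1

variable {ρ : Γ →* Module.End (ZMod p) M}

theorem rho_inv_apply_cancel (z : Γ) (w : M) : ρ z⁻¹ (ρ z w) = w := by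
  rw [← Module.End.mul_apply, ← map_mul, inv_mul_cancel, map_one]
  rfl

theorem rho_apply_inv_cancel (z : Γ) (w : M) : ρ z (ρ z⁻¹ w) = w := by
  rw [← Module.End.mul_apply, ← map_mul, mul_inv_cancel, map_one]
  rfl

theorem TV.conj {a : Γ} {e : M} {f : M →ₗ[ZMod p] ZMod p} (h : TV ρ a e f) (z : Γ) :
    TV ρ (z * a * z⁻¹) (ρ z e) (f.comp (ρ z⁻¹)) := by
  refine ⟨fun w => ?_, ?_, ?_, ?_⟩
  · rw [map_mul, map_mul, Module.End.mul_apply, Module.End.mul_apply, h.apply, map_add,
      rho_apply_inv_cancel, map_smul]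
    rfl
  · show f (ρ z⁻¹ (ρ z e)) = 0
    rw [rho_inv_apply_cancel, h.fe]
  · intro h0
    apply h.e0
    have := rho_inv_apply_cancel (ρ := ρ) z e
    rw [h0, map_zero] at this
    exact this.symm
  · obtain ⟨u, hu⟩ := h.f1
    refine ⟨ρ z u, ?_⟩
    show f (ρ z⁻¹ (ρ z u)) = 1
    rw [rho_inv_apply_cancel, hu]

theorem TV.inv_apply {a : Γ} {e : M} {f : M →ₗ[ZMod p] ZMod p} (h : TV ρ a e f) (w : M) :
    ρ a⁻¹ w = w - f w • e := by
  have h1 : ρ a (w - f w • e) = w := by
    rw [h.apply, map_sub, map_smul, h.fe]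
    simp
  calc ρ a⁻¹ w = ρ a⁻¹ (ρ a (w - f w • e)) := by rw [h1]
    _ = _ := rho_inv_apply_cancel _ _

theorem TV.quad {a : Γ} {e : M} {f : M →ₗ[ZMod p] ZMod p} (h : TV ρ a e f) : Quad (ρ a) := by
  intro w
  have h1 : ρ a w - w = f w • e := by
    rw [h.apply, add_sub_cancel_left]
  rw [h1, map_smul, h.apply, h.fe]
  simp

/-- The action of `b a⁻¹`. -/
theorem pair_apply {a b : Γ} {e e' : M} {f f' : M →ₗ[ZMod p] ZMod p} (ha : TV ρ a e f)
    (hb : TV ρ b e' f') (w : M) :
    ρ (b * a⁻¹) w = w - f w • e + (f' w - f w * f' e) • e' := by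
  rw [map_mul, Module.End.mul_apply, ha.inv_apply, hb.apply, map_sub, map_smul, smul_eq_mul]

section unip

variable [Finite M]

/-- A nilpotent deviation: the element is unipotent. -/
theorem pow_eq_one_of_cube {y : Module.End (ZMod p) M} (hM : ∃ m : M, m ≠ 0)
    (h : ∀ w, (y - 1) ((y - 1) ((y - 1) w)) = 0) : y ^ p ^ 2 = 1 := by
  obtain ⟨m, hm⟩ := hM
  haveI : Nontrivial M := ⟨⟨m, 0, hm⟩⟩
  haveI : CharP (Module.End (ZMod p) M) p := charP_of_injective_algebraMap (algebraMap (ZMod p) (Module.End (ZMod p) M)).injective p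
  have h1 : (y - 1) ^ 3 = 0 := by
    ext w
    simp only [pow_succ, pow_zero, one_mul, Module.End.mul_apply]
    exact h w
  have h2 : (y - 1) ^ p ^ 2 = 0 := by
    have h3 : 3 ≤ p ^ 2 := by nlinarith [(Fact.out : p.Prime).two_le]
    exact pow_eq_zero_of_le h3 h1
  rw [sub_pow_char_pow_of_commute p 2 (Commute.one_right y), one_pow] at h2
  exact sub_eq_zero.mp h2

/-- If one of the mixed terms vanishes, then `b a⁻¹` is unipotent. -/
theorem pair_unipotent {a b : Γ} {e e' : M} {f f' : M →ₗ[ZMod p] ZMod p} (ha : TV ρ a e f)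
    (hb : TV ρ b e' f') (h0 : f e' = 0 ∨ f' e = 0) : (ρ (b * a⁻¹)) ^ p ^ 2 = 1 := by
  refine pow_eq_one_of_cube ⟨e, ha.e0⟩ fun w => ?_
  have key : ∀ w, (ρ (b * a⁻¹) - 1) w = - f w • e + (f' w - f w * f' e) • e' := by
    intro w
    rw [LinearMap.sub_apply, pair_apply ha hb, Module.End.one_apply, neg_smul]
    abel
  rcases h0 with h0 | h0
  · simp only [key, map_add, map_smul, smul_eq_mul, ha.fe, hb.fe, h0, LinearMap.add_apply,
      LinearMap.smul_apply]
    simp
  · simp only [key, map_add, map_smul, smul_eq_mul, ha.fe, hb.fe, h0, LinearMap.add_apply,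
      LinearMap.smul_apply]
    simp

/-- Under coprimality, the mixed terms do not vanish. -/
theorem pair_nondeg [Finite Γ] (hρ : Function.Injective ρ) {a b : Γ} {e e' : M}
    {f f' : M →ₗ[ZMod p] ZMod p} (ha : TV ρ a e f) (hb : TV ρ b e' f')
    (hk : (orderOf (b * a⁻¹)).Coprime p) (hne : b ≠ a) : f e' ≠ 0 ∧ f' e ≠ 0 := by
  by_contra hcon
  have h0 : f e' = 0 ∨ f' e = 0 := by
    by_contra h
    push Not at h
    exact hcon h
  have h1 := pair_unipotent ha hb h0
  have h2 : (b * a⁻¹) ^ p ^ 2 = 1 := by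
    apply hρ
    rw [map_pow, h1, map_one]
  have h3 : orderOf (b * a⁻¹) ∣ p ^ 2 := orderOf_dvd_of_pow_eq_one h2
  have h4 := Nat.eq_one_of_dvd_coprimes (Nat.Coprime.pow_right 2 hk) dvd_rfl h3
  apply hne
  have h5 : b * a⁻¹ = 1 := orderOf_eq_one_iff.mp h4
  exact mul_inv_eq_one.mp h5

/-- Nondegenerate transvections do not commute. -/
theorem not_commute {a b : Γ} {e e' : M} {f f' : M →ₗ[ZMod p] ZMod p} (ha : TV ρ a e f)
    (hb : TV ρ b e' f') (hα : f e' ≠ 0) (hβ : f' e ≠ 0) : b * a ≠ a * b := by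
  intro h
  obtain ⟨u, hu⟩ := ha.f1
  have h3 := congrArg (fun x : Γ => f (ρ x u)) h
  simp only [map_mul, Module.End.mul_apply, ha.apply, hb.apply, map_add, map_smul, ha.fe,
    smul_eq_mul, hu] at h3
  apply mul_ne_zero hα hβ
  linear_combination h3

/-- `p` is `2` or `3`. -/
theorem p_two_or_three [Finite Γ] (hρ : Function.Injective ρ) {O : Subgroup Γ} (hOn : O.Normal)
    (hOc : (Nat.card O).Coprime p) {a b : Γ} {e e' : M}
    {f f' : M →ₗ[ZMod p] ZMod p} (ha : TV ρ a e f) (hb : TV ρ b e' f') (hk : b * a⁻¹ ∈ O)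
    (hne : b ≠ a) : p = 2 ∨ p = 3 := by
  have hko : (orderOf (b * a⁻¹)).Coprime p := by
    have h1 := orderOf_dvd_natCard (⟨_, hk⟩ : O)
    rw [Subgroup.orderOf_mk] at h1
    exact Nat.Coprime.coprime_dvd_left h1 hOc
  obtain ⟨hα, hβ⟩ := pair_nondeg hρ ha hb hko hne
  by_contra hcon
  push Not at hcon
  apply hcon.2
  set L : Subgroup Γ := Subgroup.closure {a, b} with hL
  have haL : a ∈ L := Subgroup.subset_closure (by simp)
  have hbL : b ∈ L := Subgroup.subset_closure (by simp)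
  let ρ' : L →* Module.End (ZMod p) M := ρ.comp L.subtype
  have hρ' : Function.Injective ρ' := hρ.comp (Subgroup.subtype_injective _)
  have hgen := closure_pair_eq_top hL haL hbL
  have hQn : (O.subgroupOf L).Normal := Subgroup.Normal.subgroupOf hOn L
  have hQc : (Nat.card (O.subgroupOf L)).Coprime p :=
    Nat.Coprime.coprime_dvd_left (Subgroup.card_comap_dvd_of_injective O L.subtype
      (Subgroup.subtype_injective _)) hOc
  have hyL : b * a⁻¹ ∈ L := L.mul_mem hbL (L.inv_mem haL)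
  have hy : (⟨b * a⁻¹, hyL⟩ : L) * ⟨a, haL⟩ ≠ ⟨a, haL⟩ * ⟨b * a⁻¹, hyL⟩ := by
    intro h
    have h1 : b * a⁻¹ * a = a * (b * a⁻¹) := congrArg Subtype.val h
    have h2 : b * a = a * b := by
      have h3 : b = a * b * a⁻¹ := by
        simpa [mul_assoc] using h1
      calc b * a = a * b * a⁻¹ * a := by rw [← h3]
        _ = a * b := by group
    exact not_commute ha hb hα hβ h2
  exact (rep_normal hcon.1 ρ' hρ' hgen ha.quad hb.quad hQn hQc (y := ⟨b * a⁻¹, hyL⟩)
    hk hy).1

theorem z2_form : ∀ α β : ZMod 2, α ≠ 0 → β ≠ 0 → α * β = -1 := by decide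

theorem z3_form : ∀ α β : ZMod 3, α ≠ 0 → β ≠ 0 → ¬ α * β = -1 → α * β = 1 := by decide

theorem z3_three : (3 : ZMod 3) = 0 := by decide

/-- The form on a pair. -/
theorem pair_form [Finite Γ] (hp : p = 2 ∨ p = 3) (hρ : Function.Injective ρ) {a b : Γ} {e e' : M}
    {f f' : M →ₗ[ZMod p] ZMod p} (ha : TV ρ a e f) (hb : TV ρ b e' f')
    (hk : (orderOf (b * a⁻¹)).Coprime p) (hne : b ≠ a) : f e' * f' e = -1 := by
  obtain ⟨hα, hβ⟩ := pair_nondeg hρ ha hb hk hne
  rcases hp with rfl | rfl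
  · exact z2_form _ _ hα hβ
  · by_contra hne1
    have hab : f e' * f' e = 1 := z3_form _ _ hα hβ hne1
    set α := f e' with hαdef
    set β := f' e with hβdef
    have h3 : (3 : ZMod 3) = 0 := z3_three
    -- the square
    have hy : ∀ w, ρ (b * a⁻¹) w = w - f w • e + (f' w - f w * β) • e' := fun w => pair_apply ha hb w
    have hy2 : ∀ w, ρ ((b * a⁻¹) ^ 2) w = w - (f w + α * f' w) • e + (f' w + f w * β) • e' := by
      intro w
      rw [pow_two, map_mul, Module.End.mul_apply, hy, hy]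
      simp only [map_add, map_sub, map_smul, smul_eq_mul, ha.fe, hb.fe, ← hαdef, ← hβdef]
      set A := f w
      set B := f' w
      have c1 : -A - (A - A * 0 + (B - A * β) * α) = -(A + α * B) := by
        linear_combination A * hab
      have c2 : (B - A * β) + (B - A * β + (B - A * β) * 0 - (A - A * 0 + (B - A * β) * α) * β) =
          B + A * β := by
        linear_combination (-B + A * β) * hab + (-A * β) * h3
      calc _ = w + (-A - (A - A * 0 + (B - A * β) * α)) • e +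
            ((B - A * β) + (B - A * β + (B - A * β) * 0 - (A - A * 0 + (B - A * β) * α) * β)) • e' := by
            module
        _ = _ := by
            rw [c1, c2]
            module
    have hN : ∀ w, (ρ ((b * a⁻¹) ^ 2) - 1) w = -(f w + α * f' w) • e + (f' w + f w * β) • e' := by
      intro w
      rw [LinearMap.sub_apply, hy2, Module.End.one_apply]
      module
    have hN2 : ∀ w, (ρ ((b * a⁻¹) ^ 2) - 1) ((ρ ((b * a⁻¹) ^ 2) - 1) w) = 0 := by
      intro w
      rw [hN, hN]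
      simp only [map_add, map_sub, map_smul, smul_eq_mul, ha.fe, hb.fe, ← hαdef, ← hβdef, map_neg]
      have c1 : (0 : ZMod 3) = -(f w + α * f' w) * 0 + (f' w + f w * β) * α +
          α * (-(f w + α * f' w) * β + (f' w + f w * β) * 0) := by
        linear_combination (f' w * α) * hab
      have c2 : (0 : ZMod 3) = (-(f w + α * f' w) * β + (f' w + f w * β) * 0) +
          (-(f w + α * f' w) * 0 + (f' w + f w * β) * α) * β := by
        linear_combination (-(f w * β)) * hab
      rw [← c1, ← c2]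
      simp
    have hcube : ρ ((b * a⁻¹) ^ 2) ^ 3 ^ 2 = 1 := by
      refine pow_eq_one_of_cube ⟨e, ha.e0⟩ fun w => ?_
      exact hN2 _
    have h18 : (b * a⁻¹) ^ (2 * 3 ^ 2) = 1 := by
      apply hρ
      rw [pow_mul, map_pow, hcube, map_one]
    have hdvd : orderOf (b * a⁻¹) ∣ 2 * 3 ^ 2 := orderOf_dvd_of_pow_eq_one h18
    have hdvd2 : orderOf (b * a⁻¹) ∣ 2 :=
      Nat.Coprime.dvd_of_dvd_mul_right (Nat.Coprime.pow_right 2 hk) hdvd
    have h1 : (b * a⁻¹) ^ 2 = 1 := orderOf_dvd_iff_pow_eq_one.mp hdvd2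
    have h2 := hy2 e
    rw [h1, map_one, Module.End.one_apply, ha.fe, ← hβdef] at h2
    have h4 := congrArg f' h2
    simp only [map_add, map_sub, map_smul, smul_eq_mul, hb.fe, ← hβdef] at h4
    apply hβ
    have h5 : β * (α * β) = 0 := by linear_combination h4
    rw [hab, mul_one] at h5
    exact h5

end unip

end Cfsg.Agent.Lib.QuadAct.FFTrans
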