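import Cfsg.Agent.Lib.QuadAct.FFTrans

/-!
# Norm operators and the triple lemma
-/

set_option autoImplicit false
set_option linter.unusedSectionVars false
set_option linter.unusedSimpArgs false
set_option linter.style.haveILetI false

open scoped commutatorElement

namespace Cfsg.Agent.Lib.QuadAct.FFTriple

open Cfsg.Agent.Lib.QuadAct.FFBasic Cfsg.Agent.Lib.QuadAct.ThmA
open Cfsg.Agent.Lib.QuadAct.FFTrans
open Cfsg.Agent.Lib.Core.Basic

universe u v

variable {p : ℕ} [Fact p.Prime] {Γ : Type u} [Group Γ] [Finite Γ] {M : Type v} [AddCommGroup M]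
  [Module (ZMod p) M] [Finite M] {ρ : Γ →* Module.End (ZMod p) M}

/-- The norm operator of a subgroup. -/
noncomputable def nrm (ρ : Γ →* Module.End (ZMod p) M) (K : Subgroup Γ) : Module.End (ZMod p) M :=
  letI := Fintype.ofFinite K
  ∑ k : K, ρ (k : Γ)

theorem nrm_apply (K : Subgroup Γ) [Fintype K] (m : M) :
    nrm ρ K m = ∑ k : K, ρ (k : Γ) m := by
  unfold nrm
  rw [LinearMap.sum_apply]
  exact Finset.sum_congr (by ext; simp) (fun _ _ => rfl)

theorem rho_nrm {K : Subgroup Γ} {k : Γ} (hk : k ∈ K) (m : M) : ρ k (nrm ρ K m) = nrm ρ K m := by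
  letI := Fintype.ofFinite K
  rw [nrm_apply, map_sum]
  refine (Equiv.sum_comp (Equiv.mulLeft (⟨k, hk⟩ : K)) (fun g : K => ρ (g : Γ) m)).symm ▸ ?_
  refine Finset.sum_congr rfl fun g _ => ?_
  simp [Module.End.mul_apply]

theorem nrm_rho {K : Subgroup Γ} {k : Γ} (hk : k ∈ K) (m : M) : nrm ρ K (ρ k m) = nrm ρ K m := by
  letI := Fintype.ofFinite K
  rw [nrm_apply, nrm_apply]
  refine (Equiv.sum_comp (Equiv.mulRight (⟨k, hk⟩ : K)) (fun g : K => ρ (g : Γ) m)).symm ▸ ?_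
  refine Finset.sum_congr rfl fun g _ => ?_
  simp [Module.End.mul_apply]

theorem nrm_conj {K : Subgroup Γ} {g : Γ} (hg : g ∈ Subgroup.normalizer (K : Set Γ)) (m : M) :
    ρ g (nrm ρ K m) = nrm ρ K (ρ g m) := by
  letI := Fintype.ofFinite K
  rw [nrm_apply, nrm_apply, map_sum]
  rw [Subgroup.mem_normalizer_iff] at hg
  let σ : K ≃ K :=
    { toFun := fun k => ⟨g * k * g⁻¹, (hg k).mp k.2⟩
      invFun := fun k => ⟨g⁻¹ * k * g, (hg _).mpr (by simpa [mul_assoc] using k.2)⟩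
      left_inv := fun k => by
        apply Subtype.ext
        simp [mul_assoc]
      right_inv := fun k => by
        apply Subtype.ext
        simp [mul_assoc] }
  refine (Equiv.sum_comp σ (fun k : K => ρ (k : Γ) (ρ g m))).symm ▸ ?_
  refine Finset.sum_congr rfl fun k _ => ?_
  show ρ g (ρ (k : Γ) m) = ρ (g * k * g⁻¹) (ρ g m)
  rw [map_mul, map_mul, Module.End.mul_apply, Module.End.mul_apply, rho_inv_apply_cancel]

theorem nrm_fixed {K : Subgroup Γ} {m : M} (hm : ∀ k ∈ K, ρ k m = m) :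
    nrm ρ K m = Nat.card K • m := by
  letI := Fintype.ofFinite K
  have h : ∀ k : K, ρ (k : Γ) m = m := fun k => hm k k.2
  rw [nrm_apply]
  simp [h, Nat.card_eq_fintype_card]

theorem nrm_mem_fix (K : Subgroup Γ) (m : M) : nrm ρ K m ∈ fix ρ K := fun _ hg => rho_nrm hg m

/-- `n` invertible modulo `p`. -/
theorem eq_zero_of_nsmul_eq_zero {n : ℕ} (hn : n.Coprime p) {m : M} (h : n • m = 0) : m = 0 := by
  have h3 : p • m = 0 := by
    have : (p : ZMod p) • m = 0 := by simp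
    rwa [Nat.cast_smul_eq_nsmul] at this
  obtain ⟨s, t, hst⟩ : ∃ s t : ℤ, (n : ℤ) * s + (p : ℤ) * t = 1 := by
    exact ⟨Nat.gcdA n p, Nat.gcdB n p, by
      have := Nat.gcd_eq_gcd_ab n p
      rw [hn] at this
      push_cast at this ⊢
      linarith⟩
  calc m = ((n : ℤ) * s + (p : ℤ) * t) • m := by rw [hst, one_smul]
    _ = s • ((n : ℤ) • m) + t • ((p : ℤ) • m) := by
      rw [add_smul, mul_smul, mul_smul, smul_comm (n : ℤ) s m, smul_comm (p : ℤ) t m]
    _ = 0 := by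
      rw [natCast_zsmul, natCast_zsmul, h, h3]
      simp

/-- The norm kills the line of a transvection. -/
theorem nrm_kills {K : Subgroup Γ} {a b : Γ} {e e' : M} {f f' : M →ₗ[ZMod p] ZMod p}
    (ha : TV ρ a e f) (hb : TV ρ b e' f') (hα : f e' ≠ 0) (hk : b * a⁻¹ ∈ K)
    (hn : a ∈ Subgroup.normalizer (K : Set Γ)) : nrm ρ K e = 0 := by
  obtain ⟨u, hu⟩ := ha.f1
  set v := nrm ρ K u with hv
  have h1 : nrm ρ K e = f v • e := by
    have h2 : ρ a u - u = e := by
      rw [ha.apply, hu, one_smul, add_sub_cancel_left]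
    have h3 : ρ a v = v + f v • e := ha.apply v
    calc nrm ρ K e = nrm ρ K (ρ a u) - v := by rw [← h2, map_sub]
      _ = ρ a v - v := by rw [nrm_conj hn]
      _ = f v • e := by rw [h3, add_sub_cancel_left]
  have h2 : ρ b v = ρ a v := by
    have h3 : b = (b * a⁻¹) * a := by group
    calc ρ b v = ρ (b * a⁻¹) (ρ a v) := by
          conv_lhs => rw [h3, map_mul]
          rfl
      _ = ρ (b * a⁻¹) (nrm ρ K (ρ a u)) := by rw [hv, nrm_conj hn]
      _ = nrm ρ K (ρ a u) := rho_nrm hk _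
      _ = ρ a v := by rw [hv, nrm_conj hn]
  rw [ha.apply, hb.apply] at h2
  have h3 : f' v • e' = f v • e := add_left_cancel h2
  have h4 := congrArg f h3
  simp only [map_smul, smul_eq_mul, ha.fe, mul_zero] at h4
  have h5 : f' v = 0 := (mul_eq_zero.mp h4).resolve_right hα
  rw [h5, zero_smul] at h3
  rw [h1, ← h3]

theorem z2_sq : ∀ x : ZMod 2, x ≠ 0 → x * x = 1 := by decide
theorem z3_sq : ∀ x : ZMod 3, x ≠ 0 → x * x = 1 := by decide

theorem sq_eq_one (hp : p = 2 ∨ p = 3) {x : ZMod p} (hx : x ≠ 0) : x * x = 1 := by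
  rcases hp with rfl | rfl
  · exact z2_sq x hx
  · exact z3_sq x hx

theorem order_coprime {O : Subgroup Γ} (hOc : (Nat.card O).Coprime p) {k : Γ} (hk : k ∈ O) :
    (orderOf k).Coprime p := by
  have h1 := orderOf_dvd_natCard (⟨k, hk⟩ : O)
  rw [Subgroup.orderOf_mk] at h1
  exact Nat.Coprime.coprime_dvd_left h1 hOc

/-- Antisymmetry. -/
theorem pair_antisymm (hp : p = 2 ∨ p = 3) (hρ : Function.Injective ρ) {a b : Γ} {e e' : M}
    {f f' : M →ₗ[ZMod p] ZMod p} (ha : TV ρ a e f) (hb : TV ρ b e' f')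
    (hk : (orderOf (b * a⁻¹)).Coprime p) (hne : b ≠ a) : f' e = - f e' := by
  have h1 := pair_form hp hρ ha hb hk hne
  have h2 := (pair_nondeg hρ ha hb hk hne).1
  have h3 := sq_eq_one hp h2
  linear_combination (f e') * h1 - (f' e) * h3

theorem mem_normalizer_inf {O L : Subgroup Γ} (hOn : O.Normal) {g : Γ} (hg : g ∈ L) :
    g ∈ Subgroup.normalizer ((O ⊓ L : Subgroup Γ) : Set Γ) := by
  rw [Subgroup.mem_normalizer_iff]
  intro x
  constructor
  · rintro ⟨h1, h2⟩
    exact ⟨hOn.conj_mem x h1 g, L.mul_mem (L.mul_mem hg h2) (L.inv_mem hg)⟩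
  · rintro ⟨h1, h2⟩
    constructor
    · have := hOn.conj_mem _ h1 g⁻¹
      simpa [mul_assoc] using this
    · have := L.mul_mem (L.mul_mem (L.inv_mem hg) h2) hg
      simpa [mul_assoc] using this

/-- **The triple lemma.** -/
theorem triple (hp : p = 2 ∨ p = 3) (hρ : Function.Injective ρ) {O : Subgroup Γ} (hOn : O.Normal)
    (hOc : (Nat.card O).Coprime p) {a b c : Γ} {e₁ e₂ e₃ : M} {f₁ f₂ f₃ : M →ₗ[ZMod p] ZMod p}
    (h₁ : TV ρ a e₁ f₁) (h₂ : TV ρ b e₂ f₂) (h₃ : TV ρ c e₃ f₃) (hb : b * a⁻¹ ∈ O)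
    (hc : c * a⁻¹ ∈ O) (hba : b ≠ a) (hca : c ≠ a) (hcb : c ≠ b) :
    f₂ e₃ • e₁ + f₃ e₁ • e₂ + f₁ e₂ • e₃ = 0 := by
  have hab' : a * b⁻¹ ∈ O := by
    have := O.inv_mem hb
    simpa using this
  have hac' : a * c⁻¹ ∈ O := by
    have := O.inv_mem hc
    simpa using this
  have hcb' : c * b⁻¹ ∈ O := by
    have := O.mul_mem hc hab'
    simpa [mul_assoc] using this
  have o1 := order_coprime hOc hb
  have o2 := order_coprime hOc hc
  have o3 := order_coprime hOc hcb'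
  have o4 := order_coprime hOc hac'
  have o5 := order_coprime hOc hab'
  have s21 : f₂ e₁ = - f₁ e₂ := pair_antisymm hp hρ h₁ h₂ o1 hba
  have s31 : f₃ e₁ = - f₁ e₃ := pair_antisymm hp hρ h₁ h₃ o2 hca
  have s32 : f₃ e₂ = - f₂ e₃ := pair_antisymm hp hρ h₂ h₃ o3 hcb
  set w := f₂ e₃ • e₁ + f₃ e₁ • e₂ + f₁ e₂ • e₃ with hw
  have w1 : f₁ w = 0 := by
    simp only [hw, map_add, map_smul, smul_eq_mul, h₁.fe]
    rw [s31]
    ring
  have w2 : f₂ w = 0 := by
    simp only [hw, map_add, map_smul, smul_eq_mul, h₂.fe]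
    rw [s21]
    ring
  have w3 : f₃ w = 0 := by
    simp only [hw, map_add, map_smul, smul_eq_mul, h₃.fe]
    rw [s31, s32]
    ring
  have fa : ρ a w = w := by rw [h₁.apply, w1, zero_smul, add_zero]
  have fb : ρ b w = w := by rw [h₂.apply, w2, zero_smul, add_zero]
  have fc : ρ c w = w := by rw [h₃.apply, w3, zero_smul, add_zero]
  set L : Subgroup Γ := Subgroup.closure {a, b, c} with hL
  have haL : a ∈ L := Subgroup.subset_closure (by simp)
  have hbL : b ∈ L := Subgroup.subset_closure (by simp)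
  have hcL : c ∈ L := Subgroup.subset_closure (by simp)
  have hfixL : ∀ g ∈ L, ρ g w = w := by
    intro g hg
    induction hg using Subgroup.closure_induction with
    | mem x hx =>
      rcases hx with rfl | rfl | rfl
      · exact fa
      · exact fb
      · exact fc
    | one => simp
    | mul x y _ _ hx hy => rw [map_mul, Module.End.mul_apply, hy, hx]
    | inv x _ hx =>
      calc ρ x⁻¹ w = ρ x⁻¹ (ρ x w) := by rw [hx]
        _ = w := rho_inv_apply_cancel _ _
  set K : Subgroup Γ := O ⊓ L with hK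
  have hKc : (Nat.card K).Coprime p :=
    Nat.Coprime.coprime_dvd_left (Subgroup.card_dvd_of_le inf_le_left) hOc
  have n1 : nrm ρ K e₁ = 0 :=
    nrm_kills h₁ h₂ (pair_nondeg hρ h₁ h₂ o1 hba).1 ⟨hb, L.mul_mem hbL (L.inv_mem haL)⟩
      (mem_normalizer_inf hOn haL)
  have n2 : nrm ρ K e₂ = 0 :=
    nrm_kills h₂ h₁ (pair_nondeg hρ h₁ h₂ o1 hba).2 ⟨hab', L.mul_mem haL (L.inv_mem hbL)⟩
      (mem_normalizer_inf hOn hbL)
  have n3 : nrm ρ K e₃ = 0 :=
    nrm_kills h₃ h₁ (pair_nondeg hρ h₁ h₃ o2 hca).2 ⟨hac', L.mul_mem haL (L.inv_mem hcL)⟩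
      (mem_normalizer_inf hOn hcL)
  have h0 : nrm ρ K w = 0 := by
    rw [hw, map_add, map_add, map_smul, map_smul, map_smul, n1, n2, n3]
    simp
  rw [nrm_fixed (K := K) (m := w) (fun k hk => hfixL k (Subgroup.mem_inf.mp hk).2)] at h0
  exact eq_zero_of_nsmul_eq_zero hKc h0

end Cfsg.Agent.Lib.QuadAct.FFTriple
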