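import Cfsg.Agent.Lib.PLocal.ThompsonFunctor
import Cfsg.Agent.Lib.QuadAct.ZJ
import Cfsg.Agent.Lib.PGroups.Basic

/-!
# The normal `p`-complement theorem for the stable normal closure `W(S)`

`pc_of_normalizer_WS`: for odd `p`, `G` has a normal `p`-complement as soon as `N_G(W(S))` has one.
The functor `W` fits `Lib.PLocal.ThompsonFunctor`; in a reduced group the action is `p`-stable, so that
`W(S)` is normal by `Lib.QuadAct.ZJ.stableNormalClosure_normal`.
-/

set_option autoImplicit false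
set_option linter.unusedSectionVars false
set_option linter.unusedSimpArgs false
set_option linter.style.haveILetI false

namespace Cfsg.Agent.Lib.QuadAct.WSComplement

open Subgroup Cfsg
open scoped commutatorElement
open Cfsg.Agent.Lib.PLocal.ZJ Cfsg.Agent.Lib.PLocal.Stability Cfsg.Agent.Lib.PLocal.Quadratic
  Cfsg.Agent.Lib.PLocal.ThompsonReduction Cfsg.Agent.Lib.PLocal.ThompsonInduction
  Cfsg.Agent.Lib.PLocal.ThompsonFunctor Cfsg.Agent.Lib.Core.Basic

universe u

variable {G : Type u} [Group G] [Finite G] {p : ℕ} [Fact p.Prime]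

/-- `L` is abelian modulo `O_p(G)` of exponent prime to `p`, with `p`-group quotient. -/
structure AbMod (p : ℕ) (G : Type u) [Group G] (L : Subgroup G) (m : ℕ) : Prop where
  normal : L.Normal
  comm : ∀ x ∈ L, ∀ y ∈ L, ⁅x, y⁆ ∈ pCore p G
  coprime : m.Coprime p
  pow : ∀ x ∈ L, x ^ m ∈ pCore p G
  quot : ∀ g : G, ∃ k, g ^ (p ^ k) ∈ L

/-- The class is closed under subgroups. -/
theorem AbMod.subgroup {L : Subgroup G} {m : ℕ} (h : AbMod p G L m) (Y : Subgroup G) :
    AbMod p Y (L.subgroupOf Y) m where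
  normal := by
    haveI := h.normal
    infer_instance
  comm := fun x hx y hy => subgroupOf_pCore_le Y (by
    rw [Subgroup.mem_subgroupOf]
    exact h.comm _ hx _ hy)
  coprime := h.coprime
  pow := fun x hx => subgroupOf_pCore_le Y (by
    rw [Subgroup.mem_subgroupOf]
    exact h.pow _ hx)
  quot := fun g => by
    obtain ⟨k, hk⟩ := h.quot (g : G)
    exact ⟨k, by rw [Subgroup.mem_subgroupOf]; exact hk⟩

/-- The section step. -/
theorem AbMod.section_step {L : Subgroup G} {m : ℕ} (h : AbMod p G L m) (hp : p ≠ 2)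
    {R R₁ : Subgroup G} [hR : R.Normal] [hR₁ : R₁.Normal] (hRU : R ≤ pCore p G)
    (hU : ∀ u ∈ pCore p G, u ∈ sectionKernel R R₁) (hpow : ∀ r ∈ R, r ^ p ∈ R₁) {a : G}
    (hap : ∃ k, a ^ p ^ k = 1) (hquad : ∀ r ∈ R, ⁅a, ⁅a, r⁆⁆ ∈ R₁) :
    ∃ D : Subgroup G, D.Normal ∧ a ∈ D ∧ ∀ y ∈ D, ∃ m, y ^ (p ^ m) ∈ sectionKernel R R₁ := by
  classical
  have hLn := h.normal
  have hKn : (sectionKernel R R₁).Normal := sectionKernel_normal _ _
  set K : Subgroup G := sectionKernel R R₁ with hK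
  have hmpos : 0 < m := by
    rcases Nat.eq_zero_or_pos m with h0 | h0
    · exfalso
      have := h.coprime
      rw [h0, Nat.coprime_zero_left] at this
      exact (Fact.out : p.Prime).one_lt.ne' this
    · exact h0
  set n : ℕ := Nat.totient m with hn
  have hn0 : n ≠ 0 := (Nat.totient_pos.2 hmpos).ne'
  have hfrob : ∀ x ∈ L, x ^ (p ^ n) * x⁻¹ ∈ K := by
    intro x hx
    have h1 : p ^ n ≡ 1 [MOD m] := Nat.ModEq.pow_totient h.coprime.symm
    have hle : 1 ≤ p ^ n := Nat.one_le_pow _ _ (Fact.out : p.Prime).pos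
    obtain ⟨t, ht⟩ := (Nat.modEq_iff_dvd' hle).mp h1.symm
    have e : x ^ (p ^ n) * x⁻¹ = (x ^ m) ^ t := by
      have e1 : p ^ n = m * t + 1 := by omega
      rw [e1, pow_succ, ← pow_mul]
      group
    rw [e]
    exact hU _ (Subgroup.pow_mem _ (h.pow x hx) t)
  have hcomm := quadratic_section (R := R) (R₁ := R₁) (Fact.out : p.Prime) hp
    (fun r hr s hs => (mem_sectionKernel_iff.1 (hU r (hRU hr))) s hs) hpow hn0 (L : Set G)
    (fun x hx y hy => hU _ (h.comm x hx y hy))
    hfrob a hquad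
    (by
      intro x hx
      have h1 : a⁻¹ * x * a ∈ L := by
        have := hLn.conj_mem x hx a⁻¹
        rwa [inv_inv] at this
      exact ⟨_, h1, by rw [mul_inv_cancel]; exact one_mem _⟩)
    (by
      intro x hx
      have h1 : a * x * a⁻¹ ∈ L := hLn.conj_mem x hx a
      exact ⟨_, h1, by rw [mul_inv_cancel]; exact one_mem _⟩)
  -- pass to the quotient
  let f : G →* G ⧸ K := QuotientGroup.mk' K
  have hf1 : ∀ t : G, f t = 1 ↔ t ∈ K := fun t => by
    show (QuotientGroup.mk t : G ⧸ K) = 1 ↔ _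
    exact QuotientGroup.eq_one_iff t
  let Q : Subgroup (G ⧸ K) := L.map f
  have hQn : Q.Normal := Subgroup.Normal.map hLn _ (QuotientGroup.mk'_surjective K)
  have hQa' : ∀ x ∈ Q, ∀ y ∈ Q, x * y = y * x := by
    rintro _ ⟨x, hx, rfl⟩ _ ⟨y, hy, rfl⟩
    have h1 := (hf1 _).2 (hU _ (h.comm x hx y hy))
    rw [map_commutatorElement, commutatorElement_eq_one_iff_mul_comm] at h1
    exact h1
  have hQp : IsPGroup p ((G ⧸ K) ⧸ Q) := by
    intro z
    obtain ⟨w, rfl⟩ := QuotientGroup.mk'_surjective Q z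
    obtain ⟨g, rfl⟩ := QuotientGroup.mk'_surjective K w
    obtain ⟨k, hk⟩ := h.quot g
    refine ⟨k, ?_⟩
    rw [← map_pow, ← map_pow, QuotientGroup.mk'_apply, QuotientGroup.eq_one_iff]
    exact ⟨_, hk, rfl⟩
  have hap' : ∃ k, (f a) ^ (p ^ k) = 1 := by
    obtain ⟨k, hk⟩ := hap
    exact ⟨k, by rw [← map_pow, hk, map_one]⟩
  have hca : ∀ x ∈ Q, f a * x = x * f a := by
    rintro _ ⟨x, hx, rfl⟩
    have h1 := (hf1 _).2 (hcomm x hx)
    rw [map_commutatorElement, commutatorElement_eq_one_iff_mul_comm] at h1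
    exact h1
  exact exists_D_of_mem_pCore (mem_pCore_of_commute Q hQa' hQp hap' hca)

/-- `p`-parts. -/
theorem exists_pPart_mem (K : Subgroup G) {a : G} {j : ℕ} (h : a ^ p ^ j ∈ K) :
    ∃ u c : G, a = u * c ∧ (∃ k, u ^ p ^ k = 1) ∧ c ∈ K := by
  obtain ⟨u, v, huv, -, hk, hvc, -, hv'⟩ :=
    Cfsg.Agent.Lib.Core.Residual.exists_pPart_pPrimePart p a (isOfFinOrder_of_finite a)
  refine ⟨u, v, huv.symm, hk, ?_⟩
  obtain ⟨i, rfl⟩ := Subgroup.mem_zpowers_iff.mp hv'
  have h1 : (a ^ i) ^ p ^ j ∈ K := by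
    rw [← zpow_natCast, zpow_comm, zpow_natCast]
    exact Subgroup.zpow_mem _ h i
  have hc : Nat.Coprime (p ^ j) (orderOf (a ^ i)) := Nat.Coprime.pow_left _ hvc.symm
  set x := a ^ i with hx
  have hbez : ((p ^ j : ℕ) : ℤ) * Nat.gcdA (p ^ j) (orderOf x) +
      ((orderOf x : ℕ) : ℤ) * Nat.gcdB (p ^ j) (orderOf x) = 1 := by
    have := Nat.gcd_eq_gcd_ab (p ^ j) (orderOf x)
    rw [hc] at this
    push_cast at this ⊢
    linarith
  have e : x = (x ^ p ^ j) ^ Nat.gcdA (p ^ j) (orderOf x) := by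
    have h3 : x ^ (((p ^ j : ℕ) : ℤ) * Nat.gcdA (p ^ j) (orderOf x) +
        ((orderOf x : ℕ) : ℤ) * Nat.gcdB (p ^ j) (orderOf x)) = x := by
      rw [hbez, zpow_one]
    rw [zpow_add, zpow_mul, zpow_mul, zpow_natCast, zpow_natCast, pow_orderOf_eq_one, one_zpow,
      mul_one] at h3
    exact h3.symm
  rw [e]
  exact Subgroup.zpow_mem _ h1 _

/-- `a^n` centralizes `v` when `z = [a,v]` commutes with `a` and `z^n = 1`. -/
theorem pow_comm_of_comm_commutator {X : Type*} [Group X] {h v z : X} (hz : z = h * v * h⁻¹ * v⁻¹)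
    (hc : h * z = z * h) {n : ℕ} (hn : z ^ n = 1) : h ^ n * v = v * h ^ n := by
  have key : ∀ k : ℕ, h ^ k * v * (h ^ k)⁻¹ = z ^ k * v := by
    intro k
    induction k with
    | zero => simp
    | succ k ih =>
      have e1 : h ^ (k + 1) * v * (h ^ (k + 1))⁻¹ = h * (h ^ k * v * (h ^ k)⁻¹) * h⁻¹ := by
        rw [pow_succ']
        group
      have e2 : h * z ^ k = z ^ k * h := by
        have : Commute h (z ^ k) := Commute.pow_right hc k
        exact this
      have e3 : h * v * h⁻¹ = z * v := by rw [hz]; group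
      rw [e1, ih]
      calc h * (z ^ k * v) * h⁻¹ = (h * z ^ k) * v * h⁻¹ := by group
        _ = z ^ k * h * v * h⁻¹ := by rw [e2]
        _ = z ^ k * (h * v * h⁻¹) := by group
        _ = z ^ k * (z * v) := by rw [e3]
        _ = z ^ (k + 1) * v := by rw [pow_succ]; group
  have h3 := key n
  rw [hn, one_mul] at h3
  calc h ^ n * v = (h ^ n * v * (h ^ n)⁻¹) * h ^ n := by group
    _ = v * h ^ n := by rw [h3]

/-- Commutators do not see a factor centralizing the left entry. -/
theorem comm_mul_central {X : Type*} [Group X] {w u c : X} (hc : c * w = w * c) :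
    ⁅w, u * c⁆ = ⁅w, u⁆ := by
  simp only [commutatorElement_def]
  have : w * (u * c) * w⁻¹ = w * u * w⁻¹ * c := by
    have e : c * w⁻¹ = w⁻¹ * c := by
      have h1 : Commute c w := hc
      exact h1.inv_right
    calc w * (u * c) * w⁻¹ = w * u * (c * w⁻¹) := by group
      _ = w * u * (w⁻¹ * c) := by rw [e]
      _ = _ := by group
  rw [this]
  group

/-- Stability on a normal subgroup of `O_p(G)`, for all elements. -/
theorem AbMod.stable {L : Subgroup G} {m : ℕ} (h : AbMod p G L m) (hp : p ≠ 2)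
    (R : Subgroup G) [hRn : R.Normal] (hRU : R ≤ pCore p G) (a : G)
    (hq : ⁅⁅R, zpowers a⁆, zpowers a⁆ = ⊥) :
    (QuotientGroup.mk a : G ⧸ centralizer (R : Set G)) ∈ pCore p (G ⧸ centralizer (R : Set G)) := by
  classical
  have hRp : IsPGroup p R := (pCore_isPGroup (p := p) (G := G)).to_le hRU
  obtain ⟨t, ht⟩ := IsPGroup.iff_card.1 hRp
  have hq' : ∀ r ∈ R, ⁅⁅r, a⁆, a⁆ = 1 :=
    fun r hr => Cfsg.Agent.Lib.QuadAct.Stable.forall_of_quadratic_zpowers hq r hr
  have hpow : a ^ p ^ t ∈ centralizer (R : Set G) := by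
    rw [mem_centralizer_iff]
    intro r hr
    set z := a * r * a⁻¹ * r⁻¹ with hz
    have hzR : z ∈ R := by
      have h1 : a * r * a⁻¹ ∈ R := hRn.conj_mem r hr a
      exact R.mul_mem h1 (R.inv_mem hr)
    have hzc : a * z = z * a := by
      have h1 := hq' r hr
      rw [commutatorElement_eq_one_iff_mul_comm] at h1
      have e : z = (⁅r, a⁆)⁻¹ := by
        rw [hz, commutatorElement_def]
        group
      rw [e]
      have h2 : Commute ⁅r, a⁆ a := h1
      exact (h2.inv_left).symm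
    have hz1 : z ^ p ^ t = 1 := by
      have h3 := pow_card_eq_one' (x := (⟨z, hzR⟩ : R))
      rw [ht] at h3
      exact congrArg Subtype.val h3
    exact (pow_comm_of_comm_commutator hz hzc hz1).symm
  obtain ⟨u, c, rfl, huk, hc⟩ := exists_pPart_mem _ hpow
  have hcomm : ∀ w ∈ R, ⁅w, u * c⁆ = ⁅w, u⁆ := fun w hw =>
    comm_mul_central ((mem_centralizer_iff.mp hc w hw).symm)
  have hqu : ⁅⁅R, zpowers u⁆, zpowers u⁆ = ⊥ := by
    have hnorm : u ∈ normalizer (R : Set G) := by
      rw [normalizer_eq_top_iff.mpr hRn]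
      trivial
    refine Cfsg.Agent.Lib.QuadAct.Stable.quadratic_zpowers_of_forall hnorm fun r hr => ?_
    have h1 : ⁅r, u⁆ ∈ R := by
      rw [commutatorElement_def]
      exact R.mul_mem (by
        have e : r * u * r⁻¹ * u⁻¹ = r * (u * r⁻¹ * u⁻¹) := by group
        exact e ▸ R.mul_mem hr (hRn.conj_mem _ (R.inv_mem hr) u)) (R.one_mem) |> fun h => by
          simpa using h
    have h2 := hq' r hr
    calc ⁅⁅r, u⁆, u⁆ = ⁅⁅r, u⁆, u * c⁆ := (hcomm _ h1).symm
      _ = ⁅⁅r, u * c⁆, u * c⁆ := by rw [hcomm r hr]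
      _ = 1 := h2
  have huS : ∀ y ∈ zpowers u, ∃ k, y ^ p ^ k = 1 := by
    obtain ⟨k, hk⟩ := huk
    rintro _ ⟨i, rfl⟩
    exact ⟨k, by
      show (u ^ i) ^ p ^ k = 1
      rw [← zpow_natCast, zpow_comm, zpow_natCast, hk, one_zpow]⟩
  have hmem := stable_of_sections p (zpowers u)
    (fun R R₁ hRn hR₁n hR₁R hRU hU hpow y hy hquad =>
      h.section_step hp hRU hU hpow (huS y hy) hquad) R hRU u (mem_zpowers u) hqu
  have e : ((u * c : G) : G ⧸ centralizer (R : Set G)) = (u : G ⧸ centralizer (R : Set G)) := by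
    rw [QuotientGroup.mk_mul, (QuotientGroup.eq_one_iff c).mpr hc, mul_one]
  rw [e]
  exact hmem

theorem AbMod.stableOn {L : Subgroup G} {m : ℕ} (h : AbMod p G L m) (hp : p ≠ 2)
    (V : Subgroup G) [hVn : V.Normal] (hV : Cfsg.IsElementaryAbelian p V) : Cfsg.IsPStableOn p V := by
  have hVp : IsPGroup p V := by
    rw [isPGroup_iff_pow_pow_eq_one]
    rintro ⟨x, hx⟩
    exact ⟨1, Subtype.ext (by simpa using hV.2 x hx)⟩
  exact fun a ha => h.stable hp V (le_pCore hVn hVp) a ha

/-- Stability on the section `O_p/Φ(O_p)`. -/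
theorem AbMod.stable_section {L : Subgroup G} {m : ℕ} (h : AbMod p G L m) (hp : p ≠ 2)
    (Φ : Subgroup G) [hΦn : Φ.Normal] (hΦ : Φ = (frattini ↥(pCore p G)).map (pCore p G).subtype) :
    Cfsg.IsPStableOnSection p (pCore p G) Φ := by
  classical
  intro a ha
  set P := pCore p G with hPdef
  have hPn : P.Normal := inferInstance
  have hP : IsPGroup p P := pCore_isPGroup
  have hΦP : Φ ≤ P := by
    rw [hΦ]
    exact map_subtype_le _
  have hcomm : ∀ x ∈ P, ∀ y ∈ P, ⁅x, y⁆ ∈ Φ := by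
    intro x hx y hy
    have h1 : ⁅(⟨x, hx⟩ : P), (⟨y, hy⟩ : P)⁆ ∈ frattini ↥P :=
      Cfsg.Agent.Lib.PGroups.Basic.commutator_le_frattini hP
        (Subgroup.commutator_mem_commutator (Subgroup.mem_top _) (Subgroup.mem_top _))
    rw [hΦ]
    exact ⟨_, h1, rfl⟩
  have hpow : ∀ x ∈ P, x ^ p ∈ Φ := by
    intro x hx
    have h1 : (⟨x, hx⟩ : P) ^ p ∈ frattini ↥P :=
      Cfsg.Agent.Lib.PGroups.Basic.pow_mem_frattini hP _
    rw [hΦ]
    exact ⟨_, h1, rfl⟩
  have hKn : (sectionKernel P Φ).Normal := sectionKernel_normal _ _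
  set K : Subgroup G := sectionKernel P Φ with hKdef
  have hU : ∀ u ∈ pCore p G, u ∈ K := fun u hu =>
    mem_sectionKernel_iff.2 fun r hr => hcomm u hu r hr
  let π : G →* G ⧸ Φ := QuotientGroup.mk' Φ
  have hπ1 : ∀ t : G, π t = 1 ↔ t ∈ Φ := fun t => QuotientGroup.eq_one_iff t
  have hcommP : ∀ x r : G, r ∈ P → ⁅r, x⁆ ∈ P := by
    intro x r hr
    rw [commutatorElement_def]
    have e : r * x * r⁻¹ * x⁻¹ = r * (x * r⁻¹ * x⁻¹) := by group
    rw [e]
    exact P.mul_mem hr (hPn.conj_mem _ (P.inv_mem hr) x)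
  have hq' : ∀ r ∈ P, π ⁅r, a⁆ * π a = π a * π ⁅r, a⁆ := by
    intro r hr
    have h1 : ⁅⁅r, a⁆, a⁆ ∈ Φ :=
      ha (Subgroup.commutator_mem_commutator (Subgroup.commutator_mem_commutator hr
        (Subgroup.mem_zpowers a)) (Subgroup.mem_zpowers a))
    have h2 := (hπ1 _).2 h1
    rw [map_commutatorElement, commutatorElement_eq_one_iff_mul_comm] at h2
    exact h2
  have hap : a ^ p ^ 1 ∈ K := by
    rw [pow_one]
    refine mem_sectionKernel_iff.2 fun r hr => ?_
    rw [← hπ1, map_commutatorElement, commutatorElement_eq_one_iff_mul_comm]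
    set z := π a * π r * (π a)⁻¹ * (π r)⁻¹ with hz
    have hzc : π a * z = z * π a := by
      have e : z = (π ⁅r, a⁆)⁻¹ := by
        rw [hz, map_commutatorElement, commutatorElement_def]
        group
      rw [e]
      have h2 : Commute (π ⁅r, a⁆) (π a) := hq' r hr
      exact (h2.inv_left).symm
    have hzp : z ^ p = 1 := by
      have e : z = π ⁅a, r⁆ := by
        rw [hz, map_commutatorElement, commutatorElement_def]
      rw [e, ← map_pow, hπ1]
      have : ⁅a, r⁆ ∈ P := by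
        rw [← commutatorElement_inv]
        exact P.inv_mem (hcommP a r hr)
      exact hpow _ this
    have := pow_comm_of_comm_commutator hz hzc hzp
    rw [map_pow]
    exact this
  obtain ⟨u, c, rfl, huk, hc⟩ := exists_pPart_mem K hap
  have hccomm : ∀ v ∈ P, π c * π v = π v * π c := by
    intro v hv
    have h1 := (hπ1 _).2 ((mem_sectionKernel_iff.1 hc) v hv)
    rw [map_commutatorElement, commutatorElement_eq_one_iff_mul_comm] at h1
    exact h1
  have hcomm2 : ∀ v ∈ P, ⁅π v, π (u * c)⁆ = ⁅π v, π u⁆ := fun v hv => by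
    rw [map_mul]
    exact comm_mul_central (hccomm v hv)
  have hquad : ∀ r ∈ P, ⁅u, ⁅u, r⁆⁆ ∈ Φ := by
    intro r hr
    rw [← hπ1, map_commutatorElement, map_commutatorElement, commutatorElement_eq_one_iff_mul_comm]
    have h1 : ⁅r, u⁆ ∈ P := hcommP u r hr
    have h2 := hq' r hr
    have h3 : π ⁅r, u * c⁆ = π ⁅r, u⁆ := by
      rw [map_commutatorElement, hcomm2 r hr, map_commutatorElement]
    rw [h3] at h2
    have h4 : ⁅π ⁅r, u⁆, π u⁆ = 1 := by
      rw [← hcomm2 _ h1, commutatorElement_eq_one_iff_mul_comm]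
      exact h2
    rw [commutatorElement_eq_one_iff_mul_comm] at h4
    have e : ⁅π u, π r⁆ = (π ⁅r, u⁆)⁻¹ := by
      rw [map_commutatorElement, commutatorElement_inv]
    rw [e]
    have h5 : Commute (π ⁅r, u⁆) (π u) := h4
    exact h5.inv_left.symm
  obtain ⟨D₀, hD₀, huD, hy⟩ := h.section_step hp (le_refl _) hU hpow huk hquad
  have hmem : (u : G ⧸ K) ∈ pCore p (G ⧸ K) := mem_pCore_of_D hD₀ huD hy
  have hmem' : ((u * c : G) : G ⧸ K) ∈ pCore p (G ⧸ K) := by
    rw [QuotientGroup.mk_mul, (QuotientGroup.eq_one_iff c).mpr hc, mul_one]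
    exact hmem
  refine ⟨(pCore p (G ⧸ K)).comap (QuotientGroup.mk' K), Subgroup.Normal.comap inferInstance _,
      ?_, ?_, hmem'⟩
  · intro x hx
    rw [Subgroup.mem_comap]
    have : QuotientGroup.mk' K x = 1 := (QuotientGroup.eq_one_iff x).mpr hx
    rw [this]
    exact Subgroup.one_mem _
  · have hK : K = (⊥ : Subgroup (G ⧸ K)).comap (QuotientGroup.mk' K) := by
      ext x
      rw [Subgroup.mem_comap, Subgroup.mem_bot]
      exact (QuotientGroup.eq_one_iff x).symm
    obtain ⟨k, hk⟩ := (IsPGroup.iff_card (p := p)).mp (pCore_isPGroup (p := p) (G := G ⧸ K))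
    refine ⟨k, ?_⟩
    have h1 := Subgroup.relIndex_comap (⊥ : Subgroup (G ⧸ K)) (QuotientGroup.mk' K)
      ((Cfsg.pCore p (G ⧸ K)).comap (QuotientGroup.mk' K))
    rw [← hK, Subgroup.map_comap_eq_self_of_surjective (QuotientGroup.mk'_surjective K),
      Subgroup.relIndex_bot_left, hk] at h1
    exact h1

/-- The class is `p`-stable in the sense of `IsActionPStable`. -/
theorem AbMod.isActionPStable {L : Subgroup G} {m : ℕ} (h : AbMod p G L m) (hp : p ≠ 2) :
    Cfsg.IsActionPStable p G := by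
  refine ⟨fun V _ hV => h.stableOn hp V hV, h.stable_section hp _ rfl, ?_⟩
  intro S V hVn hle
  have hEA : Cfsg.IsElementaryAbelian p (V.map (Subgroup.normalizer
      (Cfsg.thompsonSubgroupOf p (S : Subgroup G) : Set G)).subtype) := by
    refine Cfsg.Agent.Lib.QuadAct.Replacement.IsElementaryAbelian_of_le ?_ hle
    exact Cfsg.Agent.Lib.QuadAct.Stable.isElementaryAbelian_map
      Cfsg.Agent.Lib.QuadAct.Stable.omegaCenterThompson_isElementaryAbelian _
  have hV : Cfsg.IsElementaryAbelian p V := by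
    have := Cfsg.Agent.Lib.QuadAct.ZJ.isElementaryAbelian_comap
      (Subgroup.normalizer (Cfsg.thompsonSubgroupOf p (S : Subgroup G) : Set G)).subtype
      (Subgroup.subtype_injective _) hEA
    rwa [Subgroup.comap_map_eq_self_of_injective (Subgroup.subtype_injective _)] at this
  exact (h.subgroup _).stableOn hp V hV

/-- Reduced groups belong to the class. -/
theorem abMod_of_reduced {P : Sylow p G} {Q₀ : Subgroup G} (hr : Reduced p G P Q₀) :
    AbMod p G (pCore p G ⊔ Q₀) (Nat.card Q₀) := by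
  let f : G →* G ⧸ pCore p G := QuotientGroup.mk' _
  have hf1 : ∀ t : G, f t = 1 ↔ t ∈ pCore p G := fun t => QuotientGroup.eq_one_iff t
  have hdec : ∀ z ∈ pCore p G ⊔ Q₀, ∃ x ∈ Q₀, f z = f x := by
    intro z hz
    rw [sup_comm] at hz
    obtain ⟨x, hx, u, hu, rfl⟩ := mem_sup_of_normal_right.1 hz
    exact ⟨x, hx, by rw [map_mul, (hf1 u).2 hu, mul_one]⟩
  refine ⟨hr.normal, ?_, hr.coprime, ?_, hr.quot⟩
  · intro x hx y hy
    obtain ⟨x', hx', ex⟩ := hdec x hx
    obtain ⟨y', hy', ey⟩ := hdec y hy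
    rw [← hf1, map_commutatorElement, ex, ey, ← map_commutatorElement, (hf1 _).2]
    rw [commutatorElement_eq_one_iff_mul_comm.mpr (hr.comm x' hx' y' hy')]
    exact one_mem _
  · intro x hx
    obtain ⟨x', hx', ex⟩ := hdec x hx
    rw [← hf1, map_pow, ex, ← map_pow]
    have h1 : x' ^ Nat.card Q₀ = 1 := by
      have := pow_card_eq_one' (x := (⟨x', hx'⟩ : Q₀))
      exact congrArg Subtype.val this
    rw [h1, map_one]

/-! ### The functor -/

/-- The functor `W` on subgroups. -/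
noncomputable abbrev WF {X : Type u} [Group X] (T : Subgroup X) : Subgroup X :=
  (Cfsg.stableNormalClosure p ↥T).map T.subtype

theorem pFunctor_WF :
    PFunctor p (fun {X : Type u} [Group X] (T : Subgroup X) => WF (p := p) T) where
  map_eq := by
    intro X Y _ _ _ _ f T _ h
    show ((Cfsg.stableNormalClosure p ↥T).map T.subtype).map f =
      (Cfsg.stableNormalClosure p ↥(T.map f)).map (T.map f).subtype
    rw [Subgroup.map_map, comp_equivMapOfInf f T h, ← Subgroup.map_map]
    congr 1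
    exact Cfsg.Agent.Lib.QuadAct.Stable.map_stableNormalClosure (equivMapOfInf f T h)
  le := fun T => Subgroup.map_subtype_le _
  ne_bot := by
    intro X _ _ T hT hb h0
    have hnt : Nontrivial T := (Subgroup.nontrivial_iff_ne_bot T).2 hb
    have hS := (Cfsg.Agent.Lib.QuadAct.Stable.stableNormalClosure_basic (p := p) (S := T) hT).2.2.2.1 hnt
    apply hS
    have h1 : (Cfsg.stableNormalClosure p ↥T).map T.subtype = ⊥ := h0
    rwa [Subgroup.map_eq_bot_iff_of_injective _ T.subtype_injective] at h1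

/-- **The normal `p`-complement theorem for `W(S)`**. -/
theorem pc_of_normalizer_WS {G : Type u} [Group G] [Finite G] (hp : p ≠ 2) (P : Sylow p G)
    (h : HasNormalPComplement p (normalizer ((WF (p := p) (P : Subgroup G)) : Set G))) :
    HasNormalPComplement p G := by
  refine reduction (thompsonHyp (pFunctor_WF (p := p)) lFunctor_normalizer) ?_ _ G P rfl h
  intro G _ _ P Q₀ hyp hr
  have hst := (abMod_of_reduced hr).isActionPStable hp
  have hn : (WF (p := p) (P : Subgroup G)).Normal :=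
    Cfsg.Agent.Lib.QuadAct.ZJ.stableNormalClosure_normal hst hr.constr P
  change HasNormalPComplement p (normalizer ((WF (p := p) (P : Subgroup G)) : Set G)) at hyp
  rw [normalizer_eq_top_iff.mpr hn] at hyp
  exact hr.not_pc_top hyp

end Cfsg.Agent.Lib.QuadAct.WSComplement
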